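import Cfsg.Agent.Lib.PiHom.Basic
import Cfsg.Agent.Lib.OddOrder.SylowOf

/-!
# The minimal counterexample
-/

set_option autoImplicit false
set_option linter.style.haveILetI false

namespace CfsgLib.PiHom

open CfsgLib.OddOrder (SylowOf)
open scoped Pointwise

universe u

/-- the group generated by the elements of `U` of order prime to π -/
def core {G : Type u} [Group G] (π : Set ℕ) (U : Subgroup G) : Subgroup G :=
  Subgroup.closure {x : G | x ∈ U ∧ PrimeTo π (orderOf x)}

/-- a minimal counterexample -/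
structure Crit (π : Set ℕ) (G : Type u) [Group G] [Finite G] : Prop where
  two_mem : (2 : ℕ) ∈ π
  simple : IsSimpleGroup G
  nonab : ¬ IsMulCommutative G
  twoClosed : TwoClosed π G
  homog : Homog π G
  sub : ∀ U : Subgroup G, U ≠ ⊤ → Closed π ↥U

section Reduction

variable {π : Set ℕ}

theorem closed_of_normal {G : Type u} [Group G] [Finite G] (h2 : (2 : ℕ) ∈ π)
    (htc : TwoClosed π G) (hom : Homog π G) (N : Subgroup G) [N.Normal]
    (hq : TwoClosed π (G ⧸ N) → Homog π (G ⧸ N) → Closed π (G ⧸ N))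
    (hsub : ∀ U : Subgroup G, U ≠ ⊤ → Closed π ↥U) (hne : N ≠ ⊥)
    (hN : PiNum π (Nat.card ↥N) ∨ PrimeTo π (Nat.card ↥N)) : Closed π G := by
  have hord : ∀ x : G, orderOf (x : G ⧸ N) ∣ orderOf x := fun x =>
    orderOf_map_dvd (QuotientGroup.mk' N) x
  have hcl : Closed π (G ⧸ N) := hN.elim
    (fun h => hq (twoClosed_quotient_piNum N h htc) (homog_quotient_piNum N h hom))
    (fun h => hq (twoClosed_quotient_primeTo N h htc) (homog_quotient_primeTo N h2 h hom))
  obtain ⟨Kb, hKb⟩ := hcl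
  set L := Kb.comap (QuotientGroup.mk' N) with hL
  have hmem : ∀ x : G, PrimeTo π (orderOf x) → x ∈ L := fun x hx =>
    (hKb _).2 (hx.dvd (hord x))
  have hcard : Nat.card ↥L = Nat.card ↥N * Nat.card ↥Kb := card_comap_mk' N Kb
  have hKbc : PrimeTo π (Nat.card ↥Kb) := primeTo_card fun y hy => (hKb y).1 hy
  rcases hN with hN | hN
  · by_cases hLtop : L = ⊤
    · -- G/N is a π'-group
      have hidx : N.index = Nat.card ↥Kb := by
        have h1 := N.card_mul_index
        have h2' : Nat.card ↥L = Nat.card G := by rw [hLtop, Subgroup.card_top]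
        rw [← h2', hcard] at h1
        exact mul_left_cancel₀ Nat.card_pos.ne' h1
      obtain ⟨Q, hQ⟩ := Subgroup.exists_right_complement'_of_coprime (N := N)
        (by rw [hidx]; exact hN.coprime hKbc)
      have hQc : Nat.card ↥Q = N.index := by
        have h1 := hQ.card_mul_card
        rw [← N.card_mul_index] at h1
        exact mul_left_cancel₀ Nat.card_pos.ne' h1
      have hQpr : ∀ q ∈ Q, PrimeTo π (orderOf q) := fun q hq => by
        have h1 := orderOf_dvd_natCard (⟨q, hq⟩ : ↥Q)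
        rw [Subgroup.orderOf_mk, hQc, hidx] at h1
        exact hKbc.dvd h1
      have hQC : ∀ q ∈ Q, q ∈ Subgroup.centralizer (N : Set G) := by
        intro q hq
        have h1 := hom N hne hN
        rw [Subgroup.normalizer_eq_top (H := N), Subgroup.relIndex_top_right] at h1
        haveI : (Subgroup.centralizer (N : Set G)).Normal := by
          have := normalizer_le_normalizer_centralizer N
          rw [Subgroup.normalizer_eq_top (H := N), top_le_iff] at this
          exact Subgroup.normalizer_eq_top_iff.1 this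
        rw [Subgroup.index_eq_card] at h1
        have h3 : orderOf (q : G ⧸ Subgroup.centralizer (N : Set G)) = 1 :=
          (h1.dvd (orderOf_dvd_natCard _)).eq_one ((hQpr q hq).dvd
            (orderOf_map_dvd (QuotientGroup.mk' (Subgroup.centralizer (N : Set G))) q))
        exact (QuotientGroup.eq_one_iff q).1 (orderOf_eq_one_iff.1 h3)
      have hQn : Q.Normal := by
        refine ⟨fun q hq g => ?_⟩
        obtain ⟨⟨n, q'⟩, hg, -⟩ := hQ.existsUnique g
        have hmemQ : (q' : G) * q * (q' : G)⁻¹ ∈ Q := Q.mul_mem (Q.mul_mem q'.2 hq) (Q.inv_mem q'.2)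
        have h1 : (n : G) * ((q' : G) * q * (q' : G)⁻¹) = (q' : G) * q * (q' : G)⁻¹ * (n : G) :=
          Subgroup.mem_centralizer_iff.1 (hQC _ hmemQ) n n.2
        rw [← (hg : (n : G) * (q' : G) = g)]
        rw [show (n : G) * q' * q * ((n : G) * q')⁻¹ = n * ((q' : G) * q * (q' : G)⁻¹) * (n : G)⁻¹ by
          group, h1, mul_inv_cancel_right]
        exact hmemQ
      refine ⟨Q, fun x => ⟨hQpr x, fun hx => ?_⟩⟩
      have h1 : Q.index = Nat.card ↥N := hQ.index_eq_card
      rw [Subgroup.index_eq_card] at h1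
      have h3 : orderOf (x : G ⧸ Q) = 1 :=
        (hN.dvd (h1 ▸ orderOf_dvd_natCard (x : G ⧸ Q))).eq_one
          (hx.dvd (orderOf_map_dvd (QuotientGroup.mk' Q) x))
      exact (QuotientGroup.eq_one_iff x).1 (orderOf_eq_one_iff.1 h3)
    · obtain ⟨K, hK⟩ := hsub L hLtop
      refine ⟨K.map L.subtype, fun x => ⟨?_, fun hx => ⟨⟨x, hmem x hx⟩, (hK _).2 ?_, rfl⟩⟩⟩
      · rintro ⟨y, hy, rfl⟩
        rw [Subgroup.coe_subtype, Subgroup.orderOf_coe]
        exact (hK y).1 hy
      · rw [Subgroup.orderOf_mk]; exact hx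
  · refine ⟨L, fun x => ⟨fun hx => ?_, hmem x⟩⟩
    have h1 := orderOf_dvd_natCard (⟨x, hx⟩ : ↥L)
    rw [Subgroup.orderOf_mk, hcard] at h1
    exact (hN.mul hKbc).dvd h1

/-- Everything reduces to the non-existence of a minimal counterexample. -/
theorem closed_of_homog
    (hno : ∀ (G : Type u) [Group G] [Finite G], Crit π G → False) (h2 : (2 : ℕ) ∈ π) :
    ∀ (G : Type u) [Group G] [Finite G], TwoClosed π G → Homog π G → Closed π G := by
  suffices h : ∀ (m : ℕ) (G : Type u) [Group G] [Finite G], Nat.card G ≤ m →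
      TwoClosed π G → Homog π G → Closed π G from fun G _ _ => h _ G le_rfl
  intro m
  induction m with
  | zero => intro G _ _ hc; have := Nat.card_pos (α := G); omega
  | succ m ih =>
    intro G _ _ hc htc hom
    have hsub : ∀ U : Subgroup G, U ≠ ⊤ → Closed π ↥U := fun U hU => by
      refine ih ↥U ?_ (htc.subgroup U) (hom.subgroup U)
      have : Nat.card ↥U < Nat.card G := lt_of_le_of_ne (Subgroup.card_le_card_group U) fun h =>
        hU (Subgroup.eq_top_of_card_eq U h)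
      omega
    by_cases hsimp : ∀ N : Subgroup G, N.Normal → N = ⊥ ∨ N = ⊤
    · rcases subsingleton_or_nontrivial G with hs | hnt
      · exact ⟨⊥, fun x => by simp [Subsingleton.elim x 1, primeTo_one]⟩
      haveI : IsSimpleGroup G := ⟨fun N hN => hsimp N hN⟩
      by_cases hab : IsMulCommutative G
      · letI : CommGroup G := { (inferInstance : Group G) with mul_comm := hab.is_comm.comm }
        haveI := IsSimpleGroup.isCyclic (α := G)
        have hp := IsSimpleGroup.prime_card (α := G)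
        have hord : ∀ x : G, x ≠ 1 → orderOf x = Nat.card G := fun x hx =>
          ((Nat.dvd_prime hp).1 (orderOf_dvd_natCard x)).resolve_left fun h =>
            hx (orderOf_eq_one_iff.1 h)
        by_cases hpi : Nat.card G ∈ π
        · refine ⟨⊥, fun x => ⟨fun hx => by simp [Subgroup.mem_bot.1 hx, primeTo_one],
            fun hx => Subgroup.mem_bot.2 (by_contra fun h => hx _ hp (hord x h ▸ dvd_refl _) hpi)⟩⟩
        · refine ⟨⊤, fun x => ⟨fun _ r hr hd => ?_, fun _ => Subgroup.mem_top x⟩⟩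
          rw [(Nat.prime_dvd_prime_iff_eq hr hp).1 (hd.trans (orderOf_dvd_natCard x))]
          exact hpi
      · exact (hno G ⟨h2, inferInstance, hab, htc, hom, hsub⟩).elim
    · push Not at hsimp
      obtain ⟨N, hN, hNbot, hNtop⟩ := hsimp
      obtain ⟨K, hK⟩ := hsub N hNtop
      set K' := K.map N.subtype with hK'
      have hK'mem : ∀ x : G, x ∈ K' ↔ x ∈ N ∧ PrimeTo π (orderOf x) := fun x => by
        constructor
        · rintro ⟨y, hy, rfl⟩
          exact ⟨y.2, by rw [Subgroup.coe_subtype, Subgroup.orderOf_coe]; exact (hK y).1 hy⟩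
        · rintro ⟨hx, ho⟩
          exact ⟨⟨x, hx⟩, (hK _).2 (by rw [Subgroup.orderOf_mk]; exact ho), rfl⟩
      haveI : K'.Normal := ⟨fun x hx g => (hK'mem _).2
        ⟨hN.conj_mem x ((hK'mem x).1 hx).1 g, primeTo_orderOf_conj g ((hK'mem x).1 hx).2⟩⟩
      have hlt : ∀ R : Subgroup G, R.Normal → R ≠ ⊥ → Nat.card (G ⧸ R) ≤ m := fun R _ hR => by
        have h1 := R.card_mul_index
        rw [Subgroup.index_eq_card] at h1
        have h3 := R.one_lt_card_iff_ne_bot.2 hR
        have h4 : 0 < Nat.card (G ⧸ R) := Nat.card_pos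
        nlinarith
      by_cases hKb : K' = ⊥
      · exact closed_of_normal h2 htc hom N (ih (G ⧸ N) (hlt N hN hNbot)) hsub hNbot
          (Or.inl (piNum_card fun x hx ho => by
            have h1 : x ∈ K' := (hK'mem x).2 ⟨hx, ho⟩
            rw [hKb] at h1
            exact Subgroup.mem_bot.1 h1))
      · exact closed_of_normal h2 htc hom K' (ih (G ⧸ K') (hlt K' inferInstance hKb)) hsub hKb
          (Or.inr (primeTo_card fun x hx => ((hK'mem x).1 hx).2))

end Reduction

variable {π : Set ℕ} {G : Type u} [Group G] [Finite G]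

omit [Finite G] in
theorem core_le (U : Subgroup G) : core π U ≤ U := (Subgroup.closure_le _).2 fun _ hx => hx.1

omit [Finite G] in
theorem mem_core_of {U : Subgroup G} {x : G} (hx : x ∈ U) (h : PrimeTo π (orderOf x)) :
    x ∈ core π U := Subgroup.subset_closure ⟨hx, h⟩

omit [Finite G] in
theorem core_mono {U V : Subgroup G} (h : U ≤ V) : core π U ≤ core π V :=
  Subgroup.closure_mono fun _ hx => ⟨h hx.1, hx.2⟩

omit [Finite G] in
theorem conj_mem_core {U : Subgroup G} {g x : G} (hg : g ∈ Subgroup.normalizer (U : Set G))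
    (hx : x ∈ core π U) : g * x * g⁻¹ ∈ core π U := by
  induction hx using Subgroup.closure_induction with
  | mem y hy =>
    exact mem_core_of ((Subgroup.mem_normalizer_iff.1 hg y).1 hy.1) (primeTo_orderOf_conj g hy.2)
  | one => simp
  | mul a b _ _ ha hb =>
    rw [show g * (a * b) * g⁻¹ = (g * a * g⁻¹) * (g * b * g⁻¹) by group]
    exact mul_mem ha hb
  | inv a _ ha =>
    rw [show g * a⁻¹ * g⁻¹ = (g * a * g⁻¹)⁻¹ by group]
    exact inv_mem ha

omit [Finite G] in
theorem le_normalizer_core (U : Subgroup G) :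
    Subgroup.normalizer (U : Set G) ≤ Subgroup.normalizer (core π U : Set G) := by
  intro g hg
  rw [Subgroup.mem_normalizer_iff]
  refine fun x => ⟨conj_mem_core hg, fun h => ?_⟩
  simpa [mul_assoc] using conj_mem_core (inv_mem hg) h

/-- a subgroup conjugate: `g T g⁻¹` -/
def conjBy (g : G) (T : Subgroup G) : Subgroup G := T.map (MulAut.conj g).toMonoidHom

omit [Finite G] in
theorem mem_conjBy {g x : G} {T : Subgroup G} : x ∈ conjBy g T ↔ ∃ t ∈ T, g * t * g⁻¹ = x :=
  ⟨fun ⟨t, ht, h⟩ => ⟨t, ht, h⟩, fun ⟨t, ht, h⟩ => ⟨t, ht, h⟩⟩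

omit [Finite G] in
theorem conj_mem_conjBy {g x : G} {T : Subgroup G} (h : x ∈ T) : g * x * g⁻¹ ∈ conjBy g T :=
  mem_conjBy.2 ⟨x, h, rfl⟩

omit [Finite G] in
theorem conjBy_le {g : G} {Y T : Subgroup G} :
    conjBy g Y ≤ T ↔ ∀ y ∈ Y, g * y * g⁻¹ ∈ T :=
  ⟨fun h _ hy => h (conj_mem_conjBy hy), fun h x hx => by
    obtain ⟨y, hy, rfl⟩ := mem_conjBy.1 hx
    exact h y hy⟩

omit [Finite G] in
theorem conjBy_mul (g h : G) (T : Subgroup G) : conjBy (g * h) T = conjBy g (conjBy h T) := by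
  rw [conjBy, conjBy, conjBy, Subgroup.map_map]
  congr 1
  ext x
  simp [mul_assoc]

omit [Finite G] in
theorem conjBy_mono (g : G) {Y T : Subgroup G} (h : Y ≤ T) : conjBy g Y ≤ conjBy g T :=
  Subgroup.map_mono h

omit [Finite G] in
theorem card_conjBy (g : G) (T : Subgroup G) : Nat.card ↥(conjBy g T) = Nat.card ↥T :=
  Subgroup.card_map_of_injective (MulAut.conj g).injective

omit [Finite G] in
theorem isPGroup_conjBy {p : ℕ} (g : G) {T : Subgroup G} (h : IsPGroup p T) :
    IsPGroup p (conjBy g T) := h.map _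

theorem conjBy_eq_iff {g : G} {T : Subgroup G} :
    conjBy g T = T ↔ g ∈ Subgroup.normalizer (T : Set G) := by
  constructor
  · intro h
    rw [Subgroup.mem_normalizer_iff]
    intro x
    refine ⟨fun hx => h ▸ conj_mem_conjBy hx, fun hx => ?_⟩
    rw [← h, mem_conjBy] at hx
    obtain ⟨t, ht, e⟩ := hx
    rwa [← mul_left_cancel (mul_right_cancel e)]
  · intro h
    refine Subgroup.eq_of_le_of_card_ge (conjBy_le.2 fun y hy => ?_) (card_conjBy g T).ge
    exact (Subgroup.mem_normalizer_iff.1 h y).1 hy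

namespace Crit

variable (hc : Crit π G)
include hc

theorem mem_core {U : Subgroup G} (hU : U ≠ ⊤) {x : G} :
    x ∈ core π U ↔ x ∈ U ∧ PrimeTo π (orderOf x) := by
  refine ⟨fun hx => ?_, fun hx => mem_core_of hx.1 hx.2⟩
  obtain ⟨K, hK⟩ := hc.sub U hU
  have hle : core π U ≤ K.map U.subtype := by
    refine (Subgroup.closure_le _).2 fun y hy => ⟨⟨y, hy.1⟩, (hK _).2 ?_, rfl⟩
    rw [Subgroup.orderOf_mk]; exact hy.2
  obtain ⟨y, hy, rfl⟩ := hle hx
  exact ⟨y.2, by rw [Subgroup.coe_subtype, Subgroup.orderOf_coe]; exact (hK y).1 hy⟩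

theorem primeTo_core {U : Subgroup G} (hU : U ≠ ⊤) : PrimeTo π (Nat.card ↥(core π U)) :=
  primeTo_card fun _ hx => ((hc.mem_core hU).1 hx).2

theorem odd_core {U : Subgroup G} (hU : U ≠ ⊤) : Odd (Nat.card ↥(core π U)) :=
  (hc.primeTo_core hU).odd hc.two_mem

theorem isSolvable_core {U : Subgroup G} (hU : U ≠ ⊤) : Group.IsSolvable ↥(core π U) :=
  CfsgLib.PF.oddSolvable _ (hc.odd_core hU)

theorem piNum_relIndex_core {U : Subgroup G} (hU : U ≠ ⊤) :
    PiNum π ((core π U).relIndex U) := by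
  haveI : ((core π U).subgroupOf U).Normal :=
    Subgroup.normal_subgroupOf_of_le_normalizer (Subgroup.le_normalizer.trans (le_normalizer_core U))
  intro p hp hd
  haveI : Fact p.Prime := ⟨hp⟩
  rw [Subgroup.relIndex, Subgroup.index_eq_card] at hd
  obtain ⟨y, hy⟩ := exists_prime_orderOf_dvd_card' p hd
  obtain ⟨x, rfl⟩ := QuotientGroup.mk_surjective y
  by_contra hpi
  obtain ⟨e, m, hm, hem⟩ := Nat.exists_eq_pow_mul_and_not_dvd (orderOf_pos x).ne' p hp.ne_one
  have hxm : x ^ m ∈ (core π U).subgroupOf U := by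
    rw [Subgroup.mem_subgroupOf]
    refine mem_core_of (x ^ m).2 fun r hr hrd => ?_
    have h1 : orderOf ((x ^ m : ↥U) : G) ∣ p ^ e := orderOf_dvd_of_pow_eq_one (by
      rw [Subgroup.coe_pow, ← pow_mul, mul_comm, ← hem, ← Subgroup.coe_pow, pow_orderOf_eq_one,
        Subgroup.coe_one])
    rw [(Nat.prime_dvd_prime_iff_eq hr hp).1 (hr.dvd_of_dvd_pow (hrd.trans h1))]
    exact hpi
  have h1 : (x : ↥U ⧸ (core π U).subgroupOf U) ^ m = 1 := by
    rw [← QuotientGroup.mk_pow]; exact (QuotientGroup.eq_one_iff _).2 hxm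
  exact hm (hy ▸ orderOf_dvd_of_pow_eq_one h1)

/-- An element of order prime to π normalising a π-subgroup centralises it. -/
theorem mem_centralizer_of_primeTo {H : Subgroup G} (hH : PiNum π (Nat.card ↥H)) {k : G}
    (hk : k ∈ Subgroup.normalizer (H : Set G)) (ho : PrimeTo π (orderOf k)) :
    k ∈ Subgroup.centralizer (H : Set G) := by
  by_cases hH1 : H = ⊥
  · subst hH1
    rw [Subgroup.mem_centralizer_iff]
    intro x hx
    rw [Subgroup.coe_bot, Set.mem_singleton_iff] at hx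
    simp [hx]
  set N := Subgroup.normalizer (H : Set G)
  set C := Subgroup.centralizer (H : Set G)
  haveI : (C.subgroupOf N).Normal :=
    Subgroup.normal_subgroupOf_of_le_normalizer (normalizer_le_normalizer_centralizer H)
  have h1 : PiNum π (C.relIndex N) := hc.homog H hH1 hH
  rw [Subgroup.relIndex, Subgroup.index_eq_card] at h1
  have h2 : orderOf ((⟨k, hk⟩ : ↥N) : ↥N ⧸ C.subgroupOf N) = 1 :=
    (h1.dvd (orderOf_dvd_natCard _)).eq_one (ho.dvd
      ((orderOf_map_dvd (QuotientGroup.mk' (C.subgroupOf N)) (⟨k, hk⟩ : ↥N)).trans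
        (by rw [Subgroup.orderOf_mk])))
  exact Subgroup.mem_subgroupOf.1 ((QuotientGroup.eq_one_iff _).1 (orderOf_eq_one_iff.1 h2))

theorem core_le_centralizer {U H : Subgroup G} (hU : U ≠ ⊤) (hH : PiNum π (Nat.card ↥H))
    (hUH : U ≤ Subgroup.normalizer (H : Set G)) : core π U ≤ Subgroup.centralizer (H : Set G) :=
  fun _ hk => hc.mem_centralizer_of_primeTo hH (hUH (core_le U hk)) ((hc.mem_core hU).1 hk).2

/-- A 2-subgroup normalising an odd π-subgroup centralises it. -/
theorem commute_of_two_group {X T : Subgroup G} (hX : PiNum π (Nat.card ↥X))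
    (hXodd : Odd (Nat.card ↥X)) (hT : IsPGroup 2 ↥T)
    (hn : T ≤ Subgroup.normalizer (X : Set G)) : T ≤ Subgroup.centralizer (X : Set G) := by
  haveI : Fact (Nat.Prime 2) := ⟨Nat.prime_two⟩
  set L := X ⊔ T with hL
  haveI : (X.subgroupOf L).Normal := Subgroup.normal_subgroupOf_of_le_normalizer
    (sup_le Subgroup.le_normalizer hn)
  have hq : IsPGroup 2 (↥L ⧸ X.subgroupOf L) := by
    refine hT.of_surjective ((QuotientGroup.mk' (X.subgroupOf L)).comp
      (Subgroup.inclusion (le_sup_right : T ≤ L))) fun y => ?_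
    obtain ⟨⟨l, hl⟩, rfl⟩ := QuotientGroup.mk_surjective y
    obtain ⟨x, hx, t, ht, rfl⟩ : ∃ x ∈ X, ∃ t ∈ T, x * t = l := by
      have h1 : l ∈ ((X ⊔ T : Subgroup G) : Set G) := hl
      rw [Subgroup.coe_mul_of_right_le_normalizer_left X T hn] at h1
      exact h1
    refine ⟨⟨t, ht⟩, (QuotientGroup.eq).2 ?_⟩
    rw [Subgroup.mem_subgroupOf]
    simp only [Subgroup.coe_mul, Subgroup.coe_inv, Subgroup.coe_inclusion]
    rw [show t⁻¹ * (x * t) = t⁻¹ * x * t⁻¹⁻¹ by group]
    exact (Subgroup.mem_normalizer_iff.1 (inv_mem (hn ht)) x).1 hx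
  have hLpi : PiNum π (Nat.card ↥L) := by
    obtain ⟨k, hk⟩ := IsPGroup.iff_card.1 hq
    rw [← Subgroup.card_mul_index (X.subgroupOf L), Subgroup.index_eq_card, hk,
      Nat.card_congr (Subgroup.subgroupOfEquivOfLe le_sup_left).toEquiv]
    exact hX.mul (piNum_two_pow hc.two_mem k)
  obtain ⟨P, hP⟩ := (hT.of_equiv (Subgroup.subgroupOfEquivOfLe
    (le_sup_right : T ≤ L)).symm).exists_le_sylow
  have hPn := hc.twoClosed L hLpi P
  intro t ht
  rw [Subgroup.mem_centralizer_iff]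
  intro x hx
  let tl : ↥L := ⟨t, le_sup_right (a := X) ht⟩
  let xl : ↥L := ⟨x, le_sup_left (b := T) hx⟩
  have h1 : tl * xl * tl⁻¹ * xl⁻¹ ∈ (P : Subgroup ↥L) := by
    have ht' : tl ∈ (P : Subgroup ↥L) := hP ht
    rw [show tl * xl * tl⁻¹ * xl⁻¹ = tl * (xl * tl⁻¹ * xl⁻¹) by group]
    exact mul_mem ht' (hPn.conj_mem _ (inv_mem ht') xl)
  have h2 : t * x * t⁻¹ * x⁻¹ ∈ X :=
    X.mul_mem ((Subgroup.mem_normalizer_iff.1 (hn ht) x).1 hx) (X.inv_mem hx)
  have h3 : orderOf (t * x * t⁻¹ * x⁻¹) = 1 := by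
    obtain ⟨k, hk⟩ := IsPGroup.iff_orderOf.1 P.isPGroup' ⟨_, h1⟩
    rw [Subgroup.orderOf_mk] at hk
    have e : ((tl * xl * tl⁻¹ * xl⁻¹ : ↥L) : G) = t * x * t⁻¹ * x⁻¹ := rfl
    rw [← Subgroup.orderOf_coe, e] at hk
    have h4 := orderOf_dvd_natCard (⟨_, h2⟩ : ↥X)
    rw [Subgroup.orderOf_mk, hk] at h4
    rcases k with _ | k
    · simpa using hk
    · exact absurd ((dvd_pow_self 2 (Nat.succ_ne_zero k)).trans h4) fun h5 =>
        Nat.not_even_iff_odd.2 hXodd (even_iff_two_dvd.2 h5)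
  rw [orderOf_eq_one_iff, mul_inv_eq_one, mul_inv_eq_iff_eq_mul] at h3
  exact h3.symm

/-- An involution inverts no non-trivial π-element of odd order. -/
theorem eq_one_of_inverted {u y : G} (hu : orderOf u = 2) (hy : PiNum π (orderOf y))
    (hodd : Odd (orderOf y)) (h : u * y * u⁻¹ = y⁻¹) : y = 1 := by
  haveI : Fact (Nat.Prime 2) := ⟨Nat.prime_two⟩
  have hT : IsPGroup 2 ↥(Subgroup.zpowers u) :=
    IsPGroup.of_card (n := 1) (by rw [Nat.card_zpowers, hu, pow_one])
  have hn : Subgroup.zpowers u ≤ Subgroup.normalizer (Subgroup.zpowers y : Set G) := by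
    rw [Subgroup.zpowers_le, ← conjBy_eq_iff, conjBy, MonoidHom.map_zpowers]
    simp only [MulEquiv.coe_toMonoidHom, MulAut.conj_apply, h, Subgroup.zpowers_inv]
  have h1 := hc.commute_of_two_group (X := Subgroup.zpowers y) (by rwa [Nat.card_zpowers])
    (by rwa [Nat.card_zpowers]) hT hn (Subgroup.mem_zpowers u)
  have h2 : y * u = u * y := Subgroup.mem_centralizer_iff.1 h1 y (Subgroup.mem_zpowers y)
  rw [← h2, mul_inv_cancel_right] at h
  have h3 : orderOf y ∣ 2 := orderOf_dvd_of_pow_eq_one (by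
    rw [pow_two]; nth_rw 1 [h]; exact inv_mul_cancel y)
  rcases (Nat.dvd_prime Nat.prime_two).1 h3 with h4 | h4
  · exact orderOf_eq_one_iff.1 h4
  · rw [h4] at hodd; exact absurd hodd (by decide)

/-- The Frattini argument for a Sylow 2-subgroup of a proper subgroup. -/
theorem exists_mul_normalizer {U T : Subgroup G} (hU : U ≠ ⊤) (hT : SylowOf 2 T U) {u : G}
    (hu : u ∈ U) :
    ∃ k ∈ core π U, ∃ n ∈ U, n ∈ Subgroup.normalizer (T : Set G) ∧ u = k * n := by
  haveI : Fact (Nat.Prime 2) := ⟨Nat.prime_two⟩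
  obtain ⟨P, rfl⟩ := hT.toSylow
  set K := (core π U).subgroupOf U with hK
  haveI hKn : K.Normal :=
    Subgroup.normal_subgroupOf_of_le_normalizer (Subgroup.le_normalizer.trans (le_normalizer_core U))
  have hKc : PrimeTo π (Nat.card ↥K) := by
    rw [hK, Nat.card_congr (Subgroup.subgroupOfEquivOfLe (core_le U)).toEquiv]
    exact hc.primeTo_core hU
  have htc := twoClosed_quotient_primeTo K hKc (hc.twoClosed.subgroup U)
  have hq : PiNum π (Nat.card ↥(⊤ : Subgroup (↥U ⧸ K))) := by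
    rw [Subgroup.card_top, ← Subgroup.index_eq_card, hK]
    exact hc.piNum_relIndex_core hU
  have htn : TwoNormal (↥U ⧸ K) := twoNormal_of_surjective
    (Subgroup.topEquiv (G := ↥U ⧸ K)).toMonoidHom Subgroup.topEquiv.surjective (htc ⊤ hq)
  have hN : ((P : Subgroup ↥U) ⊔ K).Normal := by
    have h1 := htn (P.mapSurjective (QuotientGroup.mk'_surjective K))
    rw [Sylow.coe_mapSurjective] at h1
    have h2 := h1.comap (QuotientGroup.mk' K)
    rwa [Subgroup.comap_map_eq, QuotientGroup.ker_mk'] at h2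
  have h1 : Subgroup.normalizer ((P : Subgroup ↥U) : Set ↥U) ⊔ ((P : Subgroup ↥U) ⊔ K) = ⊤ :=
    Sylow.normalizer_sup_eq_top' P le_sup_left
  rw [← sup_assoc, sup_eq_left.2 Subgroup.le_normalizer, sup_comm] at h1
  have h2 : (⟨u, hu⟩ : ↥U) ∈ K ⊔ Subgroup.normalizer ((P : Subgroup ↥U) : Set ↥U) := by
    rw [h1]; exact Subgroup.mem_top _
  obtain ⟨k, hk, n, hn, hkn⟩ := Subgroup.mem_sup_of_normal_left.1 h2
  refine ⟨k, hk, n, n.2, ?_, (congrArg Subtype.val hkn).symm⟩
  have h3 : ((P : Subgroup ↥U).map (MulAut.conj n).toMonoidHom) = (P : Subgroup ↥U) :=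
    (conjBy_eq_iff (T := (P : Subgroup ↥U))).2 hn
  rw [← conjBy_eq_iff]
  conv_rhs => rw [← h3]
  rw [conjBy, Subgroup.map_map, Subgroup.map_map]
  congr 1

/-- Every 2-subgroup of a proper subgroup is moved into a given Sylow 2-subgroup by its core. -/
theorem exists_conj_core {U T Y : Subgroup G} (hU : U ≠ ⊤) (hT : SylowOf 2 T U) (hY : Y ≤ U)
    (hY2 : IsPGroup 2 ↥Y) : ∃ k ∈ core π U, conjBy k Y ≤ T := by
  haveI : Fact (Nat.Prime 2) := ⟨Nat.prime_two⟩
  obtain ⟨T', hT', hYT'⟩ := OddOrder.exists_sylowOf_ge hY hY2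
  obtain ⟨P, hP⟩ := hT.toSylow
  obtain ⟨P', hP'⟩ := hT'.toSylow
  obtain ⟨g, hg⟩ := MulAction.exists_smul_eq ↥U P' P
  have hgT : conjBy (g : G) T' = T := by
    rw [← hP, ← hg, ← hP', conjBy, Sylow.coe_subgroup_smul, Subgroup.map_map]
    rw [show (MulAut.conj g • (P' : Subgroup ↥U)) =
      (P' : Subgroup ↥U).map (MulAut.conj g).toMonoidHom from rfl, Subgroup.map_map]
    congr 1
  -- write g = k * n
  obtain ⟨k, hk, n, -, hn, hgkn⟩ := hc.exists_mul_normalizer hU hT' g.2
  have hkT : conjBy k T' = T := by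
    rw [← hgT, hgkn, conjBy_mul, conjBy_eq_iff.2 hn]
  exact ⟨k, hk, (conjBy_mono k hYT').trans hkT.le⟩

end Crit

/-- Fusion control by descending induction on the order. -/
theorem control_induction {p : ℕ} [Fact p.Prime] {L P : Subgroup G} (hP : IsPGroup p ↥P)
    (top : ∀ g : G, conjBy g P ≤ P → ∃ n ∈ L, ∃ c ∈ Subgroup.centralizer (P : Set G), g = n * c)
    (step : ∀ Y : Subgroup G, Y ≠ ⊥ → Y < P →
      (∀ Z : Subgroup G, Z ≤ P → Nat.card ↥Y < Nat.card ↥Z → ∀ g : G, conjBy g Z ≤ P →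
        ∃ n ∈ L, ∃ c ∈ Subgroup.centralizer (Z : Set G), g = n * c) →
      ∀ Z : Subgroup G, Z ≤ Subgroup.normalizer (Y : Set G) → IsPGroup p ↥Z →
        ∃ n ∈ L, ∃ c ∈ Subgroup.centralizer (Y : Set G), conjBy (n * c) Z ≤ P)
    {Y : Subgroup G} (hY : Y ≠ ⊥) (hYP : Y ≤ P) {g : G} (hg : conjBy g Y ≤ P) :
    ∃ n ∈ L, ∃ c ∈ Subgroup.centralizer (Y : Set G), g = n * c := by
  suffices h : ∀ (d : ℕ) (Y : Subgroup G), Y ≠ ⊥ → Y ≤ P → Nat.card ↥P - Nat.card ↥Y = d →
      ∀ g : G, conjBy g Y ≤ P → ∃ n ∈ L, ∃ c ∈ Subgroup.centralizer (Y : Set G), g = n * c from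
    h _ Y hY hYP rfl g hg
  intro d
  induction d using Nat.strong_induction_on with
  | _ d ih =>
    intro Y hY hYP hd g hg
    have hYc : 1 < Nat.card ↥Y := Y.one_lt_card_iff_ne_bot.2 hY
    rcases hYP.eq_or_lt with rfl | hlt
    · exact top g hg
    have hY'ne : conjBy g Y ≠ ⊥ := fun h => by
      have h1 := card_conjBy g Y
      rw [h, Subgroup.card_bot] at h1
      omega
    have hY'lt : conjBy g Y < P := by
      refine lt_of_le_of_ne hg fun h => ?_
      have h1 := card_conjBy g Y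
      rw [h] at h1
      exact hlt.ne (Subgroup.eq_of_le_of_card_ge hYP h1.le)
    have ih' : ∀ Z : Subgroup G, Z ≤ P → Nat.card ↥Y < Nat.card ↥Z → ∀ g : G, conjBy g Z ≤ P →
        ∃ n ∈ L, ∃ c ∈ Subgroup.centralizer (Z : Set G), g = n * c := fun Z hZ hlt' g hgZ => by
      have h2 : Nat.card ↥Z ≤ Nat.card ↥P := Subgroup.card_le_of_le hZ
      exact ih _ (by omega) Z (fun h => by rw [h, Subgroup.card_bot] at hlt'; omega) hZ rfl g hgZ
    set Y₁ := Subgroup.normalizer (Y : Set G) ⊓ P with hY₁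
    have hcard : Nat.card ↥Y < Nat.card ↥Y₁ :=
      CfsgLib.OddOrder.Transitivity.normalizer_grows hP hlt
    have hgrow : Y ≤ Y₁ := le_inf Subgroup.le_normalizer hYP
    have hZ : conjBy g Y₁ ≤ Subgroup.normalizer (conjBy g Y : Set G) :=
      conjBy_le.2 fun y hy => by
        rw [← conjBy_eq_iff, ← conjBy_mul, inv_mul_cancel_right, conjBy_mul g y,
          conjBy_eq_iff.2 hy.1]
    obtain ⟨n', hn', c', hc', hle⟩ := step _ hY'ne hY'lt (by rwa [card_conjBy]) _ hZ
      (isPGroup_conjBy g (hP.to_le inf_le_right))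
    rw [← conjBy_mul] at hle
    obtain ⟨n, hn, c, hc, heq⟩ := ih' Y₁ inf_le_right hcard _ hle
    have hcY : c ∈ Subgroup.centralizer (Y : Set G) := Subgroup.centralizer_le hgrow hc
    refine ⟨n'⁻¹ * n, L.mul_mem (L.inv_mem hn') hn,
      ((n'⁻¹ * n)⁻¹ * c'⁻¹ * (n'⁻¹ * n)) * c, Subgroup.mul_mem _ ?_ hcY, ?_⟩
    · have hact : ∀ y ∈ Y, c' * (g * y * g⁻¹) * c'⁻¹ = g * y * g⁻¹ := fun y hy => by
        rw [← Subgroup.mem_centralizer_iff.1 hc' _ (conj_mem_conjBy hy), mul_inv_cancel_right]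
      have hg' : g = c'⁻¹ * (n'⁻¹ * n) * c := by
        have h1 : g = (n' * c')⁻¹ * (n' * c' * g) := by group
        rw [h1, heq]; group
      rw [Subgroup.mem_centralizer_iff]
      intro y hy
      set m := n'⁻¹ * n with hm
      have hm2 : m * y * m⁻¹ = g * y * g⁻¹ := by
        have h2 : c * y * c⁻¹ = y := by
          rw [← Subgroup.mem_centralizer_iff.1 hcY y hy, mul_inv_cancel_right]
        calc m * y * m⁻¹ = m * (c * y * c⁻¹) * m⁻¹ := by rw [h2]
          _ = c' * (g * y * g⁻¹) * c'⁻¹ := by rw [hg']; group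
          _ = g * y * g⁻¹ := hact y hy
      have h4 : c'⁻¹ * (m * y * m⁻¹) * c' = m * y * m⁻¹ := by
        rw [hm2]
        nth_rw 1 [← hact y hy]
        group
      calc y * (m⁻¹ * c'⁻¹ * m)
          = m⁻¹ * (m * y * m⁻¹) * c'⁻¹ * m := by group
        _ = m⁻¹ * (c'⁻¹ * (m * y * m⁻¹) * c') * c'⁻¹ * m := by rw [h4]
        _ = m⁻¹ * c'⁻¹ * m * y := by group
    · have h1 : g = (n' * c')⁻¹ * (n' * c' * g) := by group
      rw [h1, heq]; group

end CfsgLib.PiHom
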