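import Mathlib.Combinatorics.Pigeonhole
import Cfsg.Agent.Lib.PiHom.Minimal
import Cfsg.Agent.Lib.RankOneInvol.OddGroup
import Cfsg.Agent.Lib.RankTwoTypes.Simple
import Cfsg.Agent.Lib.Blocks.CentralChar

/-!
# Involution fusion in a minimal counterexample, and the counting argument

`zInv S` is the group of central involutions of the Sylow 2-subgroup `S`.  No proper subgroup
contains the normaliser of `S` together with the centralisers of all these involutions.
-/

set_option autoImplicit false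
set_option linter.style.haveILetI false

namespace CfsgLib.PiHom

open CfsgLib.OddOrder (SylowOf)
open scoped Pointwise

universe u

variable {π : Set ℕ} {G : Type u} [Group G] [Finite G]

/-- the elements of order at most two in the centre of `S` -/
def zInv {G : Type u} [Group G] (S : Subgroup G) : Subgroup G where
  carrier := {x | x ∈ S ∧ x * x = 1 ∧ ∀ s ∈ S, s * x = x * s}
  one_mem' := ⟨S.one_mem, by simp, fun s _ => by simp⟩
  mul_mem' := by
    rintro a b ⟨ha, ha2, hac⟩ ⟨hb, hb2, hbc⟩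
    refine ⟨S.mul_mem ha hb, ?_, fun s hs => ?_⟩
    · calc a * b * (a * b) = a * (b * a) * b := by group
        _ = a * (a * b) * b := by rw [hac b hb]
        _ = (a * a) * (b * b) := by group
        _ = 1 := by rw [ha2, hb2, one_mul]
    · rw [← mul_assoc, hac s hs, mul_assoc, hbc s hs, mul_assoc]
  inv_mem' := by
    rintro a ⟨ha, ha2, hac⟩
    rw [inv_eq_of_mul_eq_one_right ha2]
    exact ⟨ha, ha2, hac⟩

omit [Finite G] in
theorem mem_zInv {S : Subgroup G} {x : G} :
    x ∈ zInv S ↔ x ∈ S ∧ x * x = 1 ∧ ∀ s ∈ S, s * x = x * s := Iff.rfl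

omit [Finite G] in
theorem zInv_le (S : Subgroup G) : zInv S ≤ S := fun _ hx => hx.1

omit [Finite G] in
theorem zInv_comm {S : Subgroup G} {a b : G} (ha : a ∈ zInv S) (hb : b ∈ zInv S) : a * b = b * a :=
  hb.2.2 a ha.1

omit [Finite G] in
theorem orderOf_of_mem_zInv {S : Subgroup G} {a : G} (ha : a ∈ zInv S) (ha1 : a ≠ 1) :
    orderOf a = 2 := orderOf_eq_prime (by rw [pow_two]; exact ha.2.1) ha1

omit [Finite G] in
theorem le_centralizer_of_mem_zInv {S : Subgroup G} {a : G} (ha : a ∈ zInv S) :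
    S ≤ Subgroup.centralizer ({a} : Set G) :=
  fun s hs => Subgroup.mem_centralizer_singleton_iff.2 (ha.2.2 s hs)

omit [Finite G] in
theorem conj_mem_zInv {S : Subgroup G} {n a : G} (hn : n ∈ Subgroup.normalizer (S : Set G))
    (ha : a ∈ zInv S) : n * a * n⁻¹ ∈ zInv S := by
  refine ⟨(Subgroup.mem_normalizer_iff.1 hn a).1 ha.1, ?_, fun s hs => ?_⟩
  · calc n * a * n⁻¹ * (n * a * n⁻¹) = n * (a * a) * n⁻¹ := by group
      _ = 1 := by rw [ha.2.1]; group
  · have hs' : n⁻¹ * s * n ∈ S := by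
      have := (Subgroup.mem_normalizer_iff.1 (inv_mem hn) s).1 hs
      simpa using this
    calc s * (n * a * n⁻¹) = n * (n⁻¹ * s * n * a) * n⁻¹ := by group
      _ = n * (a * (n⁻¹ * s * n)) * n⁻¹ := by rw [ha.2.2 _ hs']
      _ = n * a * n⁻¹ * s := by group

theorem normalizer_le_normalizer_zInv (S : Subgroup G) :
    Subgroup.normalizer (S : Set G) ≤ Subgroup.normalizer (zInv S : Set G) := fun n hn =>
  conjBy_eq_iff.1 (Subgroup.eq_of_le_of_card_ge (conjBy_le.2 fun _ ha => conj_mem_zInv hn ha)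
    (card_conjBy n _).ge)

theorem conjBy_inv_le {g : G} {Y T : Subgroup G} (h : Y ≤ conjBy g T) : conjBy g⁻¹ Y ≤ T := by
  refine conjBy_le.2 fun y hy => ?_
  obtain ⟨t, ht, rfl⟩ := mem_conjBy.1 (h hy)
  simpa [mul_assoc] using ht

omit [Finite G] in
theorem conjBy_inv_cancel (g : G) (T : Subgroup G) : conjBy g⁻¹ (conjBy g T) = T := by
  rw [← conjBy_mul, inv_mul_cancel, conjBy]
  ext x
  simp

theorem exists_le_conjBy {T : Subgroup G} (hT : IsPGroup 2 ↥T) (S : Sylow 2 G) :
    ∃ h : G, T ≤ conjBy h (S : Subgroup G) := by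
  haveI : Fact (Nat.Prime 2) := ⟨Nat.prime_two⟩
  obtain ⟨P, hP⟩ := hT.exists_le_sylow
  obtain ⟨h, hh⟩ := MulAction.exists_smul_eq G S P
  refine ⟨h, ?_⟩
  rw [← hh, Sylow.coe_subgroup_smul] at hP
  exact hP

namespace Crit

variable (hc : Crit π G)
include hc

theorem centralizer_ne_top {a : G} (ha : a ≠ 1) : Subgroup.centralizer ({a} : Set G) ≠ ⊤ := by
  intro h
  haveI := hc.simple
  have h1 : a ∈ Subgroup.center G := Subgroup.mem_center_iff.2 fun g =>
    Subgroup.mem_centralizer_singleton_iff.1 (h ▸ Subgroup.mem_top g)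
  rcases (inferInstance : (Subgroup.center G).Normal).eq_bot_or_eq_top with h2 | h2
  · rw [h2, Subgroup.mem_bot] at h1; exact ha h1
  · exact hc.nonab ⟨⟨fun x y =>
      Subgroup.mem_center_iff.1 (h2 ▸ Subgroup.mem_top y : y ∈ Subgroup.center G) x⟩⟩

theorem normalizer_ne_top {Y : Subgroup G} (hY : Y ≠ ⊥) (hY' : Y ≠ ⊤) :
    Subgroup.normalizer (Y : Set G) ≠ ⊤ := by
  intro h
  haveI := hc.simple
  exact (Subgroup.normalizer_eq_top_iff.1 h).eq_bot_or_eq_top.elim hY hY'

theorem not_isSolvable : ¬ Group.IsSolvable G := fun h => by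
  haveI := hc.simple
  exact hc.nonab ⟨⟨IsSimpleGroup.comm_iff_isSolvable.2 h⟩⟩

theorem two_dvd : 2 ∣ Nat.card G :=
  even_iff_two_dvd.1 (Nat.not_odd_iff_even.1 fun h =>
    hc.not_isSolvable (CfsgLib.PF.oddSolvable G h))

theorem ne_top_of_isPGroup {p : ℕ} [Fact p.Prime] {Y : Subgroup G} (hY : IsPGroup p ↥Y) :
    Y ≠ ⊤ := by
  rintro rfl
  have h : IsPGroup p G := hY.of_equiv Subgroup.topEquiv
  haveI := h.isNilpotent
  exact hc.not_isSolvable inferInstance

/-- Fusion in `S` is controlled by its normaliser, strongly. -/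
theorem control (S : Sylow 2 G) {Y : Subgroup G} (hY : Y ≠ ⊥) (hYS : Y ≤ (S : Subgroup G)) {g : G}
    (hg : conjBy g Y ≤ (S : Subgroup G)) :
    ∃ n ∈ Subgroup.normalizer ((S : Subgroup G) : Set G), ∃ c ∈ Subgroup.centralizer (Y : Set G),
      g = n * c := by
  haveI : Fact (Nat.Prime 2) := ⟨Nat.prime_two⟩
  refine control_induction S.isPGroup' (fun g hg => ?_) ?_ hY hYS hg
  · refine ⟨g, conjBy_eq_iff.1 (Subgroup.eq_of_le_of_card_ge hg (card_conjBy g _).ge), 1,
      one_mem _, (mul_one g).symm⟩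
  intro Y hY hlt ih Z hZ hZ2
  set U := Subgroup.normalizer (Y : Set G) with hUdef
  have hY2 : IsPGroup 2 ↥Y := S.isPGroup'.to_le hlt.le
  have hU : U ≠ ⊤ := hc.normalizer_ne_top hY (hc.ne_top_of_isPGroup hY2)
  have hcard := CfsgLib.OddOrder.Transitivity.normalizer_grows S.isPGroup' hlt
  obtain ⟨T, hT, hT2⟩ := OddOrder.exists_sylowOf_ge (p := 2) (M := U)
    (Q := Subgroup.normalizer (Y : Set G) ⊓ (S : Subgroup G)) inf_le_left
    (S.isPGroup'.to_le inf_le_right)
  obtain ⟨k, hk, hkT⟩ := hc.exists_conj_core hU hT hZ hZ2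
  obtain ⟨h, hh⟩ := exists_le_conjBy hT.2.1 S
  obtain ⟨n, hn, c, hcc, heq⟩ := ih _ inf_le_right hcard h⁻¹ (conjBy_inv_le (hT2.trans hh))
  refine ⟨1, one_mem _, c * k, mul_mem (Subgroup.centralizer_le ?_ hcc)
    (hc.core_le_centralizer hU (piNum_of_isPGroup hc.two_mem hY2) le_rfl hk), ?_⟩
  · exact le_inf Subgroup.le_normalizer hlt.le
  rw [one_mul, conjBy_mul]
  refine (conjBy_mono c hkT).trans ((conjBy_mono c hh).trans ?_)
  rw [← conjBy_mul, show c * h = n⁻¹ by
      rw [show c = n⁻¹ * h⁻¹ by rw [heq]; group, inv_mul_cancel_right],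
    conjBy_eq_iff.2 (inv_mem hn)]

/-- A conjugate in `S` of a central involution is central. -/
theorem mem_zInv_of_conj (S : Sylow 2 G) {a g : G} (ha : a ∈ zInv (S : Subgroup G))
    (hg : g * a * g⁻¹ ∈ (S : Subgroup G)) : g * a * g⁻¹ ∈ zInv (S : Subgroup G) := by
  by_cases ha1 : a = 1
  · simp [ha1]
  have hY : Subgroup.zpowers a ≠ ⊥ := fun h => ha1 (Subgroup.zpowers_eq_bot.1 h)
  obtain ⟨n, hn, c, hcc, rfl⟩ := hc.control S hY (Subgroup.zpowers_le.2 ha.1) (g := g) (by
    rw [conjBy, MonoidHom.map_zpowers, Subgroup.zpowers_le]; exact hg)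
  have h1 : c * a * c⁻¹ = a := by
    rw [← Subgroup.mem_centralizer_iff.1 hcc a (Subgroup.mem_zpowers a), mul_inv_cancel_right]
  rw [show n * c * a * (n * c)⁻¹ = n * (c * a * c⁻¹) * n⁻¹ by group, h1]
  exact conj_mem_zInv hn ha

/-- No central involution of `S` is fixed by the normaliser of `S`. -/
theorem exists_moved (S : Sylow 2 G) {z : G} (hz : z ∈ zInv (S : Subgroup G)) (hz1 : z ≠ 1) :
    ∃ n ∈ Subgroup.normalizer ((S : Subgroup G) : Set G), n * z * n⁻¹ ≠ z := by
  haveI := hc.simple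
  haveI : Fact (Nat.Prime 2) := ⟨Nat.prime_two⟩
  by_contra hcon
  push Not at hcon
  refine RankTwoTypes.no_isolated hc.nonab z ⟨orderOf_of_mem_zInv hz hz1, fun g hg => ?_⟩
  set z' := g * z * g⁻¹ with hz'
  -- `⟨z, z'⟩` is a 2-group
  set T := Subgroup.closure ({z, z'} : Set G) with hTdef
  have hzz : z' * z' = 1 := by
    rw [hz', show g * z * g⁻¹ * (g * z * g⁻¹) = g * (z * z) * g⁻¹ by group, hz.2.1, mul_one,
      mul_inv_cancel]
  have hT : IsPGroup 2 ↥T := by
    have hmem : ∀ x ∈ T, x * x = 1 ∧ Commute x z ∧ Commute x z' := by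
      intro x hx
      induction hx using Subgroup.closure_induction with
      | mem y hy =>
        rcases hy with rfl | rfl
        · exact ⟨hz.2.1, Commute.refl _, hg⟩
        · exact ⟨hzz, hg.symm, Commute.refl _⟩
      | one => exact ⟨one_mul 1, Commute.one_left _, Commute.one_left _⟩
      | mul a b hA hB ha hb =>
        have hab : Commute a b := by
          refine Subgroup.closure_induction (p := fun y _ => Commute a y) ?_ (Commute.one_right a)
            (fun _ _ _ _ h1 h2 => h1.mul_right h2) (fun _ _ h1 => h1.inv_right) hB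
          rintro y (rfl | rfl)
          exacts [ha.2.1, ha.2.2]
        refine ⟨?_, ha.2.1.mul_left hb.2.1, ha.2.2.mul_left hb.2.2⟩
        rw [show a * b * (a * b) = a * (b * a) * b by group, ← hab.eq,
          show a * (a * b) * b = (a * a) * (b * b) by group, ha.1, hb.1, one_mul]
      | inv a _ ha =>
        rw [inv_eq_of_mul_eq_one_right ha.1]
        exact ha
    intro x
    exact ⟨1, Subtype.ext (by simpa [pow_two] using (hmem x x.2).1)⟩
  obtain ⟨h, hh⟩ := exists_le_conjBy hT S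
  have h1 := conjBy_inv_le hh
  have hzS : h⁻¹ * z * h⁻¹⁻¹ ∈ (S : Subgroup G) :=
    conjBy_le.1 h1 z (Subgroup.subset_closure (Set.mem_insert _ _))
  have hz'S : (h⁻¹ * g) * z * (h⁻¹ * g)⁻¹ ∈ (S : Subgroup G) := by
    have := conjBy_le.1 h1 z' (Subgroup.subset_closure (Set.mem_insert_of_mem _ rfl))
    rw [hz'] at this
    simpa [mul_assoc] using this
  have key : ∀ c : G, c * z * c⁻¹ ∈ (S : Subgroup G) → c * z * c⁻¹ = z := by
    intro c hcS
    obtain ⟨n, hn, d, hd, rfl⟩ := hc.control S (fun h => hz1 (Subgroup.zpowers_eq_bot.1 h))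
      (Subgroup.zpowers_le.2 hz.1) (g := c) (by
        rw [conjBy, MonoidHom.map_zpowers, Subgroup.zpowers_le]; exact hcS)
    have h2 : d * z * d⁻¹ = z := by
      rw [← Subgroup.mem_centralizer_iff.1 hd z (Subgroup.mem_zpowers z), mul_inv_cancel_right]
    rw [show n * d * z * (n * d)⁻¹ = n * (d * z * d⁻¹) * n⁻¹ by group, h2]
    exact hcon n hn
  have e1 := key _ hzS
  have e2 := key _ hz'S
  calc g * z * g⁻¹ = h * ((h⁻¹ * g) * z * (h⁻¹ * g)⁻¹) * h⁻¹ := by group
    _ = h * (h⁻¹ * z * h⁻¹⁻¹) * h⁻¹ := by rw [e1, e2]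
    _ = z := by group

theorem exists_zInv_pair (S : Sylow 2 G) :
    ∃ x y : G, x ∈ zInv (S : Subgroup G) ∧ y ∈ zInv (S : Subgroup G) ∧ x ≠ 1 ∧ y ≠ 1 ∧ x ≠ y := by
  haveI : Fact (Nat.Prime 2) := ⟨Nat.prime_two⟩
  have hne : Nontrivial ↥(S : Subgroup G) := by
    rw [Subgroup.nontrivial_iff_ne_bot]
    intro h
    have h1 := S.dvd_card_of_dvd_card hc.two_dvd
    rw [h, Subgroup.card_bot] at h1
    omega
  haveI := S.isPGroup'.center_nontrivial
  obtain ⟨k, hk⟩ := IsPGroup.iff_card.1 (S.isPGroup'.to_subgroup (Subgroup.center ↥(S : Subgroup G)))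
  have hk0 : k ≠ 0 := fun h0 => by
    rw [h0, pow_zero] at hk
    have := Finite.one_lt_card (α := Subgroup.center ↥(S : Subgroup G))
    omega
  obtain ⟨x, hx⟩ := exists_prime_orderOf_dvd_card' 2
    (show 2 ∣ Nat.card (Subgroup.center ↥(S : Subgroup G)) by rw [hk]; exact dvd_pow_self 2 hk0)
  set z : G := ((x : ↥(S : Subgroup G)) : G) with hzdef
  have hz : z ∈ zInv (S : Subgroup G) := by
    refine ⟨(x : ↥(S : Subgroup G)).2, ?_, fun s hs => ?_⟩
    · have : x * x = 1 := by simpa [hx, pow_two] using pow_orderOf_eq_one x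
      exact congrArg (fun y : Subgroup.center ↥(S : Subgroup G) => ((y : ↥(S : Subgroup G)) : G)) this
    · exact congrArg Subtype.val (Subgroup.mem_center_iff.1 x.2 ⟨s, hs⟩)
  have hz1 : z ≠ 1 := fun h => by
    have : x = 1 := Subtype.ext (Subtype.ext h)
    rw [this, orderOf_one] at hx; omega
  obtain ⟨n, hn, hne'⟩ := hc.exists_moved S hz hz1
  refine ⟨z, n * z * n⁻¹, hz, conj_mem_zInv hn hz, hz1, fun h => hz1 ?_, fun h => hne' h.symm⟩
  rwa [conj_eq_one_iff] at h

/-- An element normalising the core of an involution centraliser moves it into `S`. -/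
theorem centralizer_decomp (S : Sylow 2 G) {a g : G} (ha : a ∈ zInv (S : Subgroup G)) (ha1 : a ≠ 1)
    (hg : g ∈ Subgroup.centralizer ({a} : Set G)) :
    ∃ k ∈ core π (Subgroup.centralizer ({a} : Set G)),
      ∃ n ∈ Subgroup.normalizer ((S : Subgroup G) : Set G), g = k * n := by
  haveI : Fact (Nat.Prime 2) := ⟨Nat.prime_two⟩
  obtain ⟨k, hk, n, -, hn, h⟩ := hc.exists_mul_normalizer (hc.centralizer_ne_top ha1)
    (OddOrder.sylowOf_of_sylow S (le_centralizer_of_mem_zInv ha)) hg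
  exact ⟨k, hk, n, hn, h⟩

section Over

variable (S : Sylow 2 G) {M : Subgroup G} (hS : Subgroup.normalizer ((S : Subgroup G) : Set G) ≤ M)
  (hCa : ∀ a ∈ zInv (S : Subgroup G), a ≠ 1 → Subgroup.centralizer ({a} : Set G) ≤ M)
include hS hCa

/-- A Sylow subgroup of `G` containing an `M`-conjugate of `zInv S` is conjugate to `S` in `M`. -/
theorem mem_of_le_conjBy {w h : G} (hw : w ∈ M)
    (hle : conjBy w (zInv (S : Subgroup G)) ≤ conjBy h (S : Subgroup G)) : h ∈ M := by
  obtain ⟨x, -, hx, -, hx1, -, -⟩ := hc.exists_zInv_pair S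
  have hne : zInv (S : Subgroup G) ≠ ⊥ := fun h0 => hx1 (Subgroup.mem_bot.1 (h0 ▸ hx))
  obtain ⟨n, hn, c, hcc, heq⟩ := hc.control S hne (zInv_le _) (g := h⁻¹ * w)
    (by rw [conjBy_mul]; exact conjBy_inv_le hle)
  have hcM : c ∈ M := hCa x hx hx1 (Subgroup.mem_centralizer_singleton_iff.2
    (Subgroup.mem_centralizer_iff.1 hcc x hx).symm)
  have : h = w * (n * c)⁻¹ := by rw [← heq]; group
  rw [this]
  exact M.mul_mem hw (M.inv_mem (M.mul_mem (hS hn) hcM))

/-- An odd subgroup normalised by two involutions of an `M`-conjugate of `zInv S` lies in `M`. -/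
theorem le_of_invariant_pair {w : G} (hw : w ∈ M) {X : Subgroup G} (hX : Odd (Nat.card ↥X))
    {x y : G} (hx : x ∈ conjBy w (zInv (S : Subgroup G))) (hy : y ∈ conjBy w (zInv (S : Subgroup G)))
    (hx1 : x ≠ 1) (hy1 : y ≠ 1) (hxy : x ≠ y) (hnx : x ∈ Subgroup.normalizer (X : Set G))
    (hny : y ∈ Subgroup.normalizer (X : Set G)) : X ≤ M := by
  have hsq : ∀ a ∈ conjBy w (zInv (S : Subgroup G)), a * a = 1 := by
    intro a ha
    obtain ⟨a₀, ha₀, rfl⟩ := mem_conjBy.1 ha
    rw [show w * a₀ * w⁻¹ * (w * a₀ * w⁻¹) = w * (a₀ * a₀) * w⁻¹ by group, ha₀.2.1]; group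
  have hfix : ∀ a ∈ conjBy w (zInv (S : Subgroup G)), a ≠ 1 → ∀ v : G, a * v * a = v → v ∈ M := by
    intro a ha ha1 v hv
    have hcomm : v * a = a * v :=
      calc v * a = (a * v * a) * a := by rw [hv]
        _ = a * v * (a * a) := by group
        _ = a * v := by rw [hsq a ha, mul_one]
    obtain ⟨a₀, ha₀, rfl⟩ := mem_conjBy.1 ha
    have ha₀1 : a₀ ≠ 1 := fun h => ha1 (by rw [h]; group)
    have h1 : w⁻¹ * v * w ∈ Subgroup.centralizer ({a₀} : Set G) := by
      rw [Subgroup.mem_centralizer_singleton_iff]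
      calc w⁻¹ * v * w * a₀ = w⁻¹ * (v * (w * a₀ * w⁻¹)) * w := by group
        _ = w⁻¹ * (w * a₀ * w⁻¹ * v) * w := by rw [hcomm]
        _ = a₀ * (w⁻¹ * v * w) := by group
    rw [show v = w * (w⁻¹ * v * w) * w⁻¹ by group]
    exact M.mul_mem (M.mul_mem hw (hCa a₀ ha₀ ha₀1 h1)) (M.inv_mem hw)
  have hinv : ∀ a ∈ conjBy w (zInv (S : Subgroup G)), a ∈ Subgroup.normalizer (X : Set G) →
      ∀ v ∈ X, a * v * a ∈ X := fun a ha hn v hv => by
    have h1 := (Subgroup.mem_normalizer_iff.1 hn v).1 hv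
    rwa [inv_eq_of_mul_eq_one_right (hsq a ha)] at h1
  have hc' : x * y = y * x := by
    obtain ⟨a, ha, rfl⟩ := mem_conjBy.1 hx
    obtain ⟨b, hb, rfl⟩ := mem_conjBy.1 hy
    rw [show w * a * w⁻¹ * (w * b * w⁻¹) = w * (a * b) * w⁻¹ by group, zInv_comm ha hb]; group
  refine RankOneInvol.le_of_fourGroup_fixed hX (hsq x hx) (hsq y hy) hc' (hinv x hx hnx)
    (hinv y hy hny) (fun v _ => hfix x hx hx1 v) (fun v _ => hfix y hy hy1 v) (fun v _ => ?_)
  exact hfix _ (mul_mem hx hy) (fun h => hxy (by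
    rw [← inv_eq_of_mul_eq_one_right h, inv_eq_of_mul_eq_one_right (hsq x hx)])) v

/-- An odd subgroup normalised by an `M`-conjugate of `zInv S` lies in `M`. -/
theorem le_of_invariant {w : G} (hw : w ∈ M) {X : Subgroup G} (hX : Odd (Nat.card ↥X))
    (hn : conjBy w (zInv (S : Subgroup G)) ≤ Subgroup.normalizer (X : Set G)) : X ≤ M := by
  obtain ⟨x, y, hx, hy, hx1, hy1, hxy⟩ := hc.exists_zInv_pair S
  exact hc.le_of_invariant_pair S hS hCa hw hX (conj_mem_conjBy hx) (conj_mem_conjBy hy)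
    (fun h => hx1 (conj_eq_one_iff.1 h)) (fun h => hy1 (conj_eq_one_iff.1 h))
    (fun h => hxy (mul_left_cancel (mul_right_cancel h))) (hn (conj_mem_conjBy hx))
    (hn (conj_mem_conjBy hy))

/-- The counting argument. -/
theorem no_over (hM : M ≠ ⊤) : False := by
  classical
  haveI : Fact (Nat.Prime 2) := ⟨Nat.prime_two⟩
  obtain ⟨z, -, hz, -, hz1, -, -⟩ := hc.exists_zInv_pair S
  set C := Subgroup.centralizer ({z} : Set G) with hC
  have hCM : C ≤ M := hCa z hz hz1
  have hSM : (S : Subgroup G) ≤ M := Subgroup.le_normalizer.trans hS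
  set K := core π M with hK
  have hKodd : Odd (Nat.card ↥K) := hc.odd_core hM
  -- a 2-group containing a conjugate of `zInv S` under `M` lies in `M`
  have hTM : ∀ (T : Subgroup G) (w : G), IsPGroup 2 ↥T → w ∈ M →
      conjBy w (zInv (S : Subgroup G)) ≤ T → T ≤ M := fun T w hT hw hle => by
    obtain ⟨h, hh⟩ := exists_le_conjBy hT S
    have hhM := hc.mem_of_le_conjBy S hS hCa hw (hle.trans hh)
    refine hh.trans fun y hy => ?_
    obtain ⟨t, ht, rfl⟩ := mem_conjBy.1 hy
    exact M.mul_mem (M.mul_mem hhM (hSM ht)) (M.inv_mem hhM)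
  -- step 1: conjugates of `z` in `M`
  have hconj : ∀ g : G, g * z * g⁻¹ ∈ M → ∃ m ∈ M, g * z * g⁻¹ = m * z * m⁻¹ := by
    intro g hg
    have hP : IsPGroup 2 ↥(Subgroup.zpowers (g * z * g⁻¹)) := IsPGroup.of_card (n := 1) (by
      rw [Nat.card_zpowers, pow_one]
      exact (orderOf_injective (MulAut.conj g).toMonoidHom (MulAut.conj g).injective z).trans
        (orderOf_of_mem_zInv hz hz1))
    obtain ⟨T, hT, hzT⟩ := OddOrder.exists_sylowOf_ge (Subgroup.zpowers_le.2 hg) hP
    obtain ⟨k, hk, hkS⟩ := hc.exists_conj_core hM (OddOrder.sylowOf_of_sylow S hSM) hT.1 hT.2.1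
    have hmem : (k * g) * z * (k * g)⁻¹ ∈ (S : Subgroup G) := by
      rw [show (k * g) * z * (k * g)⁻¹ = k * (g * z * g⁻¹) * k⁻¹ by group]
      exact conjBy_le.1 hkS _ (hzT (Subgroup.mem_zpowers _))
    obtain ⟨n, hn, c, hcc, heq⟩ := hc.control S (fun h => hz1 (Subgroup.zpowers_eq_bot.1 h))
      (Subgroup.zpowers_le.2 hz.1) (g := k * g) (by
        rw [conjBy, MonoidHom.map_zpowers, Subgroup.zpowers_le]; exact hmem)
    refine ⟨k⁻¹ * n, M.mul_mem (M.inv_mem (core_le M hk)) (hS hn), ?_⟩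
    have h1 : c * z * c⁻¹ = z := by
      rw [← Subgroup.mem_centralizer_iff.1 hcc z (Subgroup.mem_zpowers z), mul_inv_cancel_right]
    calc g * z * g⁻¹ = k⁻¹ * ((k * g) * z * (k * g)⁻¹) * k := by group
      _ = k⁻¹ * n * (c * z * c⁻¹) * (k⁻¹ * n)⁻¹ := by rw [heq]; group
      _ = _ := by rw [h1]
  -- involutions outside `M` conjugate to `z`
  let X : Type u := {x : G // IsConj z x}
  haveI : Fintype X := Fintype.ofFinite X
  haveI : Fintype (G ⧸ M) := Fintype.ofFinite _
  have hXsq : ∀ x : X, (x : G) * (x : G) = 1 := fun x => by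
    obtain ⟨g, hg⟩ := isConj_iff.1 x.2
    rw [← hg, show g * z * g⁻¹ * (g * z * g⁻¹) = g * (z * z) * g⁻¹ by group, hz.2.1]; group
  set s := (Finset.univ : Finset X).filter (fun x : X => x.1 ∉ M) with hs
  set t := (Finset.univ : Finset (G ⧸ M)).erase (QuotientGroup.mk 1) with ht
  set k := C.relIndex M with hk
  have hkin : ((Finset.univ : Finset X).filter (fun x : X => x.1 ∈ M)).card ≤ k := by
    rw [hk, Subgroup.relIndex, Subgroup.index_eq_card]
    haveI : Fintype (↥M ⧸ C.subgroupOf M) := Fintype.ofFinite _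
    rw [Nat.card_eq_fintype_card, ← Finset.card_univ]
    have hch : ∀ x ∈ (Finset.univ : Finset X).filter (fun x : X => x.1 ∈ M),
        ∃ m : ↥M, (x : G) = (m : G) * z * (m : G)⁻¹ := fun x hx => by
      obtain ⟨g, hg⟩ := isConj_iff.1 x.2
      obtain ⟨m, hm, hgm⟩ := hconj g (hg ▸ (Finset.mem_filter.1 hx).2)
      exact ⟨⟨m, hm⟩, hg ▸ hgm⟩
    choose f hf using hch
    refine Finset.card_le_card_of_injOn (fun x => if hx : x ∈ _ then
      ((f x hx : ↥M) : ↥M ⧸ C.subgroupOf M) else QuotientGroup.mk 1) (fun x _ => Finset.mem_univ _) ?_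
    intro x hx y hy hxy
    simp only [Finset.mem_coe] at hx hy
    simp only [dif_pos hx, dif_pos hy] at hxy
    have h2 := Subgroup.mem_subgroupOf.1 (QuotientGroup.eq.1 hxy)
    rw [Subgroup.mem_centralizer_singleton_iff] at h2
    apply Subtype.ext
    rw [hf x hx, hf y hy]
    simp only [Subgroup.coe_mul, Subgroup.coe_inv] at h2
    calc (f x hx : G) * z * (f x hx : G)⁻¹
        = (f x hx : G) * (z * ((f x hx : G)⁻¹ * (f y hy : G))) * (f y hy : G)⁻¹ := by group
      _ = (f x hx : G) * ((f x hx : G)⁻¹ * (f y hy : G) * z) * (f y hy : G)⁻¹ := by rw [h2]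
      _ = (f y hy : G) * z * (f y hy : G)⁻¹ := by group
  have htot : Fintype.card X = k * M.index := by
    rw [← Nat.card_eq_fintype_card, CfsgLib.Blocks.natCard_isConj, hk,
      Subgroup.relIndex_mul_index hCM]
  have htcard : t.card = M.index - 1 := by
    rw [ht, Finset.card_erase_of_mem (Finset.mem_univ _), Finset.card_univ,
      ← Nat.card_eq_fintype_card, ← Subgroup.index_eq_card]
  have hidx : 1 < M.index := by
    have h1 := Subgroup.index_ne_zero_of_finite (H := M)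
    have h2 : M.index ≠ 1 := fun h => hM (Subgroup.index_eq_one.1 h)
    omega
  have hmaps : ∀ x ∈ s, (QuotientGroup.mk (x : G) : G ⧸ M) ∈ t := fun x hx => by
    rw [ht, Finset.mem_erase]
    refine ⟨fun h => (Finset.mem_filter.1 hx).2 ?_, Finset.mem_univ _⟩
    have h1 := QuotientGroup.eq.1 h
    rw [mul_one] at h1
    exact inv_mem_iff.1 h1
  have hscard : t.card * k ≤ s.card := by
    have h1 := Finset.card_filter_add_card_filter_not (s := (Finset.univ : Finset X))
      (p := fun x : X => x.1 ∈ M)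
    rw [← hs, Finset.card_univ, htot] at h1
    rw [htcard, Nat.sub_one_mul, mul_comm M.index k]
    omega
  obtain ⟨y, -, hfib⟩ := Finset.exists_le_card_fiber_of_mul_le_card_of_maps_to hmaps
    (Finset.card_pos.1 (by rw [htcard]; omega)) hscard
  set F := s.filter (fun x : X => (QuotientGroup.mk x.1 : G ⧸ M) = y) with hF
  have hpair : ∀ u ∈ F, ∀ v ∈ F, (u : G) * (v : G) ∈ M := fun u hu v hv => by
    have h1 := QuotientGroup.eq.1 ((Finset.mem_filter.1 hu).2.trans (Finset.mem_filter.1 hv).2.symm)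
    rwa [inv_eq_of_mul_eq_one_right (hXsq u)] at h1
  have hout : ∀ u ∈ F, (u : G) ∉ M := fun u hu =>
    (Finset.mem_filter.1 (Finset.mem_filter.1 hu).1).2
  -- steps 2 to 4
  have hj : ∀ u ∈ F, ∀ v ∈ F, (u : G) * (v : G) ∈ K ∧
      ((u : G) * (v : G) * z = z * ((u : G) * (v : G)) → (u : G) * (v : G) = 1) := by
    intro u hu v hv
    set u₁ := (u : G) with hu₁
    have hu1 : u₁ * u₁ = 1 := hXsq u
    have hui : u₁⁻¹ = u₁ := inv_eq_of_mul_eq_one_right hu1
    have hu_ord : orderOf u₁ = 2 := orderOf_eq_prime (by rw [pow_two]; exact hu1)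
      (fun h => hout u hu (by rw [← hu₁, h]; exact M.one_mem))
    set j := u₁ * (v : G) with hjdef
    have hjM : j ∈ M := hpair u hu v hv
    have hinv : u₁ * j * u₁⁻¹ = j⁻¹ := by
      rw [hjdef, mul_inv_rev, inv_eq_of_mul_eq_one_right (hXsq v), hui,
        ← mul_assoc u₁ u₁, hu1, one_mul]
    have hodd : Odd (orderOf j) := by
      by_contra hcon
      obtain ⟨m, hm⟩ := Nat.not_odd_iff_even.1 hcon
      set i := j ^ m with hi
      have hm0 : 0 < m := by have := orderOf_pos j; omega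
      have hi2 : orderOf i = 2 := by
        rw [hi, orderOf_pow' _ hm0.ne', Nat.gcd_eq_right ⟨2, by omega⟩, hm,
          show m + m = 2 * m by ring, Nat.mul_div_cancel _ hm0]
      have hicomm : u₁ * i = i * u₁ := by
        have h1 : u₁ * i * u₁⁻¹ = i := by
          rw [hi, ← conj_pow, hinv, inv_pow]
          exact inv_eq_of_mul_eq_one_right (by
            rw [← pow_add, show m + m = orderOf j from hm.symm, pow_orderOf_eq_one])
        exact mul_inv_eq_iff_eq_mul.1 h1
      have hiP : IsPGroup 2 ↥(Subgroup.zpowers i) :=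
        IsPGroup.of_card (n := 1) (by rw [Nat.card_zpowers, hi2, pow_one])
      obtain ⟨T, hT, hiT⟩ := OddOrder.exists_sylowOf_ge
        (Subgroup.zpowers_le.2 (M.pow_mem hjM m)) hiP
      obtain ⟨w, hw, hwS⟩ := hc.exists_conj_core hM (OddOrder.sylowOf_of_sylow S hSM) hT.1 hT.2.1
      have hwi : w * i * w⁻¹ ∈ (S : Subgroup G) := conjBy_le.1 hwS _ (hiT (Subgroup.mem_zpowers i))
      set Ci := Subgroup.centralizer ({i} : Set G) with hCi
      have hA' : conjBy w⁻¹ (zInv (S : Subgroup G)) ≤ Ci := conjBy_le.2 fun a ha => by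
        rw [hCi, Subgroup.mem_centralizer_singleton_iff, inv_inv]
        have h2 := ha.2.2 _ hwi
        calc w⁻¹ * a * w * i = w⁻¹ * (a * (w * i * w⁻¹)) * w := by group
          _ = w⁻¹ * ((w * i * w⁻¹) * a) * w := by rw [h2]
          _ = i * (w⁻¹ * a * w) := by group
      have hCne : Ci ≠ ⊤ := hc.centralizer_ne_top fun h => by
        rw [h, orderOf_one] at hi2; omega
      have hwM : w⁻¹ ∈ M := M.inv_mem (core_le M hw)
      have hKi : core π Ci ≤ M := hc.le_of_invariant S hS hCa hwM (hc.odd_core hCne)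
        (hA'.trans (Subgroup.le_normalizer.trans (le_normalizer_core Ci)))
      have hA'2 : IsPGroup 2 ↥(conjBy w⁻¹ (zInv (S : Subgroup G))) :=
        isPGroup_conjBy _ (S.isPGroup'.to_le (zInv_le _))
      obtain ⟨T', hT', hA'T'⟩ := OddOrder.exists_sylowOf_ge hA' hA'2
      have huP : IsPGroup 2 ↥(Subgroup.zpowers u₁) :=
        IsPGroup.of_card (n := 1) (by rw [Nat.card_zpowers, hu_ord, pow_one])
      obtain ⟨q, hq, hqT⟩ := hc.exists_conj_core hCne hT'
        (Subgroup.zpowers_le.2 (show u₁ ∈ Ci from Subgroup.mem_centralizer_singleton_iff.2 hicomm)) huP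
      have h3 : q * u₁ * q⁻¹ ∈ M :=
        hTM T' _ hT'.2.1 hwM hA'T' (conjBy_le.1 hqT _ (Subgroup.mem_zpowers u₁))
      refine hout u hu ?_
      have h4 : u₁ = q⁻¹ * (q * u₁ * q⁻¹) * q := by group
      rw [← hu₁, h4]
      exact M.mul_mem (M.mul_mem (M.inv_mem (hKi hq)) h3) (hKi hq)
    have hjK : j ∈ K := by
      refine mem_core_of hjM fun p hp hpd hpi => ?_
      obtain ⟨m, hm⟩ := hpd
      have hord : orderOf (j ^ m) = p := by
        have hm0 : 0 < m := Nat.pos_of_ne_zero fun h => by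
          have h1 := orderOf_pos j
          rw [hm, h, mul_zero] at h1
          omega
        rw [orderOf_pow' _ hm0.ne', Nat.gcd_eq_right ⟨p, by rw [hm]; ring⟩, hm,
          Nat.mul_div_cancel _ hm0]
      have h1 := hc.eq_one_of_inverted hu_ord (y := j ^ m) (fun r hr hrd => by
          rw [hord] at hrd
          rw [(Nat.prime_dvd_prime_iff_eq hr hp).1 hrd]
          exact hpi)
        (by rw [hord]; exact hodd.of_dvd_nat ⟨m, hm⟩) (by rw [← conj_pow, hinv, inv_pow])
      rw [h1, orderOf_one] at hord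
      exact hp.ne_one hord.symm
    refine ⟨hjK, fun hcomm => by_contra fun hj1 => ?_⟩
    set Z := Subgroup.zpowers j with hZ
    set U := Subgroup.normalizer (Z : Set G) with hUdef
    have hU : U ≠ ⊤ := hc.normalizer_ne_top (fun h => hj1 (Subgroup.zpowers_eq_bot.1 h))
      (fun h => hM (top_le_iff.1 (h ▸ (Subgroup.zpowers_le.2 hjM : Z ≤ M))))
    have hzU : z ∈ U := by
      rw [hUdef, ← conjBy_eq_iff, conjBy, hZ, MonoidHom.map_zpowers]
      simp only [MulEquiv.coe_toMonoidHom, MulAut.conj_apply]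
      rw [← hcomm, mul_inv_cancel_right]
    have huU : u₁ ∈ U := by
      rw [hUdef, ← conjBy_eq_iff, conjBy, hZ, MonoidHom.map_zpowers]
      simp only [MulEquiv.coe_toMonoidHom, MulAut.conj_apply, hinv, Subgroup.zpowers_inv]
    obtain ⟨T, hT, hzT⟩ := OddOrder.exists_sylowOf_ge (Subgroup.zpowers_le.2 hzU)
      (IsPGroup.of_card (p := 2) (n := 1)
        (by rw [Nat.card_zpowers, orderOf_of_mem_zInv hz hz1, pow_one]))
    obtain ⟨q, hq, hqT⟩ := hc.exists_conj_core hU hT (Subgroup.zpowers_le.2 huU)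
      (IsPGroup.of_card (p := 2) (n := 1) (by rw [Nat.card_zpowers, hu_ord, pow_one]))
    have hu'T : q * u₁ * q⁻¹ ∈ T := conjBy_le.1 hqT _ (Subgroup.mem_zpowers u₁)
    obtain ⟨h, hh⟩ := exists_le_conjBy hT.2.1 S
    have hzh : h⁻¹ * z * h⁻¹⁻¹ ∈ (S : Subgroup G) :=
      conjBy_le.1 (conjBy_inv_le hh) z (hzT (Subgroup.mem_zpowers z))
    have hzh' := hc.mem_zInv_of_conj S hz hzh
    have hShC : conjBy h (S : Subgroup G) ≤ C := conjBy_le.2 fun s hs' => by
      rw [hC, Subgroup.mem_centralizer_singleton_iff]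
      have h1 := hzh'.2.2 s hs'
      rw [inv_inv] at h1
      calc h * s * h⁻¹ * z = h * (s * (h⁻¹ * z * h)) * h⁻¹ := by group
        _ = h * (h⁻¹ * z * h * s) * h⁻¹ := by rw [h1]
        _ = z * (h * s * h⁻¹) := by group
    obtain ⟨w, hw, hwS⟩ := hc.exists_conj_core hM (OddOrder.sylowOf_of_sylow S hSM)
      (hShC.trans hCM) (isPGroup_conjBy h S.isPGroup')
    have hhM : h ∈ M := by
      refine hc.mem_of_le_conjBy S hS hCa (M.inv_mem (core_le M hw)) ?_
      have heq : conjBy w (conjBy h (S : Subgroup G)) = (S : Subgroup G) :=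
        Subgroup.eq_of_le_of_card_ge hwS (by rw [card_conjBy, card_conjBy])
      refine (conjBy_mono _ (zInv_le _)).trans ?_
      conv_lhs => rw [← heq]
      rw [conjBy_inv_cancel]
    -- the fixed points of a conjugate four-group generate the core of `U`
    have hu'z : q * u₁ * q⁻¹ ∈ conjBy h (zInv (S : Subgroup G)) := by
      obtain ⟨g, hg⟩ := isConj_iff.1 u.2
      have h1 := conjBy_le.1 (conjBy_inv_le hh) _ hu'T
      refine mem_conjBy.2 ⟨h⁻¹ * (q * u₁ * q⁻¹) * h⁻¹⁻¹, ?_, by group⟩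
      rw [hu₁, ← hg] at h1 ⊢
      rw [show h⁻¹ * (q * (g * z * g⁻¹) * q⁻¹) * h⁻¹⁻¹ =
        (h⁻¹ * q * g) * z * (h⁻¹ * q * g)⁻¹ by group] at h1 ⊢
      exact hc.mem_zInv_of_conj S hz h1
    have hzA : z ∈ conjBy h (zInv (S : Subgroup G)) := mem_conjBy.2 ⟨_, hzh', by group⟩
    have hne : q * u₁ * q⁻¹ ≠ z := by
      intro he
      obtain ⟨e, he'⟩ := (Subgroup.mem_zpowers_iff).1
        ((Subgroup.mem_normalizer_iff.1 (inv_mem (core_le U hq)) j).1 (Subgroup.mem_zpowers j))
      rw [inv_inv] at he'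
      have h1 : (q * u₁ * q⁻¹) * j * (q * u₁ * q⁻¹)⁻¹ = j⁻¹ := by
        calc (q * u₁ * q⁻¹) * j * (q * u₁ * q⁻¹)⁻¹ = q * (u₁ * (q⁻¹ * j * q) * u₁⁻¹) * q⁻¹ := by
              group
          _ = q * (u₁ * j ^ e * u₁⁻¹) * q⁻¹ := by rw [← he']
          _ = q * (j ^ e)⁻¹ * q⁻¹ := by rw [← conj_zpow, hinv, inv_zpow]
          _ = (q * (q⁻¹ * j * q) * q⁻¹)⁻¹ := by rw [← he']; group
          _ = j⁻¹ := by group
      rw [he, ← hcomm, mul_inv_cancel_right] at h1
      exact hj1 (RankOneInvol.eq_one_of_sq_of_odd hodd (by nth_rw 1 [h1]; exact inv_mul_cancel j))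
    have hUM : core π U ≤ M := by
      -- the group generated by `z` and `q u₁ q⁻¹` acts
      refine hc.le_of_invariant_pair S hS hCa hhM (hc.odd_core hU) hzA hu'z
        (fun h0 => hz1 h0) (fun h0 => ?_) (Ne.symm hne)
        (le_normalizer_core U (Subgroup.le_normalizer hzU))
        (le_normalizer_core U (Subgroup.le_normalizer (U.mul_mem (U.mul_mem (core_le U hq) huU)
          (U.inv_mem (core_le U hq)))))
      rw [conj_eq_one_iff] at h0
      exact hout u hu (by rw [← hu₁, h0]; exact M.one_mem)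
    refine hout u hu ?_
    rw [← hu₁, show u₁ = q⁻¹ * (q * u₁ * q⁻¹) * q by group]
    exact M.mul_mem (M.mul_mem (M.inv_mem (hUM hq)) (hCM (hShC (hh hu'T)))) (hUM hq)
  -- step 5
  have hkpos : 0 < k := Nat.pos_of_ne_zero (Subgroup.index_ne_zero_of_finite (H := C.subgroupOf M))
  obtain ⟨u₀, hu₀⟩ := Finset.card_pos.1 (lt_of_lt_of_le hkpos hfib)
  have hbound : F.card ≤ C.relIndex K := by
    rw [Subgroup.relIndex, Subgroup.index_eq_card]
    haveI : Fintype (↥K ⧸ C.subgroupOf K) := Fintype.ofFinite _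
    rw [Nat.card_eq_fintype_card, ← Finset.card_univ]
    refine Finset.card_le_card_of_injOn (fun x => if hx : x ∈ F then
      ((⟨_, (hj u₀ hu₀ x hx).1⟩ : ↥K) : ↥K ⧸ C.subgroupOf K) else QuotientGroup.mk 1)
      (fun x _ => Finset.mem_univ _) ?_
    intro x hx y hy hxy
    simp only [Finset.mem_coe] at hx hy
    simp only [dif_pos hx, dif_pos hy] at hxy
    have h2 := Subgroup.mem_subgroupOf.1 (QuotientGroup.eq.1 hxy)
    simp only [Subgroup.coe_mul, Subgroup.coe_inv] at h2
    rw [mul_inv_rev, inv_eq_of_mul_eq_one_right (hXsq x),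
      show (x : G) * (u₀ : G)⁻¹ * ((u₀ : G) * (y : G)) = (x : G) * (y : G) by group] at h2
    have h3 := (hj x hx y hy).2 (Subgroup.mem_centralizer_singleton_iff.1 h2)
    exact Subtype.ext (by
      rw [← inv_eq_of_mul_eq_one_right h3, inv_eq_of_mul_eq_one_right (hXsq x)])
  have hlt : C.relIndex K < k := by
    rw [hk, Subgroup.relIndex, Subgroup.relIndex, Subgroup.index_eq_card, Subgroup.index_eq_card]
    haveI : Fintype (↥K ⧸ C.subgroupOf K) := Fintype.ofFinite _
    haveI : Fintype (↥M ⧸ C.subgroupOf M) := Fintype.ofFinite _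
    rw [Nat.card_eq_fintype_card, Nat.card_eq_fintype_card]
    let f : ↥K ⧸ C.subgroupOf K → ↥M ⧸ C.subgroupOf M :=
      Quotient.map' (Subgroup.inclusion (core_le M)) fun a b h => by
        rw [QuotientGroup.leftRel_apply] at h ⊢
        exact h
    have hinj : Function.Injective f := by
      intro a b
      induction a using QuotientGroup.induction_on with
      | _ a =>
        induction b using QuotientGroup.induction_on with
        | _ b =>
          intro h
          have h1 := QuotientGroup.eq.1 h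
          exact QuotientGroup.eq.2 h1
    refine Fintype.card_lt_of_injective_not_surjective f hinj fun hsurj => ?_
    obtain ⟨n, hn, hne⟩ := hc.exists_moved S hz hz1
    obtain ⟨q, hq⟩ := hsurj ((⟨n, hS hn⟩ : ↥M) : ↥M ⧸ C.subgroupOf M)
    obtain ⟨a, rfl⟩ := QuotientGroup.mk_surjective q
    have h1 := Subgroup.mem_centralizer_singleton_iff.1
      (Subgroup.mem_subgroupOf.1 (QuotientGroup.eq.1 hq))
    simp only [Subgroup.coe_mul, Subgroup.coe_inv, Subgroup.coe_inclusion] at h1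
    have h2 : n * z * n⁻¹ = (a : G) * z * (a : G)⁻¹ :=
      calc n * z * n⁻¹ = (a : G) * ((a : G)⁻¹ * n * z) * n⁻¹ := by group
        _ = (a : G) * (z * ((a : G)⁻¹ * n)) * n⁻¹ := by rw [h1]
        _ = _ := by group
    have h3 : n * z * n⁻¹ * z ∈ zInv (S : Subgroup G) := mul_mem (conj_mem_zInv hn hz) hz
    have h4 : n * z * n⁻¹ * z ∈ K := by
      rw [h2, show (a : G) * z * (a : G)⁻¹ * z = (a : G) * (z * (a : G)⁻¹ * z⁻¹) * (z * z) by group,
        hz.2.1, mul_one]
      exact K.mul_mem a.2 (conj_mem_core (Subgroup.le_normalizer (hSM hz.1)) (K.inv_mem a.2))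
    have h5 := RankOneInvol.eq_one_of_mem_of_sq hKodd h4 h3.2.1
    exact hne (by rw [← inv_eq_of_mul_eq_one_left h5, inv_eq_of_mul_eq_one_right hz.2.1])
  have : k ≤ F.card := hfib
  omega

end Over

end Crit

end CfsgLib.PiHom
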