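import Mathlib.GroupTheory.Sylow
import Mathlib.GroupTheory.Index
import Mathlib.GroupTheory.SchurZassenhaus
import Cfsg.Agent.Lib.Coprime.SchurZassenhaus
import Cfsg.Agent.Lib.PF.OddOrder

/-!
# π-homogeneous groups with 2-closed π-subgroups: definitions and inheritance
-/

set_option autoImplicit false
set_option linter.style.haveILetI false

namespace CfsgLib.PiHom

universe u

/-- every prime divisor of `n` lies in `π` -/
def PiNum (π : Set ℕ) (n : ℕ) : Prop := ∀ p : ℕ, p.Prime → p ∣ n → p ∈ π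

/-- no prime divisor of `n` lies in `π` -/
def PrimeTo (π : Set ℕ) (n : ℕ) : Prop := ∀ p : ℕ, p.Prime → p ∣ n → p ∉ π

/-- the elements of order prime to `π` form a subgroup -/
def Closed (π : Set ℕ) (G : Type u) [Group G] : Prop :=
  ∃ K : Subgroup G, ∀ x : G, x ∈ K ↔ PrimeTo π (orderOf x)

/-- all Sylow 2-subgroups are normal -/
def TwoNormal (G : Type u) [Group G] : Prop := ∀ P : Sylow 2 G, (P : Subgroup G).Normal

/-- all π-subgroups are 2-closed -/
def TwoClosed (π : Set ℕ) (G : Type u) [Group G] : Prop :=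
  ∀ H : Subgroup G, PiNum π (Nat.card ↥H) → TwoNormal ↥H

/-- every automizer of a π-subgroup is a π-group -/
def Homog (π : Set ℕ) (G : Type u) [Group G] : Prop :=
  ∀ H : Subgroup G, H ≠ ⊥ → PiNum π (Nat.card ↥H) →
    PiNum π ((Subgroup.centralizer (H : Set G)).relIndex (Subgroup.normalizer (H : Set G)))

variable {π : Set ℕ} {G : Type u} [Group G]

theorem PiNum.dvd {m n : ℕ} (h : PiNum π n) (hd : m ∣ n) : PiNum π m :=
  fun p hp hm => h p hp (hm.trans hd)

theorem PiNum.mul {m n : ℕ} (hm : PiNum π m) (hn : PiNum π n) : PiNum π (m * n) :=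
  fun p hp h => (hp.dvd_mul.1 h).elim (hm p hp) (hn p hp)

theorem PrimeTo.dvd {m n : ℕ} (h : PrimeTo π n) (hd : m ∣ n) : PrimeTo π m :=
  fun p hp hm => h p hp (hm.trans hd)

theorem PrimeTo.mul {m n : ℕ} (hm : PrimeTo π m) (hn : PrimeTo π n) : PrimeTo π (m * n) :=
  fun p hp h => (hp.dvd_mul.1 h).elim (hm p hp) (hn p hp)

theorem piNum_one : PiNum π 1 := fun _ hp h => absurd (Nat.dvd_one.1 h) hp.ne_one

theorem primeTo_one : PrimeTo π 1 := fun _ hp h => absurd (Nat.dvd_one.1 h) hp.ne_one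

theorem PiNum.coprime {m n : ℕ} (hm : PiNum π m) (hn : PrimeTo π n) : m.Coprime n :=
  Nat.coprime_of_dvd' fun k hk h1 h2 => absurd (hm k hk h1) (hn k hk h2)

theorem PiNum.eq_one {m : ℕ} (hm : PiNum π m) (hn : PrimeTo π m) : m = 1 :=
  Nat.coprime_self m |>.1 (hm.coprime hn)

theorem PrimeTo.odd (h2 : (2 : ℕ) ∈ π) {n : ℕ} (h : PrimeTo π n) : Odd n :=
  Nat.not_even_iff_odd.1 fun he => h 2 Nat.prime_two he.two_dvd h2

theorem piNum_two_pow (h2 : (2 : ℕ) ∈ π) (k : ℕ) : PiNum π (2 ^ k) := fun p hp hd => by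
  rw [(Nat.prime_dvd_prime_iff_eq hp Nat.prime_two).1 (hp.dvd_of_dvd_pow hd)]
  exact h2

theorem piNum_of_isPGroup [Finite G] {p : ℕ} [Fact p.Prime] (hp : p ∈ π) {X : Subgroup G}
    (hX : IsPGroup p X) : PiNum π (Nat.card ↥X) := by
  obtain ⟨k, hk⟩ := IsPGroup.iff_card.1 hX
  intro r hr hd
  rw [hk] at hd
  rw [(Nat.prime_dvd_prime_iff_eq hr Fact.out).1 (hr.dvd_of_dvd_pow hd)]
  exact hp

/-- elements of a π-subgroup and elements of order prime to π meet trivially -/
theorem eq_one_of_piNum_of_primeTo {x : G} (h1 : PiNum π (orderOf x)) (h2 : PrimeTo π (orderOf x)) :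
    x = 1 :=
  orderOf_eq_one_iff.1 (h1.eq_one h2)

theorem primeTo_card [Finite G] {K : Subgroup G} (hK : ∀ x ∈ K, PrimeTo π (orderOf x)) :
    PrimeTo π (Nat.card ↥K) := fun p hp hd => by
  haveI : Fact p.Prime := ⟨hp⟩
  obtain ⟨x, hx⟩ := exists_prime_orderOf_dvd_card' p hd
  refine hK x x.2 p hp ?_
  rw [Subgroup.orderOf_coe, hx]

theorem piNum_card [Finite G] {K : Subgroup G} (hK : ∀ x ∈ K, PrimeTo π (orderOf x) → x = 1) :
    PiNum π (Nat.card ↥K) := fun p hp hd => by
  haveI : Fact p.Prime := ⟨hp⟩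
  obtain ⟨x, hx⟩ := exists_prime_orderOf_dvd_card' p hd
  by_contra hpi
  have h1 : orderOf (x : G) = p := by rw [Subgroup.orderOf_coe, hx]
  have h2 : (x : G) = 1 := hK x x.2 fun r hr hrd => by
    rw [h1] at hrd
    rw [(Nat.prime_dvd_prime_iff_eq hr hp).1 hrd]
    exact hpi
  rw [h2, orderOf_one] at h1
  exact hp.ne_one h1.symm

theorem primeTo_orderOf_conj {x : G} (g : G) (h : PrimeTo π (orderOf x)) :
    PrimeTo π (orderOf (g * x * g⁻¹)) := by
  have h1 : orderOf (g * x * g⁻¹) = orderOf x :=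
    orderOf_injective (MulAut.conj g).toMonoidHom (MulAut.conj g).injective x
  rwa [h1]

/-- if `K ≤ N` and `N` normalises `C` then the relative index in `K` divides the one in `N` -/
theorem relIndex_dvd_of_le_normalizer {C K N : Subgroup G} (hKN : K ≤ N)
    (hN : N ≤ Subgroup.normalizer (C : Set G)) : C.relIndex K ∣ C.relIndex N := by
  have : (C.subgroupOf N).Normal := Subgroup.normal_subgroupOf_of_le_normalizer hN
  rw [← Subgroup.relIndex_subgroupOf (H := C) hKN]
  exact Subgroup.relIndex_dvd_index_of_normal _ _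

theorem normalizer_le_normalizer_centralizer (H : Subgroup G) :
    Subgroup.normalizer (H : Set G) ≤ Subgroup.normalizer (Subgroup.centralizer (H : Set G) : Set G) := by
  intro g hg
  rw [Subgroup.mem_normalizer_iff] at hg ⊢
  intro c
  simp only [Subgroup.mem_centralizer_iff]
  constructor
  · intro hc h hh
    have h1 := hc (g⁻¹ * h * g) ((hg _).2 (by simpa [mul_assoc] using hh))
    calc h * (g * c * g⁻¹) = g * ((g⁻¹ * h * g) * c) * g⁻¹ := by group
      _ = g * (c * (g⁻¹ * h * g)) * g⁻¹ := by rw [h1]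
      _ = g * c * g⁻¹ * h := by group
  · intro hc h hh
    have h1 := hc (g * h * g⁻¹) ((hg h).1 hh)
    calc h * c = g⁻¹ * (g * h * g⁻¹ * (g * c * g⁻¹)) * g := by group
      _ = g⁻¹ * (g * c * g⁻¹ * (g * h * g⁻¹)) * g := by rw [h1]
      _ = c * h := by group

theorem twoNormal_of_surjective [Finite G] {G' : Type u} [Group G'] (f : G →* G')
    (hf : Function.Surjective f) (h : TwoNormal G) : TwoNormal G' := by
  haveI : Fact (Nat.Prime 2) := ⟨Nat.prime_two⟩
  haveI : Finite G' := Finite.of_surjective f hf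
  intro P
  let P₀ : Sylow 2 G := default
  have hn : ((P₀.mapSurjective hf : Sylow 2 G') : Subgroup G').Normal := by
    rw [Sylow.coe_mapSurjective]
    exact (h P₀).map f hf
  have := Sylow.unique_of_normal (P₀.mapSurjective hf) hn
  rw [Subsingleton.elim P (P₀.mapSurjective hf)]
  exact hn

section Inherit

variable [Finite G] {G' : Type u} [Group G'] [Finite G']

theorem twoClosed_of_injective (f : G' →* G) (hf : Function.Injective f) (h : TwoClosed π G) :
    TwoClosed π G' := fun H hH => by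
  have e := H.equivMapOfInjective f hf
  have h1 : PiNum π (Nat.card ↥(H.map f)) := by rwa [← Nat.card_congr e.toEquiv]
  exact twoNormal_of_surjective e.symm.toMonoidHom e.symm.surjective (h _ h1)

theorem homog_of_injective (f : G' →* G) (hf : Function.Injective f) (h : Homog π G) :
    Homog π G' := fun H hne hH => by
  have e := H.equivMapOfInjective f hf
  have h1 : PiNum π (Nat.card ↥(H.map f)) := by rwa [← Nat.card_congr e.toEquiv]
  have hne' : H.map f ≠ ⊥ := fun h0 => hne ((Subgroup.map_eq_bot_iff_of_injective H hf).1 h0)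
  have hC : Subgroup.centralizer (H : Set G') =
      (Subgroup.centralizer ((H.map f : Subgroup G) : Set G)).comap f := by
    ext c
    simp only [Subgroup.mem_centralizer_iff, Subgroup.mem_comap, Subgroup.coe_map,
      Set.forall_mem_image, SetLike.mem_coe]
    refine forall₂_congr fun x _ => ?_
    rw [← map_mul, ← map_mul]
    exact ⟨fun h2 => congrArg f h2, fun h2 => hf h2⟩
  rw [hC, Subgroup.relIndex_comap]
  refine (h _ hne' h1).dvd (relIndex_dvd_of_le_normalizer ?_ (normalizer_le_normalizer_centralizer _))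
  exact Subgroup.le_normalizer_map f

theorem TwoClosed.subgroup (h : TwoClosed π G) (U : Subgroup G) : TwoClosed π ↥U :=
  twoClosed_of_injective U.subtype U.subtype_injective h

theorem Homog.subgroup (h : Homog π G) (U : Subgroup G) : Homog π ↥U :=
  homog_of_injective U.subtype U.subtype_injective h

end Inherit

section Quotient

variable [Finite G] (N : Subgroup G) [N.Normal]

theorem card_comap_mk' (H : Subgroup (G ⧸ N)) :
    Nat.card ↥(H.comap (QuotientGroup.mk' N)) = Nat.card ↥N * Nat.card ↥H := by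
  have h0 : N ≤ H.comap (QuotientGroup.mk' N) := fun x hx => by
    rw [Subgroup.mem_comap, QuotientGroup.mk'_apply, (QuotientGroup.eq_one_iff x).2 hx]
    exact H.one_mem
  have h1 := Subgroup.relIndex_mul_relIndex ⊥ N (H.comap (QuotientGroup.mk' N)) bot_le h0
  rw [Subgroup.relIndex_bot_left, Subgroup.relIndex_bot_left] at h1
  rw [← h1]
  congr 1
  have h2 := Subgroup.relIndex_comap ⊥ (QuotientGroup.mk' N) (H.comap (QuotientGroup.mk' N))
  rw [MonoidHom.comap_bot, QuotientGroup.ker_mk',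
    Subgroup.map_comap_eq_self_of_surjective (QuotientGroup.mk'_surjective N),
    Subgroup.relIndex_bot_left] at h2
  exact h2

theorem twoClosed_quotient_piNum (hN : PiNum π (Nat.card ↥N)) (h : TwoClosed π G) :
    TwoClosed π (G ⧸ N) := fun H hH => by
  set L := H.comap (QuotientGroup.mk' N) with hL
  have hLn : TwoNormal ↥L := h L (by rw [hL, card_comap_mk' N H]; exact hN.mul hH)
  let f : ↥L →* ↥H := ((QuotientGroup.mk' N).comp L.subtype).codRestrict H fun x => x.2
  refine twoNormal_of_surjective f (fun y => ?_) hLn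
  obtain ⟨x, hx⟩ := QuotientGroup.mk'_surjective N (y : G ⧸ N)
  exact ⟨⟨x, by rw [hL, Subgroup.mem_comap, hx]; exact y.2⟩, Subtype.ext hx⟩

omit [Finite G] in
theorem map_centralizer_le (L : Subgroup G) :
    Subgroup.centralizer (L : Set G) ≤ (Subgroup.centralizer
      ((L.map (QuotientGroup.mk' N) : Subgroup (G ⧸ N)) : Set (G ⧸ N))).comap (QuotientGroup.mk' N) := by
  intro c hc
  simp only [Subgroup.mem_comap, Subgroup.mem_centralizer_iff, Subgroup.coe_map, Set.forall_mem_image,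
    SetLike.mem_coe]
  intro x hx
  rw [← map_mul, ← map_mul, Subgroup.mem_centralizer_iff.1 hc x hx]

theorem homog_quotient_piNum (hN : PiNum π (Nat.card ↥N)) (h : Homog π G) : Homog π (G ⧸ N) :=
  fun H hne hH => by
  set f := QuotientGroup.mk' N
  have hf := QuotientGroup.mk'_surjective N
  set L := H.comap f with hL
  have hLne : L ≠ ⊥ := fun h0 => hne (by
    rw [← Subgroup.map_comap_eq_self_of_surjective hf H, ← hL, h0, Subgroup.map_bot])
  have hLpi : PiNum π (Nat.card ↥L) := by rw [hL, card_comap_mk' N H]; exact hN.mul hH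
  have hNorm : Subgroup.normalizer (H : Set (G ⧸ N)) = (Subgroup.normalizer (L : Set G)).map f := by
    rw [hL, ← Subgroup.comap_normalizer_eq_of_surjective H hf,
      Subgroup.map_comap_eq_self_of_surjective hf]
  rw [hNorm, ← Subgroup.relIndex_comap]
  refine (h L hLne hLpi).dvd (Subgroup.relIndex_dvd_of_le_left _ ?_)
  have := map_centralizer_le N L
  rwa [hL, Subgroup.map_comap_eq_self_of_surjective hf] at this

/-- a π-subgroup of a quotient by a π'-group lifts -/
theorem exists_lift (hN : PrimeTo π (Nat.card ↥N)) (H : Subgroup (G ⧸ N))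
    (hH : PiNum π (Nat.card ↥H)) :
    ∃ H₀ : Subgroup G, H₀ ≤ H.comap (QuotientGroup.mk' N) ∧ Nat.card ↥H₀ = Nat.card ↥H ∧
      H₀.map (QuotientGroup.mk' N) = H := by
  set f := QuotientGroup.mk' N with hf
  set L := H.comap f with hL
  have hNL : N ≤ L := fun x hx => by
    rw [hL, Subgroup.mem_comap, hf, QuotientGroup.mk'_apply, (QuotientGroup.eq_one_iff x).2 hx]
    exact H.one_mem
  set N' := N.subgroupOf L with hN'
  have hcN : Nat.card ↥N' = Nat.card ↥N := Nat.card_congr (Subgroup.subgroupOfEquivOfLe hNL).toEquiv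
  have hidx : N'.index = Nat.card ↥H := by
    have h1 := N'.card_mul_index
    rw [hcN] at h1
    have h2 : Nat.card ↥L = Nat.card ↥N * Nat.card ↥H := by rw [hL, card_comap_mk' N H]
    rw [h2] at h1
    exact mul_left_cancel₀ Nat.card_pos.ne' h1
  obtain ⟨Q, hQ⟩ := Subgroup.exists_right_complement'_of_coprime (N := N')
    (by rw [hcN, hidx]; exact (hH.coprime hN).symm)
  refine ⟨Q.map L.subtype, Subgroup.map_subtype_le Q, ?_, ?_⟩
  · rw [← Nat.card_congr (Q.equivMapOfInjective L.subtype L.subtype_injective).toEquiv, ← hidx]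
    have h1 := hQ.card_mul
    rw [← N'.card_mul_index] at h1
    exact mul_left_cancel₀ Nat.card_pos.ne' h1
  · refine le_antisymm ((Subgroup.map_mono (Subgroup.map_subtype_le Q)).trans
      (Subgroup.map_comap_le f H)) fun y hy => ?_
    obtain ⟨x, rfl⟩ := QuotientGroup.mk'_surjective N y
    obtain ⟨⟨n, q⟩, hnq, -⟩ := hQ.existsUnique ⟨x, hy⟩
    refine ⟨((q : ↥L) : G), ⟨q, q.2, rfl⟩, ?_⟩
    have h1 : ((n : ↥L) : G) * ((q : ↥L) : G) = x := congrArg Subtype.val hnq
    have h2 : f ((n : ↥L) : G) = 1 := (QuotientGroup.eq_one_iff _).2 n.2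
    show f ((q : ↥L) : G) = f x
    rw [← h1, map_mul, h2, one_mul]

theorem twoClosed_quotient_primeTo (hN : PrimeTo π (Nat.card ↥N)) (h : TwoClosed π G) :
    TwoClosed π (G ⧸ N) := fun H hH => by
  obtain ⟨H₀, hle, hcard, hmap⟩ := exists_lift N hN H hH
  let f : ↥H₀ →* ↥H := ((QuotientGroup.mk' N).comp H₀.subtype).codRestrict H fun x => hle x.2
  refine twoNormal_of_surjective f (fun y => ?_) (h H₀ (by rw [hcard]; exact hH))
  have hy : (y : G ⧸ N) ∈ H₀.map (QuotientGroup.mk' N) := by rw [hmap]; exact y.2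
  obtain ⟨x, hx, hxy⟩ := hy
  exact ⟨⟨x, hx⟩, Subtype.ext hxy⟩

/-- Frattini argument for complements of a normal π'-subgroup -/
theorem normalizer_quotient_le (h2 : (2 : ℕ) ∈ π) (hN : PrimeTo π (Nat.card ↥N))
    (H₀ : Subgroup G) (hH : PiNum π (Nat.card ↥H₀)) :
    Subgroup.normalizer ((H₀.map (QuotientGroup.mk' N) : Subgroup (G ⧸ N)) : Set (G ⧸ N)) ≤
      (Subgroup.normalizer (H₀ : Set G)).map (QuotientGroup.mk' N) := by
  set f := QuotientGroup.mk' N with hf
  intro y hy
  obtain ⟨g, rfl⟩ := QuotientGroup.mk'_surjective N y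
  set L := N ⊔ H₀ with hL
  haveI : (N.subgroupOf L).Normal := Subgroup.normal_subgroupOf
  have hcN : Nat.card ↥(N.subgroupOf L) = Nat.card ↥N :=
    Nat.card_congr (Subgroup.subgroupOfEquivOfLe le_sup_left).toEquiv
  have hdisj : N ⊓ H₀ = ⊥ := Subgroup.inf_eq_bot_of_coprime (hH.coprime hN).symm
  have hcL : Nat.card ↥L = Nat.card ↥N * Nat.card ↥H₀ := by
    have h1 := Subgroup.card_mul_index (N.subgroupOf L)
    rw [hcN] at h1
    rw [← h1]
    congr 1
    show N.relIndex (N ⊔ H₀) = Nat.card ↥H₀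
    rw [sup_comm, Subgroup.relIndex_sup_right, ← Subgroup.inf_relIndex_right, hdisj,
      Subgroup.relIndex_bot_left]
  have hidx : (N.subgroupOf L).index = Nat.card ↥H₀ := by
    have h1 := (N.subgroupOf L).card_mul_index
    rw [hcN, hcL] at h1
    exact mul_left_cancel₀ Nat.card_pos.ne' h1
  set H₁ := H₀.map (MulAut.conj g).toMonoidHom with hH₁
  have hLcomap : L = (H₀.map f).comap f := by
    rw [Subgroup.comap_map_eq, hf, QuotientGroup.ker_mk', hL, sup_comm]
  have hH₁L : H₁ ≤ L := by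
    rw [hLcomap, hH₁]
    rintro _ ⟨a, ha, rfl⟩
    simp only [Subgroup.mem_comap, MulEquiv.coe_toMonoidHom, MulAut.conj_apply, map_mul, map_inv]
    exact (Subgroup.mem_normalizer_iff.1 hy (f a)).1 ⟨a, ha, rfl⟩
  have hc₀ : Nat.card ↥(H₀.subgroupOf L) = (N.subgroupOf L).index := by
    rw [hidx]; exact Nat.card_congr (Subgroup.subgroupOfEquivOfLe le_sup_right).toEquiv
  have hc₁ : Nat.card ↥(H₁.subgroupOf L) = (N.subgroupOf L).index := by
    rw [hidx, Nat.card_congr (Subgroup.subgroupOfEquivOfLe hH₁L).toEquiv, hH₁,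
      Subgroup.card_map_of_injective (MulAut.conj g).injective]
  haveI hodd : Group.IsSolvable ↥(N.subgroupOf L) :=
    CfsgLib.PF.oddSolvable ↥(N.subgroupOf L) (by rw [hcN]; exact hN.odd h2)
  obtain ⟨k, hk, hkH⟩ := Coprime.conj_complement_of_card (N.subgroupOf L)
    (by rw [hcN, hidx]; exact (hH.coprime hN).symm) (Or.inl hodd) _ _ hc₁ hc₀
  refine ⟨(k : G) * g, ?_, ?_⟩
  · have hsub : ∀ a ∈ H₀, ((k : G) * g) * a * ((k : G) * g)⁻¹ ∈ H₀ := fun a ha => by
      have h1 : (⟨g * a * g⁻¹, hH₁L ⟨a, ha, rfl⟩⟩ : ↥L) ∈ H₁.subgroupOf L :=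
        Subgroup.mem_subgroupOf.2 ⟨a, ha, rfl⟩
      have h2 : k * (⟨g * a * g⁻¹, hH₁L ⟨a, ha, rfl⟩⟩ : ↥L) * k⁻¹ ∈ H₀.subgroupOf L := by
        rw [← hkH]
        exact ⟨_, h1, rfl⟩
      rw [Subgroup.mem_subgroupOf] at h2
      simpa [mul_assoc] using h2
    have heq : H₀.map (MulAut.conj ((k : G) * g)).toMonoidHom = H₀ :=
      Subgroup.eq_of_le_of_card_ge (fun _ ⟨a, ha, e⟩ => e ▸ hsub a ha)
        (le_of_eq (Subgroup.card_map_of_injective (MulAut.conj _).injective).symm)
    rw [SetLike.mem_coe, Subgroup.mem_normalizer_iff]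
    intro a
    refine ⟨hsub a, fun ha => ?_⟩
    rw [← heq] at ha
    obtain ⟨b, hb, hba⟩ := ha
    have : b = a := by
      simp only [MulEquiv.coe_toMonoidHom, MulAut.conj_apply] at hba
      exact mul_left_cancel (mul_right_cancel hba)
    rwa [this] at hb
  · have h1 : f ((k : ↥L) : G) = 1 := (QuotientGroup.eq_one_iff _).2 hk
    rw [map_mul, h1, one_mul]

theorem homog_quotient_primeTo (h2 : (2 : ℕ) ∈ π) (hN : PrimeTo π (Nat.card ↥N))
    (h : Homog π G) : Homog π (G ⧸ N) := fun H hne hH => by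
  obtain ⟨H₀, -, hcard, rfl⟩ := exists_lift N hN H hH
  have hne0 : H₀ ≠ ⊥ := fun h0 => hne (by rw [h0, Subgroup.map_bot])
  have hpi : PiNum π (Nat.card ↥H₀) := by rw [hcard]; exact hH
  have hle := normalizer_quotient_le N h2 hN H₀ hpi
  refine PiNum.dvd ?_ (relIndex_dvd_of_le_normalizer hle ?_)
  · rw [← Subgroup.relIndex_comap]
    exact (h H₀ hne0 hpi).dvd (Subgroup.relIndex_dvd_of_le_left _ (map_centralizer_le N H₀))
  · exact (Subgroup.le_normalizer_map (QuotientGroup.mk' N)).trans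
      (normalizer_le_normalizer_centralizer _)

end Quotient

/-- The easy direction. -/
theorem homog_of_closed [Finite G] (h : Closed π G) : Homog π G := by
  obtain ⟨K, hK⟩ := h
  haveI : K.Normal := ⟨fun x hx g => (hK _).2 (primeTo_orderOf_conj g ((hK x).1 hx))⟩
  intro H _ hH
  have hle : K ⊓ Subgroup.normalizer (H : Set G) ≤ Subgroup.centralizer (H : Set G) := by
    rintro k ⟨hk1, hk2⟩
    rw [Subgroup.mem_centralizer_iff]
    intro x hx
    have h1 : k * x * k⁻¹ * x⁻¹ ∈ H :=
      H.mul_mem ((Subgroup.mem_normalizer_iff.1 hk2 x).1 hx) (H.inv_mem hx)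
    have h2 : k * x * k⁻¹ * x⁻¹ ∈ K := by
      rw [show k * x * k⁻¹ * x⁻¹ = k * (x * k⁻¹ * x⁻¹) by group]
      exact K.mul_mem hk1 ((inferInstance : K.Normal).conj_mem _ (K.inv_mem hk1) x)
    have h3 : orderOf (k * x * k⁻¹ * x⁻¹) ∣ Nat.card ↥H := by
      have := orderOf_dvd_natCard (⟨_, h1⟩ : ↥H)
      rwa [Subgroup.orderOf_mk] at this
    have h4 := eq_one_of_piNum_of_primeTo (hH.dvd h3) ((hK _).1 h2)
    rw [mul_inv_eq_one, mul_inv_eq_iff_eq_mul] at h4
    exact h4.symm
  have hidx : PiNum π K.index := fun p hp hd => by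
    haveI : Fact p.Prime := ⟨hp⟩
    rw [Subgroup.index_eq_card] at hd
    obtain ⟨y, hy⟩ := exists_prime_orderOf_dvd_card' p hd
    obtain ⟨x, rfl⟩ := QuotientGroup.mk_surjective y
    by_contra hpi
    -- the power of `x` of order `p`-part is prime to π and lies outside `K`
    have hdvd : p ∣ orderOf x := by
      rw [← hy]; exact orderOf_map_dvd (QuotientGroup.mk' K) x
    obtain ⟨e, m, hm, hem⟩ := Nat.exists_eq_pow_mul_and_not_dvd (orderOf_pos x).ne' p hp.ne_one
    have hxm : x ^ m ∈ K := (hK _).2 fun r hr hrd => by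
      have h1 : orderOf (x ^ m) ∣ p ^ e := orderOf_dvd_of_pow_eq_one (by
        rw [← pow_mul, mul_comm, ← hem, pow_orderOf_eq_one])
      rw [(Nat.prime_dvd_prime_iff_eq hr hp).1 (hr.dvd_of_dvd_pow (hrd.trans h1))]
      exact hpi
    have h1 : ((x : G ⧸ K)) ^ m = 1 := by
      rw [← QuotientGroup.mk_pow]; exact (QuotientGroup.eq_one_iff _).2 hxm
    exact hm (hy ▸ orderOf_dvd_of_pow_eq_one h1)
  refine hidx.dvd ?_
  refine (Subgroup.relIndex_dvd_of_le_left _ hle).trans ?_
  rw [Subgroup.inf_relIndex_right]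
  exact Subgroup.relIndex_dvd_index_of_normal _ _

end CfsgLib.PiHom
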