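import Mathlib.Algebra.Group.End
import Mathlib.GroupTheory.Perm.Cycle.Type
import Mathlib.GroupTheory.Sylow
import Cfsg.Agent.Lib.InvChar.HermNoSymThree

/-!
# Colour-preserving automorphisms of a colouring of the group of order 16

The 15 non-trivial elements carry three colours, five of each; colour-preserving automorphism
groups of odd order have order dividing five.
-/

set_option autoImplicit false
set_option linter.style.haveILetI false

namespace CfsgLib.PiHom

open CfsgLib.InvCharSixtyFour (HermLike cm)

/-- Three colours of five elements each on the non-trivial elements of a group of order 16. -/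
structure IsColouring {V C : Type*} [Group V] (col : V → C) (c : Fin 3 → C) : Prop where
  card : Nat.card V = 16
  inj : Function.Injective c
  one : ∀ i, col 1 ≠ c i
  cover : ∀ v : V, v ≠ 1 → ∃ i, col v = c i
  fibre : ∀ i, Nat.card {v : V // col v = c i} = 5

namespace IsColouring

variable {V C : Type*} [Group V] [Finite V] {col : V → C} {c : Fin 3 → C}
  (hV : IsColouring col c) {γ : MulAut V} (hγ : ∀ v, col (γ v) = col v)
include hV

theorem card_fixed : Nat.card {v : V // γ v = v} =
    1 + ∑ i : Fin 3, Nat.card {v : V // col v = c i ∧ γ v = v} := by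
  classical
  haveI := Fintype.ofFinite V
  simp only [Nat.card_eq_fintype_card, Fintype.card_subtype]
  have h : (Finset.univ.filter fun v => γ v = v) = insert (1 : V)
      ((Finset.univ : Finset (Fin 3)).biUnion fun i =>
        Finset.univ.filter fun v => col v = c i ∧ γ v = v) := by
    ext v
    simp only [Finset.mem_filter, Finset.mem_univ, true_and, Finset.mem_insert, Finset.mem_biUnion]
    constructor
    · intro h
      by_cases hv : v = 1
      · exact Or.inl hv
      · obtain ⟨i, hi⟩ := hV.cover v hv; exact Or.inr ⟨i, hi, h⟩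
    · rintro (rfl | ⟨i, -, h⟩)
      exacts [map_one γ, h]
  rw [h, Finset.card_insert_of_notMem, Finset.card_biUnion, add_comm]
  · intro i _ j _ hij
    simp only [Function.onFun, Finset.disjoint_left, Finset.mem_filter, Finset.mem_univ, true_and]
    exact fun v h1 h2 => hij (hV.inj (h1.1.symm.trans h2.1))
  · simp only [Finset.mem_biUnion, Finset.mem_filter, Finset.mem_univ, true_and, not_exists,
      not_and]
    exact fun i h => absurd h (hV.one i)

include hγ in
theorem fibre_fixed {p : ℕ} [Fact p.Prime] {n : ℕ} (hn : γ ^ p ^ n = 1) (i : Fin 3) :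
    Nat.card {v : V // col v = c i ∧ γ v = v} ≤ 5 ∧
      Nat.card {v : V // col v = c i ∧ γ v = v} % p = 5 % p := by
  classical
  haveI := Fintype.ofFinite V
  let σ : Function.End {v : V // col v = c i} := fun v => ⟨γ v.1, (hγ _).trans v.2⟩
  have hσ : ∀ (m : ℕ) (v : {v : V // col v = c i}), ((σ ^ m) v).1 = (γ ^ m) v.1 := by
    intro m
    induction m with
    | zero => intro v; rfl
    | succ m ih =>
      intro v
      rw [pow_succ', pow_succ']
      show γ ((σ ^ m) v).1 = γ ((γ ^ m) v.1)
      rw [ih]
  have h := Equiv.Perm.card_fixedPoints_modEq (p := p) (n := n) (f := σ) (by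
    funext v; apply Subtype.ext; rw [hσ, hn]; rfl)
  have h5 : Fintype.card {v : V // col v = c i} = 5 := by
    rw [← Nat.card_eq_fintype_card]; exact hV.fibre i
  have he : Nat.card {v : V // col v = c i ∧ γ v = v} = Fintype.card ↑(Function.fixedPoints σ) := by
    rw [← Nat.card_eq_fintype_card]
    exact Nat.card_congr
      { toFun := fun v => ⟨⟨v.1, v.2.1⟩, Subtype.ext v.2.2⟩
        invFun := fun v => ⟨v.1.1, v.1.2, congrArg Subtype.val v.2⟩
        left_inv := fun _ => rfl
        right_inv := fun _ => rfl }
  refine ⟨?_, ?_⟩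
  · rw [← hV.fibre i]
    exact Nat.card_le_card_of_injective
      (fun v => (⟨v.1, v.2.1⟩ : {v : V // col v = c i}))
      fun v w h => Subtype.ext (by simpa using h)
  · rw [he, ← h5]; exact h.symm

omit [Finite V] in
theorem fixed_mem : Nat.card {v : V // γ v = v} ∈ ({1, 2, 4, 8, 16} : Finset ℕ) := by
  have h1 := Subgroup.card_subgroup_dvd_card (MonoidHom.eqLocus γ.toMonoidHom (MonoidHom.id V))
  rw [hV.card] at h1
  have h2 : Nat.card {v : V // γ v = v} ∈ Nat.divisors 16 := Nat.mem_divisors.2 ⟨h1, by norm_num⟩
  rwa [show Nat.divisors 16 = {1, 2, 4, 8, 16} by decide] at h2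

theorem eq_one_of_card_fixed (h : Nat.card {v : V // γ v = v} = 16) : γ = 1 := by
  refine MulEquiv.ext fun v => ?_
  by_contra hv
  have h1 : Nat.card {v : V // γ v = v} < Nat.card V := by
    haveI := Fintype.ofFinite V
    classical
    rw [Nat.card_eq_fintype_card, Nat.card_eq_fintype_card]
    exact Fintype.card_subtype_lt (x := v) hv
  rw [h, hV.card] at h1
  omega

include hγ in
/-- Elements of prime order are of order five. -/
theorem eq_one_of_prime {p : ℕ} [hp : Fact p.Prime] (h2 : p ≠ 2) (h5 : p ≠ 5)
    (hn : γ ^ p = 1) : γ = 1 := by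
  refine hV.eq_one_of_card_fixed ?_
  have hF := hV.fixed_mem (γ := γ)
  have hsum := hV.card_fixed (γ := γ)
  rw [Fin.sum_univ_three] at hsum
  have h := fun i => hV.fibre_fixed hγ (p := p) (n := 1) (by rwa [pow_one]) i
  obtain ⟨a1, a2⟩ := h 0
  obtain ⟨b1, b2⟩ := h 1
  obtain ⟨c1, c2⟩ := h 2
  simp only [Finset.mem_insert, Finset.mem_singleton] at hF
  have hp2 := hp.out.two_le
  by_cases h3 : p = 3
  · subst h3; omega
  · have hp7 : 7 ≤ p := by
      by_contra hcon
      interval_cases p <;> first | omega | exact absurd hp.out (by decide)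
    rw [Nat.mod_eq_of_lt (by omega : 5 < p), Nat.mod_eq_of_lt (by omega)] at a2 b2 c2
    omega

include hγ in
/-- A 5-element fixing one colour pointwise is trivial. -/
theorem eq_one_of_fixes {n : ℕ} (hn : γ ^ 5 ^ n = 1) {i : Fin 3}
    (hfix : ∀ v, col v = c i → γ v = v) : γ = 1 := by
  haveI : Fact (Nat.Prime 5) := ⟨by norm_num⟩
  refine hV.eq_one_of_card_fixed ?_
  have hF := hV.fixed_mem (γ := γ)
  have hsum := hV.card_fixed (γ := γ)
  rw [Fin.sum_univ_three] at hsum
  have h := fun i => hV.fibre_fixed hγ (p := 5) (n := n) hn i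
  have hi : Nat.card {v : V // col v = c i ∧ γ v = v} = 5 := by
    rw [← hV.fibre i]
    exact Nat.card_congr (Equiv.subtypeEquivRight fun v => ⟨fun h => h.1, fun h => ⟨h, hfix v h⟩⟩)
  obtain ⟨a1, a2⟩ := h 0
  obtain ⟨b1, b2⟩ := h 1
  obtain ⟨c1, c2⟩ := h 2
  simp only [Finset.mem_insert, Finset.mem_singleton] at hF
  fin_cases i <;> simp only [Fin.isValue, Fin.reduceFinMk] at hi <;> omega

/-- Colour-preserving groups of odd order have order dividing five. -/
theorem card_dvd_five {Γ : Subgroup (MulAut V)} (hodd : Odd (Nat.card ↥Γ))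
    (hΓ : ∀ γ ∈ Γ, ∀ v, col (γ v) = col v) : Nat.card ↥Γ ∣ 5 := by
  classical
  haveI : Finite (MulAut V) := Finite.of_injective (fun e : MulAut V => (e : V → V))
    fun a b h => MulEquiv.ext (congrFun h)
  haveI h5 : Fact (Nat.Prime 5) := ⟨by norm_num⟩
  have hprimes : ∀ p : ℕ, p.Prime → p ∣ Nat.card ↥Γ → p = 5 := by
    intro p hp hd
    by_contra hne
    haveI : Fact p.Prime := ⟨hp⟩
    obtain ⟨g, hg⟩ := exists_prime_orderOf_dvd_card' p hd
    have h2 : p ≠ 2 := fun h => Nat.not_even_iff_odd.2 hodd (even_iff_two_dvd.2 (h ▸ hd))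
    have h1 : (g : MulAut V) = 1 := hV.eq_one_of_prime (hΓ g g.2) h2 hne
      (by rw [← Subgroup.coe_pow, ← hg, pow_orderOf_eq_one, Subgroup.coe_one])
    rw [show g = 1 from Subtype.ext h1, orderOf_one] at hg
    exact hp.ne_one hg.symm
  have hcard : ∃ k, Nat.card ↥Γ = 5 ^ k :=
    ⟨_, Nat.eq_prime_pow_of_unique_prime_dvd Nat.card_pos.ne' fun {d} hd hd' => hprimes d hd hd'⟩
  obtain ⟨k, hk⟩ := hcard
  -- faithful on the five elements of the first colour
  haveI := Fintype.ofFinite V
  let f : ↥Γ →* Equiv.Perm {v : V // col v = c 0} :=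
    { toFun := fun g => (g : MulAut V).toEquiv.subtypeEquiv fun v => by
        show _ ↔ col ((g : MulAut V) v) = c 0
        rw [hΓ g g.2]
      map_one' := Equiv.ext fun v => rfl
      map_mul' := fun a b => Equiv.ext fun v => rfl }
  have hf : Function.Injective f := by
    refine (injective_iff_map_eq_one f).2 fun g hg => Subtype.ext ?_
    have hn : (g : MulAut V) ^ 5 ^ k = 1 := by
      rw [← Subgroup.coe_pow, ← hk, pow_card_eq_one', Subgroup.coe_one]
    exact hV.eq_one_of_fixes (hΓ g g.2) hn (i := 0) fun v hv =>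
      congrArg Subtype.val (Equiv.ext_iff.1 hg ⟨v, hv⟩)
  have h120 := Subgroup.card_dvd_of_injective f hf
  rw [Nat.card_perm, hV.fibre, hk] at h120
  rw [hk]
  have hk1 : k ≤ 1 := by
    by_contra hcon
    have h25 : 5 ^ 2 ∣ Nat.factorial 5 := (pow_dvd_pow 5 (by omega)).trans h120
    norm_num [Nat.factorial] at h25
  exact (pow_dvd_pow 5 hk1).trans (dvd_of_eq (pow_one 5))

end IsColouring

/-! ### The colouring of `T/Z(T)` by squares -/

section Herm

variable {T : Type*} [Group T]

theorem map_center_mem (α : MulAut T) {z : T} (hz : z ∈ Subgroup.center T) :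
    α z ∈ Subgroup.center T := by
  rw [Subgroup.mem_center_iff] at hz ⊢
  intro g
  obtain ⟨g, rfl⟩ := α.surjective g
  rw [← map_mul, ← map_mul, hz]

/-- the action on the central quotient -/
def toV (T : Type*) [Group T] : MulAut T →* MulAut (T ⧸ Subgroup.center T) where
  toFun α := QuotientGroup.congr (Subgroup.center T) (Subgroup.center T) α (by
    apply le_antisymm
    · rintro _ ⟨z, hz, rfl⟩; exact map_center_mem α hz
    · intro z hz
      exact ⟨α.symm z, map_center_mem α.symm hz, α.apply_symm_apply z⟩)
  map_one' := MulEquiv.ext fun v => by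
    induction v using QuotientGroup.induction_on with
    | _ t => rfl
  map_mul' a b := MulEquiv.ext fun v => by
    induction v using QuotientGroup.induction_on with
    | _ t => rfl

theorem toV_mk (α : MulAut T) (t : T) :
    toV T α (t : T ⧸ Subgroup.center T) = ((α t : T) : T ⧸ Subgroup.center T) := rfl

/-- the square of a representative -/
noncomputable def sqCol (v : T ⧸ Subgroup.center T) : T := Quotient.out v * Quotient.out v

theorem mk_eq_iff_exists {s t : T} : (t : T ⧸ Subgroup.center T) = s ↔
    ∃ a ∈ Subgroup.center T, t = s * a :=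
  ⟨fun h => ⟨s⁻¹ * t, QuotientGroup.eq.1 h.symm, by group⟩,
    fun ⟨a, ha, h⟩ => (QuotientGroup.eq.2 (by rw [h, inv_mul_cancel_left]; exact ha)).symm⟩

section

variable {q : ℕ} (h : HermLike T q)
include h

theorem sqCol_mk (t : T) : sqCol (t : T ⧸ Subgroup.center T) = t * t := by
  obtain ⟨a, ha, he⟩ := mk_eq_iff_exists.1 (QuotientGroup.out_eq' (t : T ⧸ Subgroup.center T))
  rw [sqCol, he]
  have hc := Subgroup.mem_center_iff.1 ha t
  calc t * a * (t * a) = t * (a * t) * a := by group
    _ = t * (t * a) * a := by rw [hc]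
    _ = t * t * (a * a) := by group
    _ = t * t := by rw [h.center_sq a ha, mul_one]

theorem sqCol_eq_one {v : T ⧸ Subgroup.center T} : sqCol v = 1 ↔ v = 1 := by
  induction v using QuotientGroup.induction_on with
  | _ t =>
    rw [sqCol_mk h, QuotientGroup.eq_one_iff]
    exact ⟨h.sq_one t, h.center_sq t⟩

theorem mul_self_eq_one (v : T ⧸ Subgroup.center T) : v * v = 1 := by
  induction v using QuotientGroup.induction_on with
  | _ t => rw [← QuotientGroup.mk_mul, QuotientGroup.eq_one_iff]; exact h.sq_mem t

theorem quot_comm (v w : T ⧸ Subgroup.center T) : v * w = w * v := by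
  calc v * w = (v * w)⁻¹ := (inv_eq_of_mul_eq_one_right (mul_self_eq_one h _)).symm
    _ = w⁻¹ * v⁻¹ := mul_inv_rev _ _
    _ = w * v := by
      rw [inv_eq_of_mul_eq_one_right (mul_self_eq_one h v),
        inv_eq_of_mul_eq_one_right (mul_self_eq_one h w)]

theorem sqCol_toV (α : MulAut T) (v : T ⧸ Subgroup.center T) :
    sqCol (toV T α v) = α (sqCol v) := by
  induction v using QuotientGroup.induction_on with
  | _ t => rw [toV_mk, sqCol_mk h, sqCol_mk h, map_mul]

end

variable [Finite T] (h : HermLike T 4)
include h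

omit [Finite T] in
theorem card_quot : Nat.card (T ⧸ Subgroup.center T) = 16 := by
  have h1 := Subgroup.card_mul_index (Subgroup.center T)
  rw [h.card_center, h.card] at h1
  rw [← Subgroup.index_eq_card]
  omega

/-- A fixed-point-free cycle on the centre gives the colouring. -/
theorem isColouring (α : MulAut T) {z : T} (hz : z ∈ Subgroup.center T) (hz1 : z ≠ 1)
    (h1 : α z ≠ z) (h2 : α (α z) ≠ z) :
    IsColouring (sqCol (T := T)) ![z, α z, α (α z)] := by
  classical
  haveI := Fintype.ofFinite T
  haveI := Fintype.ofFinite (T ⧸ Subgroup.center T)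
  have h21 : α (α z) ≠ α z := fun e => h1 (α.injective e)
  have hz' : α z ≠ 1 := fun e => hz1 (α.injective (e.trans (map_one α).symm))
  have hz'' : α (α z) ≠ 1 := fun e => hz' (α.injective (e.trans (map_one α).symm))
  have hmem : ∀ w ∈ Subgroup.center T, w = 1 ∨ w = z ∨ w = α z ∨ w = α (α z) := by
    intro w hw
    by_contra hc
    push Not at hc
    have hsub : ({1, z, α z, α (α z), w} : Finset T) ⊆ Finset.univ.filter (· ∈ Subgroup.center T) := by
      intro v hv
      simp only [Finset.mem_insert, Finset.mem_singleton] at hv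
      simp only [Finset.mem_filter, Finset.mem_univ, true_and]
      rcases hv with rfl | rfl | rfl | rfl | rfl
      exacts [one_mem _, hz, InvCharSixtyFour.center_invariant α _ hz,
        InvCharSixtyFour.center_invariant α _ (InvCharSixtyFour.center_invariant α _ hz), hw]
    have h5 := Finset.card_le_card hsub
    rw [← Fintype.card_subtype, ← Nat.card_eq_fintype_card] at h5
    have h6 : ({1, z, α z, α (α z), w} : Finset T).card = 5 := by
      rw [Finset.card_insert_of_notMem, Finset.card_insert_of_notMem,
        Finset.card_insert_of_notMem, Finset.card_pair hc.2.2.2.symm]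
      · simp [h21.symm, hc.2.2.1.symm]
      · simp [h1.symm, h2.symm, hc.2.1.symm]
      · simp [hz1.symm, hz'.symm, hz''.symm, hc.1.symm]
    have h7 : Nat.card {v : T // v ∈ Subgroup.center T} = 4 := h.card_center
    omega
  have hcover : ∀ v : T ⧸ Subgroup.center T, v ≠ 1 → ∃ i, sqCol v = ![z, α z, α (α z)] i := by
    intro v hv
    have hc : sqCol v ∈ Subgroup.center T := by rw [sqCol]; exact h.sq_mem _
    rcases hmem _ hc with e | e | e | e
    · exact absurd ((sqCol_eq_one h).1 e) hv
    · exact ⟨0, e⟩
    · exact ⟨1, e⟩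
    · exact ⟨2, e⟩
  have hshift : ∀ u : T, Nat.card {v : T ⧸ Subgroup.center T // sqCol v = u} =
      Nat.card {v : T ⧸ Subgroup.center T // sqCol v = α u} := fun u =>
    Nat.card_congr ((toV T α).toEquiv.subtypeEquiv fun v => by
      show _ ↔ sqCol (toV T α v) = α u
      rw [sqCol_toV h, α.injective.eq_iff])
  have hinj : Function.Injective ![z, α z, α (α z)] := by
    intro i j hij
    fin_cases i <;> fin_cases j <;> simp_all [eq_comm]
  have hone : ∀ i, sqCol (1 : T ⧸ Subgroup.center T) ≠ ![z, α z, α (α z)] i := fun i => by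
    rw [(sqCol_eq_one h).2 rfl]
    fin_cases i <;> simp [hz1.symm, hz'.symm, hz''.symm]
  refine ⟨card_quot h, hinj, hone, hcover, ?_⟩
  have hsum : 1 + ∑ i : Fin 3, Nat.card {v : T ⧸ Subgroup.center T //
      sqCol v = ![z, α z, α (α z)] i} = 16 := by
    have h16 := card_quot h
    rw [Nat.card_eq_fintype_card, ← Finset.card_univ] at h16
    rw [← h16]
    have e : (Finset.univ : Finset (T ⧸ Subgroup.center T)) = insert 1
        ((Finset.univ : Finset (Fin 3)).biUnion fun i =>
          Finset.univ.filter fun v => sqCol v = ![z, α z, α (α z)] i) := by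
      refine (Finset.eq_univ_iff_forall.2 fun v => ?_).symm
      by_cases hv : v = 1
      · exact Finset.mem_insert.2 (Or.inl hv)
      · obtain ⟨i, hi⟩ := hcover v hv
        exact Finset.mem_insert.2 (Or.inr (Finset.mem_biUnion.2 ⟨i, Finset.mem_univ _,
          Finset.mem_filter.2 ⟨Finset.mem_univ _, hi⟩⟩))
    conv_rhs => rw [e]
    rw [Finset.card_insert_of_notMem, Finset.card_biUnion, add_comm]
    · simp only [Nat.card_eq_fintype_card, Fintype.card_subtype]
    · intro i _ j _ hij
      simp only [Function.onFun, Finset.disjoint_left, Finset.mem_filter, Finset.mem_univ, true_and]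
      exact fun v h1 h2 => hij (hinj (h1.symm.trans h2))
    · simp only [Finset.mem_biUnion, Finset.mem_filter, Finset.mem_univ, true_and, not_exists]
      exact hone
  rw [Fin.sum_univ_three] at hsum
  simp only [Matrix.cons_val_zero, Matrix.cons_val_one, Matrix.cons_val] at hsum
  have e1 := hshift z
  have e2 := hshift (α z)
  intro i
  fin_cases i <;> simp only [Fin.isValue, Fin.reduceFinMk, Matrix.cons_val_zero,
    Matrix.cons_val_one, Matrix.cons_val] <;> omega

end Herm

end CfsgLib.PiHom
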