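import Cfsg.Agent.Lib.PiHom.KleinKernel
import Cfsg.Agent.Lib.Blocks.BlockParts
import Cfsg.Agent.Lib.Blocks.ClassCount
import Cfsg.Agent.Lib.Characters.LinearTwist

/-!
# Averages of character values on a coset against a linear character

`avg X l s χ` is the coefficient of the linear character `l` of `X` in the function `y ↦ χ (s y)`.
For an involution centralising `X` it is an integer of the parity of the multiplicity of `l` in `χ`;
for a normal complement `O` of the centraliser of an involution these averages satisfy the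
orthogonality relations of the 2-section.
-/

set_option autoImplicit false
set_option linter.style.haveILetI false
set_option linter.unusedSectionVars false

namespace CfsgLib.PiHom

open Cfsg CfsgLib.Characters
open scoped ComplexConjugate

universe u

variable {G : Type u} [Group G] [Fintype G]

open scoped Classical in
/-- the coefficient of `l` in the translate of `χ` -/
noncomputable def avg (X : Subgroup G) (l : ↥X →* ℂˣ) (s : G) (χ : G → ℂ) : ℂ :=
  (Nat.card ↥X : ℂ)⁻¹ * ∑ y : ↥X, conj (l y : ℂ) * χ (s * (y : G))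

theorem avg_eq (X : Subgroup G) [Fintype ↥X] (l : ↥X →* ℂˣ) (s : G) (χ : G → ℂ) :
    avg X l s χ = (Nat.card ↥X : ℂ)⁻¹ * ∑ y : ↥X, conj (l y : ℂ) * χ (s * (y : G)) := by
  unfold avg
  congr 1
  exact Finset.sum_congr (Finset.ext fun _ => by simp) fun _ _ => rfl

theorem avg_eq_classInner (X : Subgroup G) [Fintype ↥X] (l : ↥X →* ℂˣ) (s : G) (χ : G → ℂ) :
    avg X l s χ = classInner (fun y : ↥X => χ (s * (y : G))) (fun y : ↥X => (l y : ℂ)) := by
  rw [avg_eq, classInner]
  congr 1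
  exact Finset.sum_congr rfl fun _ _ => mul_comm _ _

theorem conj_hom_apply {X : Type*} [Group X] [Finite X] (l : X →* ℂˣ) (y : X) :
    conj (l y : ℂ) = ((l y⁻¹ : ℂˣ) : ℂ) :=
  (char_apply_inv (irr_isCharacter ⟨_, isIrrCharacter_of_hom l⟩) y).symm

open scoped Classical in
theorem sum_hom_eq {X : Type*} [Group X] [Fintype X] (l m : X →* ℂˣ) :
    ∑ y : X, conj (l y : ℂ) * (m y : ℂ) = if m = l then (Nat.card X : ℂ) else 0 := by
  have hm := isIrrCharacter_of_hom m
  have hl := isIrrCharacter_of_hom l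
  have h1 : ∑ y : X, conj (l y : ℂ) * (m y : ℂ) =
      (Nat.card X : ℂ) * classInner (fun y => (m y : ℂ)) (fun y => (l y : ℂ)) := by
    rw [classInner, ← mul_assoc, mul_inv_cancel₀ (Nat.cast_ne_zero.2 Nat.card_pos.ne'), one_mul]
    exact Finset.sum_congr rfl fun _ _ => mul_comm _ _
  rw [h1]
  split_ifs with h
  · rw [h, classInner_irr_self hl, mul_one]
  · rw [classInner_irr_ne hm hl fun e => h (MonoidHom.ext fun y => Units.ext (congrFun e y)),
      mul_zero]

/-- An involution centralising `X`: the average is an integer, of the parity of the multiplicity. -/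
theorem avg_int {χ : G → ℂ} (hχ : IsCharacter G χ) {X : Subgroup G} {s : G} (hs : orderOf s = 2)
    (hX : ∀ y ∈ X, s * y = y * s) (l : ↥X →* ℂˣ) :
    ∃ m D : ℕ, avg X l s χ = 2 * (m : ℂ) - D ∧ avg X l 1 χ = D := by
  classical
  let c : ↥(Subgroup.zpowers s) := ⟨s, Subgroup.mem_zpowers s⟩
  let φ : ↥X × ↥(Subgroup.zpowers s) →* G := MonoidHom.mk' (fun p => (p.2 : G) * (p.1 : G)) (by
    rintro ⟨y, t⟩ ⟨y', t'⟩
    have hcomm : (t' : G) * (y : G) = (y : G) * (t' : G) := by
      obtain ⟨k, hk⟩ := Subgroup.mem_zpowers_iff.1 t'.2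
      rw [← hk]
      exact ((show Commute s (y : G) from hX y y.2).zpow_left k).eq
    show ((t * t' : ↥(Subgroup.zpowers s)) : G) * ((y * y' : ↥X) : G) =
      (t : G) * (y : G) * ((t' : G) * (y' : G))
    rw [Subgroup.coe_mul, Subgroup.coe_mul, mul_assoc (t : G) (t' : G), ← mul_assoc (t' : G), hcomm]
    group)
  have hirr := isIrrCharacter_of_hom (l.comp (MonoidHom.fst ↥X ↥(Subgroup.zpowers s)))
  obtain ⟨m, hm, -⟩ := Clifford.exists_mult (Clifford.isCharacter_pullback hχ φ)
  obtain ⟨D, hD, -⟩ := Clifford.exists_mult (Clifford.isCharacter_subtype hχ X)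
  have hD' := hD ⟨_, isIrrCharacter_of_hom l⟩
  have hm' := hm ⟨_, hirr⟩
  have e1 : avg X l 1 χ = (D ⟨_, isIrrCharacter_of_hom l⟩ : ℂ) := by
    rw [avg_eq_classInner, ← hD']
    simp
  refine ⟨m ⟨_, hirr⟩, D ⟨_, isIrrCharacter_of_hom l⟩, ?_, e1⟩
  have hc1 : (1 : ↥(Subgroup.zpowers s)) ≠ c := fun h => by
    have h1 : (1 : G) = s := congrArg Subtype.val h
    rw [← h1, orderOf_one] at hs
    omega
  have huniv : (Finset.univ : Finset ↥(Subgroup.zpowers s)) = {1, c} := by
    refine (Finset.eq_univ_of_card _ ?_).symm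
    rw [Finset.card_pair hc1, ← Nat.card_eq_fintype_card, Nat.card_zpowers, hs]
  have hsum : avg X l 1 χ + avg X l s χ = 2 * (m ⟨_, hirr⟩ : ℂ) := by
    rw [← hm', classInner, Nat.card_prod, Nat.card_zpowers, hs, Fintype.sum_prod_type]
    simp only [huniv, Finset.sum_pair hc1, MonoidHom.coe_comp, Function.comp_apply,
      MonoidHom.coe_fst, φ, MonoidHom.mk'_apply]
    rw [Finset.sum_add_distrib]
    simp only [Subgroup.coe_one, one_mul, c]
    rw [avg_eq, avg_eq, Finset.sum_congr rfl fun (y : ↥X) _ => mul_comm (χ (y : G)) (conj (l y : ℂ)),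
      Finset.sum_congr rfl fun (y : ↥X) _ => mul_comm (χ (s * (y : G))) (conj (l y : ℂ))]
    simp only [one_mul]
    push_cast
    field_simp
  rw [← e1]
  linear_combination hsum

section Section

variable {z : G} {O : Subgroup G}

/-- `O` is a normal subgroup of `C(z)` of elements of odd order. -/
structure OddNormal (z : G) (O : Subgroup G) : Prop where
  ord : orderOf z = 2
  le : O ≤ Subgroup.centralizer ({z} : Set G)
  norm : Subgroup.centralizer ({z} : Set G) ≤ Subgroup.normalizer (O : Set G)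
  odd : ∀ y ∈ O, Odd (orderOf y)

variable (hO : OddNormal z O)
include hO

theorem OddNormal.isPPart {y : G} (hy : y ∈ O) : IsPPart 2 (z * y) z :=
  Blocks.isPPart_mul (Subgroup.mem_centralizer_singleton_iff.1 (hO.le hy)).symm ⟨1, by rw [hO.ord]; rfl⟩
    fun h => Nat.not_even_iff_odd.2 (hO.odd y hy) (even_iff_two_dvd.2 h)

theorem OddNormal.conj_iff {y y' : G} (hy : y ∈ O) (hy' : y' ∈ O) :
    IsConj (z * y) (z * y') ↔ ∃ h ∈ Subgroup.centralizer ({z} : Set G), h * y * h⁻¹ = y' := by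
  constructor
  · intro h
    obtain ⟨g, hg⟩ := isConj_iff.1 h
    have h1 := Blocks.IsPPart.conj (hO.isPPart hy) g
    rw [hg] at h1
    have hgz : g * z * g⁻¹ = z := Blocks.IsPPart.unique Nat.prime_two h1 (hO.isPPart hy')
    refine ⟨g, Subgroup.mem_centralizer_singleton_iff.2 (mul_inv_eq_iff_eq_mul.1 hgz), ?_⟩
    refine mul_left_cancel (a := z) ?_
    calc z * (g * y * g⁻¹) = g * z * g⁻¹ * (g * y * g⁻¹) := by rw [hgz]
      _ = g * (z * y) * g⁻¹ := by group
      _ = z * y' := hg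
  · rintro ⟨h, hh, rfl⟩
    refine isConj_iff.2 ⟨h, ?_⟩
    rw [show h * (z * y) * h⁻¹ = h * z * h⁻¹ * (h * y * h⁻¹) by group,
      Subgroup.mem_centralizer_singleton_iff.1 hh, mul_inv_cancel_right]

theorem OddNormal.centralizer_eq {y : G} (hy : y ∈ O) :
    Subgroup.centralizer ({z * y} : Set G) =
      Subgroup.centralizer ({z} : Set G) ⊓ Subgroup.centralizer ({y} : Set G) := by
  ext g
  simp only [Subgroup.mem_inf, Subgroup.mem_centralizer_singleton_iff]
  constructor
  · intro hg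
    have hc : g * (z * y) * g⁻¹ = z * y := mul_inv_eq_iff_eq_mul.2 hg
    have h1 := Blocks.IsPPart.conj (hO.isPPart hy) g
    rw [hc] at h1
    have hz : g * z = z * g :=
      mul_inv_eq_iff_eq_mul.1 (Blocks.IsPPart.unique Nat.prime_two h1 (hO.isPPart hy))
    refine ⟨hz, mul_left_cancel (a := z) ?_⟩
    calc z * (g * y) = g * (z * y) := by rw [← mul_assoc, ← hz, mul_assoc]
      _ = z * (y * g) := by rw [hg, mul_assoc]
  · rintro ⟨h1, h2⟩
    rw [← mul_assoc, h1, mul_assoc, h2, mul_assoc]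

open scoped Classical in
/-- Summing an invariant function over the class of `z y` in the section. -/
theorem OddNormal.sum_class {f : ↥O → ℂ}
    (hf : ∀ h ∈ Subgroup.centralizer ({z} : Set G), ∀ y y' : ↥O, h * (y : G) * h⁻¹ = (y' : G) → f y' = f y)
    (y : ↥O) :
    (Nat.card ↥(Subgroup.centralizer ({z * (y : G)} : Set G)) : ℂ) *
        ∑ y' ∈ Finset.univ.filter (fun y' : ↥O => IsConj (z * (y : G)) (z * (y' : G))), f y' =
      (Nat.card ↥(Subgroup.centralizer ({z} : Set G)) : ℂ) * f y := by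
  set C := Subgroup.centralizer ({z} : Set G)
  set T := Finset.univ.filter (fun y' : ↥O => IsConj (z * (y : G)) (z * (y' : G)))
  let F : ↥C → ↥O := fun h => ⟨(h : G) * y * (h : G)⁻¹,
    (Subgroup.mem_normalizer_iff.1 (hO.norm h.2) y).1 y.2⟩
  have hmaps : ∀ h ∈ (Finset.univ : Finset ↥C), F h ∈ T := fun h _ =>
    Finset.mem_filter.2 ⟨Finset.mem_univ _, (hO.conj_iff y.2 (F h).2).2 ⟨h, h.2, rfl⟩⟩
  have hfib : ∀ y' ∈ T, (Finset.univ.filter fun h : ↥C => F h = y').card =
      Nat.card ↥(Subgroup.centralizer ({z * (y : G)} : Set G)) := by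
    intro y' hy'
    obtain ⟨h₀, hh₀, he⟩ := (hO.conj_iff y.2 y'.2).1 (Finset.mem_filter.1 hy').2
    rw [hO.centralizer_eq y.2, Nat.card_eq_fintype_card, ← Finset.card_univ]
    refine Finset.card_bij (fun h hh => ⟨h₀⁻¹ * (h : G), ?_⟩) (fun _ _ => Finset.mem_univ _)
      (fun a _ b _ hab => Subtype.ext (mul_left_cancel (congrArg Subtype.val hab)))
      (fun k _ => ⟨⟨h₀ * (k : G), C.mul_mem hh₀ k.2.1⟩, ?_, Subtype.ext (inv_mul_cancel_left _ _)⟩)
    · refine ⟨C.mul_mem (C.inv_mem hh₀) h.2, Subgroup.mem_centralizer_singleton_iff.2 ?_⟩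
      have h1 : (h : G) * y * (h : G)⁻¹ = h₀ * y * h₀⁻¹ :=
        (congrArg Subtype.val (Finset.mem_filter.1 hh).2).trans he.symm
      calc h₀⁻¹ * (h : G) * y = h₀⁻¹ * ((h : G) * y * (h : G)⁻¹) * h := by group
        _ = y * (h₀⁻¹ * h) := by rw [h1]; group
    · refine Finset.mem_filter.2 ⟨Finset.mem_univ _, Subtype.ext ?_⟩
      show h₀ * (k : G) * y * (h₀ * (k : G))⁻¹ = y'
      rw [← he, mul_assoc h₀ (k : G), Subgroup.mem_centralizer_singleton_iff.1 k.2.2]
      group
  have hcard : Nat.card ↥C = T.card * Nat.card ↥(Subgroup.centralizer ({z * (y : G)} : Set G)) := by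
    rw [Nat.card_eq_fintype_card, ← Finset.card_univ, Finset.card_eq_sum_card_fiberwise hmaps,
      Finset.sum_congr rfl hfib, Finset.sum_const, smul_eq_mul]
  rw [Finset.sum_congr rfl (g := fun _ => f y) fun y' hy' => by
      obtain ⟨h₀, hh₀, he⟩ := (hO.conj_iff y.2 y'.2).1 (Finset.mem_filter.1 hy').2
      exact hf h₀ hh₀ y y' he,
    Finset.sum_const, nsmul_eq_mul, hcard, Nat.cast_mul]
  ring

theorem OddNormal.invariant_conj {L : ↥O →* ℂˣ}
    (hL : ∀ h ∈ Subgroup.centralizer ({z} : Set G), ∀ y y' : ↥O, h * (y : G) * h⁻¹ = (y' : G) → L y' = L y) :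
    ∀ h ∈ Subgroup.centralizer ({z} : Set G), ∀ y y' : ↥O, h * (y : G) * h⁻¹ = (y' : G) →
      (L y' : ℂ) = (L y : ℂ) := fun h hh y y' e => congrArg Units.val (hL h hh y y' e)

open scoped Classical in
/-- The orthogonality relations of the section. -/
theorem OddNormal.avg_orth {L L' : ↥O →* ℂˣ}
    (hL' : ∀ h ∈ Subgroup.centralizer ({z} : Set G), ∀ y y' : ↥O, h * (y : G) * h⁻¹ = (y' : G) → L' y' = L' y) :
    ∑ χ : IrrCharacter G, avg O L z (χ : G → ℂ) * conj (avg O L' z (χ : G → ℂ)) =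
      if L' = L then (Nat.card ↥(Subgroup.centralizer ({z} : Set G)) : ℂ) / Nat.card ↥O else 0 := by
  have h1 : ∑ χ : IrrCharacter G, avg O L z (χ : G → ℂ) * conj (avg O L' z (χ : G → ℂ)) =
      (Nat.card ↥O : ℂ)⁻¹ * (Nat.card ↥O : ℂ)⁻¹ * ∑ y : ↥O, ∑ y' : ↥O,
        conj (L y : ℂ) * (L' y' : ℂ) *
          ∑ χ : IrrCharacter G, (χ : G → ℂ) (z * y) * conj ((χ : G → ℂ) (z * y')) := by
    simp only [avg, map_mul, map_inv₀, map_natCast, map_sum, Complex.conj_conj, Finset.mul_sum,
      Finset.sum_mul]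
    rw [Finset.sum_comm]
    conv_rhs => rw [Finset.sum_comm]
    refine Finset.sum_congr rfl fun y _ => ?_
    rw [Finset.sum_comm]
    exact Finset.sum_congr rfl fun y' _ => Finset.sum_congr rfl fun χ _ => by ring
  have h2 : ∀ y : ↥O, ∑ y' : ↥O, conj (L y : ℂ) * (L' y' : ℂ) *
      (∑ χ : IrrCharacter G, (χ : G → ℂ) (z * y) * conj ((χ : G → ℂ) (z * y'))) =
      (Nat.card ↥(Subgroup.centralizer ({z} : Set G)) : ℂ) * (conj (L y : ℂ) * (L' y : ℂ)) := fun y => by
    simp only [column_orth, mul_ite, mul_zero]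
    rw [← Finset.sum_filter]
    calc _ = conj (L y : ℂ) * ((Nat.card ↥(Subgroup.centralizer ({z * (y : G)} : Set G)) : ℂ) *
          ∑ y' ∈ Finset.univ.filter (fun y' : ↥O => IsConj (z * (y : G)) (z * (y' : G))), (L' y' : ℂ)) := by
          simp only [Finset.mul_sum]
          exact Finset.sum_congr rfl fun y' _ => by ring
      _ = _ := by rw [hO.sum_class (hO.invariant_conj hL') y]; ring
  rw [h1, Finset.sum_congr rfl fun y _ => h2 y, ← Finset.mul_sum, sum_hom_eq]
  split_ifs
  · field_simp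
  · simp

open scoped Classical in
theorem OddNormal.avg_degree (L : ↥O →* ℂˣ) :
    ∑ χ : IrrCharacter G, avg O L z (χ : G → ℂ) * (χ : G → ℂ) 1 = 0 := by
  simp only [avg, mul_assoc, Finset.sum_mul]
  rw [← Finset.mul_sum, Finset.sum_comm, Finset.sum_eq_zero, mul_zero]
  intro y _
  have hne : ¬ IsConj (z * (y : G)) 1 := fun h => by
    have h1 : z = (y : G)⁻¹ := eq_inv_of_mul_eq_one_left (isConj_one_left.1 h)
    have h2 := hO.odd _ y.2
    rw [← orderOf_inv, ← h1, hO.ord] at h2
    exact absurd h2 (by decide)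
  rw [← Finset.mul_sum]
  have h3 := column_orth (z * (y : G)) 1
  rw [if_neg hne] at h3
  simp only [Chars17.conj_irr_one] at h3
  rw [h3, mul_zero]

open scoped Classical in
/-- The pairs of conjugates of `z` with product in the section. -/
theorem OddNormal.avg_pairs (L : ↥O →* ℂˣ) :
    ∑ χ : IrrCharacter G, (χ : G → ℂ) z ^ 2 * conj (avg O L z (χ : G → ℂ)) / (χ : G → ℂ) 1 =
      (Nat.card G : ℂ) / ((Subgroup.centralizer ({z} : Set G)).index : ℂ) ^ 2 *
        ((Nat.card ↥O : ℂ)⁻¹ * ∑ y : ↥O, (L y : ℂ) * ((ClassCount.pairs z z {z * (y : G)}).card : ℂ)) := by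
  set n : ℂ := ((Subgroup.centralizer ({z} : Set G)).index : ℂ)
  have hn : n ≠ 0 := Nat.cast_ne_zero.2 Subgroup.index_ne_zero_of_finite
  have h1 : ∀ y : ↥O, ((ClassCount.pairs z z {z * (y : G)}).card : ℂ) * Nat.card G =
      n ^ 2 * ∑ χ : IrrCharacter G,
        (χ : G → ℂ) z ^ 2 * conj ((χ : G → ℂ) (z * y)) / (χ : G → ℂ) 1 := fun y => by
    rw [ClassCount.card_pairs_mul, Finset.mul_sum]
    refine Finset.sum_congr rfl fun χ _ => ?_
    have := irr_one_ne_zero χ
    rw [Finset.sum_singleton, irr_apply_inv, centralChar]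
    simp only [n]
    field_simp
  simp only [avg, map_mul, map_inv₀, map_natCast, map_sum, Complex.conj_conj, Finset.mul_sum,
    Finset.sum_div]
  rw [Finset.sum_comm]
  refine Finset.sum_congr rfl fun y _ => ?_
  calc _ = (Nat.card ↥O : ℂ)⁻¹ * (L y : ℂ) * (∑ χ : IrrCharacter G,
        (χ : G → ℂ) z ^ 2 * conj ((χ : G → ℂ) (z * y)) / (χ : G → ℂ) 1) := by
        rw [Finset.mul_sum]
        exact Finset.sum_congr rfl fun χ _ => by ring
    _ = _ := by
        have h2 := h1 y
        field_simp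
        linear_combination -h2

end Section

end CfsgLib.PiHom
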