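import Cfsg.Agent.Lib.PiHom.KleinLocal
import Cfsg.Agent.Lib.LivWag.KleinFormula

/-!
# Klein four Sylow 2-subgroup: the invariant subgroups of prime power order

A prime `q` is `Iota` when no invariant `q`-subgroup meets the centralisers of two involutions
and `q` does not divide the order of the odd part of `C(S)`.  For the other primes a maximal
invariant subgroup contains invariant Sylow subgroups of all three odd cores.
-/

set_option autoImplicit false
set_option linter.style.haveILetI false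
set_option linter.unusedSectionVars false

namespace CfsgLib.PiHom

open CfsgLib.OddOrder (SylowOf)
open CfsgLib.Involutions

universe u

variable {π : Set ℕ} {G : Type u} [Group G] [Finite G]

theorem mem_normalizer_bot (s : G) :
    s ∈ Subgroup.normalizer ((⊥ : Subgroup G) : Set G) :=
  mem_normalizer_of_conjBy_le (conjBy_le.2 fun w hw => by
    rw [Subgroup.mem_bot] at hw ⊢; rw [hw]; group)

/-- an `S`-invariant subgroup of odd σ-order -/
def Inv {G : Type u} [Group G] (S : Subgroup G) (σ : Set ℕ) (X : Subgroup G) : Prop :=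
  S ≤ Subgroup.normalizer (X : Set G) ∧ Odd (Nat.card ↥X) ∧ PiNum σ (Nat.card ↥X)

/-- no invariant `q`-subgroup meets two centralisers, and `q` is prime to `C(S)` -/
def Iota {G : Type u} [Group G] (S : Subgroup G) (q : ℕ) : Prop :=
  ¬ q ∣ Nat.card ↥(oddElts (Subgroup.centralizer (S : Set G))) ∧
    ∀ Q : Subgroup G, Inv S {q} Q → ∀ c ∈ S, ∀ d ∈ S, c ≠ 1 → d ≠ 1 → c ≠ d →
      Q ⊓ Subgroup.centralizer ({c} : Set G) ≠ ⊥ → Q ⊓ Subgroup.centralizer ({d} : Set G) = ⊥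

/-- `R` contains an invariant Sylow `r`-subgroup of the centraliser of `c` -/
def Full {G : Type u} [Group G] (S : Subgroup G) (r : ℕ) (R : Subgroup G) (c : G) : Prop :=
  ∀ Y : Subgroup G, Inv S {r} Y → Y ≤ Subgroup.centralizer ({c} : Set G) →
    Nat.card ↥Y ∣ Nat.card ↥(R ⊓ Subgroup.centralizer ({c} : Set G) : Subgroup G)

theorem PiNum.dvd_of_hall {σ : Set ℕ} {X H : Subgroup G} (hH : Cfsg.IsPiHallOf σ H X) {n : ℕ}
    (hn : PiNum σ n) (hd : n ∣ Nat.card ↥X) : n ∣ Nat.card ↥H := by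
  have h1 := Subgroup.relIndex_mul_relIndex ⊥ H X bot_le hH.1
  rw [Subgroup.relIndex_bot_left, Subgroup.relIndex_bot_left] at h1
  refine (Nat.coprime_of_dvd fun p hp hpn hpi => ?_ : n.Coprime (H.relIndex X)).dvd_of_dvd_mul_right
    (h1.symm ▸ hd)
  exact hH.2.2 p hp (hn p hp hpn) hpi

omit [Finite G] in
theorem isPGroup_of_piNum [Finite G] {r : ℕ} (hr : r.Prime) {X : Subgroup G}
    (h : PiNum {r} (Nat.card ↥X)) : IsPGroup r ↥X :=
  IsPGroup.of_card (n := (Nat.card ↥X).primeFactorsList.length)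
    (Nat.eq_prime_pow_of_unique_prime_dvd Nat.card_pos.ne' fun hp hd => h _ hp hd)

omit [Finite G] in
theorem zpowers_inv_invariant {s w : G} (h : s * w * s = w ∨ s * w * s = w⁻¹) (hs : s * s = 1) :
    s ∈ Subgroup.normalizer (Subgroup.zpowers w : Set G) := by
  have hsi := inv_eq_of_mul_eq_one_right hs
  rw [Subgroup.mem_normalizer_iff]
  have key : ∀ v ∈ Subgroup.zpowers w, s * v * s⁻¹ ∈ Subgroup.zpowers w := by
    rintro _ ⟨k, rfl⟩
    simp only []
    rw [← conj_zpow]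
    refine zpow_mem ?_ k
    rw [hsi]
    rcases h with h | h <;> rw [h]
    · exact Subgroup.mem_zpowers w
    · exact inv_mem (Subgroup.mem_zpowers w)
  refine fun v => ⟨key v, fun hv => ?_⟩
  have := key _ hv
  rwa [show s * (s * v * s⁻¹) * s⁻¹ = (s * s) * v * (s * s)⁻¹ by group, hs, inv_one, one_mul,
    mul_one] at this

omit [Finite G] in
/-- An element of odd order acting as its own inverse acts trivially. -/
theorem commute_of_conj_eq {w t : G} (hodd : Odd (orderOf w)) (h : w⁻¹ * t * w = w * t * w⁻¹) :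
    w * t = t * w := by
  obtain ⟨k, hk⟩ := RankOneInvol.exists_pow_sq_eq hodd
  have h2 : Commute (w * w) t :=
    calc w * w * t = w * (w * t * w⁻¹) * w := by group
      _ = w * (w⁻¹ * t * w) * w := by rw [h]
      _ = t * (w * w) := by group
  have h3 := h2.pow_left k
  rwa [(Commute.refl w).mul_pow, hk] at h3

namespace Crit

variable (hc : Crit π G) (S : Sylow 2 G) (hK : IsKleinFour ↥(S : Subgroup G))
include hc hK

theorem exists_two : ∃ c ∈ (S : Subgroup G), ∃ d ∈ (S : Subgroup G), c ≠ 1 ∧ d ≠ 1 ∧ c ≠ d := by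
  obtain ⟨c, d, h1, h2, h3, h4, h5⟩ := hc.exists_zInv_pair S
  exact ⟨c, h1.1, d, h2.1, h3, h4, h5⟩

theorem exists_other {c : G} : ∃ d ∈ (S : Subgroup G), d ≠ 1 ∧ c ≠ d := by
  obtain ⟨a, ha, b, hb, ha1, hb1, hab⟩ := hc.exists_two S hK
  by_cases h : c = a
  · exact ⟨b, hb, hb1, h ▸ hab⟩
  · exact ⟨a, ha, ha1, h⟩

theorem mul_ne_one_of_ne {c d : G} (hcS : c ∈ (S : Subgroup G)) (hcd : c ≠ d) : c * d ≠ 1 :=
  fun h => hcd (by
    calc c = c * (c * d) := by rw [h, mul_one]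
      _ = d := by rw [← mul_assoc, sq_eq_one S hK hcS, one_mul])

theorem cases_of_mem {c d e : G} (hcS : c ∈ (S : Subgroup G)) (hdS : d ∈ (S : Subgroup G))
    (hc1 : c ≠ 1) (hd1 : d ≠ 1) (hcd : c ≠ d) (he : e ∈ (S : Subgroup G)) :
    e = 1 ∨ e = c ∨ e = d ∨ e = c * d :=
  zInv_cases (hc.card_zInv S) (mem_zInv_klein S hK hcS) hc1 (mem_zInv_klein S hK hdS) hd1 hcd
    (mem_zInv_klein S hK he)

theorem mem_centralizer_sylow_of_pair {c d w : G} (hcS : c ∈ (S : Subgroup G))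
    (hdS : d ∈ (S : Subgroup G)) (hc1 : c ≠ 1) (hd1 : d ≠ 1) (hcd : c ≠ d) (h1 : w * c = c * w)
    (h2 : w * d = d * w) : w ∈ Subgroup.centralizer ((S : Subgroup G) : Set G) :=
  Subgroup.mem_centralizer_iff.2 fun s hs => by
    rcases hc.cases_of_mem S hK hcS hdS hc1 hd1 hcd hs with rfl | rfl | rfl | rfl
    · simp
    · exact h1.symm
    · exact h2.symm
    · exact ((Commute.symm h1).mul_left (Commute.symm h2)).eq

theorem le_of_gen {X L : Subgroup G} (hX : Odd (Nat.card ↥X))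
    (hSX : (S : Subgroup G) ≤ Subgroup.normalizer (X : Set G))
    (h : ∀ e ∈ (S : Subgroup G), e ≠ 1 → X ⊓ Subgroup.centralizer ({e} : Set G) ≤ L) : X ≤ L := by
  obtain ⟨c, hcS, d, hdS, hc1, hd1, hcd⟩ := hc.exists_two S hK
  have key : ∀ e ∈ (S : Subgroup G), e ≠ 1 → ∀ w ∈ X, e * w * e = w → w ∈ L :=
    fun e he he1 w hw hfix => h e he he1 ⟨hw, Subgroup.mem_centralizer_singleton_iff.2
      ((sq_conj_eq_iff (sq_eq_one S hK he)).1 hfix)⟩
  exact RankOneInvol.le_of_fourGroup_fixed hX (sq_eq_one S hK hcS) (sq_eq_one S hK hdS)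
    (comm_of_mem S hK hcS hdS)
    (fun w hw => conj_mem_of_le_normalizer hSX hcS (sq_eq_one S hK hcS) hw)
    (fun w hw => conj_mem_of_le_normalizer hSX hdS (sq_eq_one S hK hdS) hw)
    (key c hcS hc1) (key d hdS hd1) (key _ (mul_mem hcS hdS) (hc.mul_ne_one_of_ne S hK hcS hcd))

theorem le_oddElts_of_le {X : Subgroup G} {c : G} (hX : Odd (Nat.card ↥X))
    (h : X ≤ Subgroup.centralizer ({c} : Set G)) :
    X ≤ oddElts (Subgroup.centralizer ({c} : Set G)) :=
  fun _ hw => mem_oddElts_of (h hw) (RankOneInvol.odd_orderOf_of_mem hX hw)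

theorem inv_inf {σ : Set ℕ} {X : Subgroup G} (hX : Inv (S : Subgroup G) σ X) {c : G}
    (hcS : c ∈ (S : Subgroup G)) :
    Inv (S : Subgroup G) σ (X ⊓ Subgroup.centralizer ({c} : Set G)) := by
  refine ⟨fun s hs => ?_, hX.2.1.of_dvd_nat (Subgroup.card_dvd_of_le inf_le_left),
    hX.2.2.dvd (Subgroup.card_dvd_of_le inf_le_left)⟩
  refine mem_normalizer_of_conjBy_le (conjBy_le.2 fun w hw =>
    ⟨(Subgroup.mem_normalizer_iff.1 (hX.1 hs) w).1 hw.1, ?_⟩)
  have hsC := sylow_le_centralizer S hK hcS hs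
  exact Subgroup.mul_mem _ (Subgroup.mul_mem _ hsC hw.2) (Subgroup.inv_mem _ hsC)

theorem inv_conj {σ : Set ℕ} {X : Subgroup G} (hX : Inv (S : Subgroup G) σ X) {n : G}
    (hn : n ∈ Subgroup.normalizer ((S : Subgroup G) : Set G)) :
    Inv (S : Subgroup G) σ (conjBy n X) := by
  refine ⟨fun s hs => ?_, by rw [card_conjBy]; exact hX.2.1, by rw [card_conjBy]; exact hX.2.2⟩
  refine mem_normalizer_of_conjBy_le (conjBy_le.2 fun w hw => ?_)
  obtain ⟨t, ht, rfl⟩ := mem_conjBy.1 hw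
  have hs' : n⁻¹ * s * n ∈ (S : Subgroup G) := by
    have := (Subgroup.mem_normalizer_iff.1 (inv_mem hn) s).1 hs
    rwa [inv_inv] at this
  exact mem_conjBy.2 ⟨_, (Subgroup.mem_normalizer_iff.1 (hX.1 hs') t).1 ht, by group⟩

theorem mem_normalizer_of_mem_oddElts {e : G}
    (he : e ∈ oddElts (Subgroup.centralizer ((S : Subgroup G) : Set G))) :
    e ∈ Subgroup.normalizer ((S : Subgroup G) : Set G) :=
  Subgroup.centralizer_le_normalizer _ (oddElts_le _ he)

theorem conj_fixed_of_mem_oddElts {e c : G} (hcS : c ∈ (S : Subgroup G))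
    (he : e ∈ oddElts (Subgroup.centralizer ((S : Subgroup G) : Set G))) : e * c * e⁻¹ = c :=
  conj_fix_iff.2 (Subgroup.mem_centralizer_iff.1 (oddElts_le _ he) c hcS).symm

theorem conj_mem_centralizer_of_oddElts {e c w : G} (hcS : c ∈ (S : Subgroup G))
    (he : e ∈ oddElts (Subgroup.centralizer ((S : Subgroup G) : Set G)))
    (hw : w ∈ Subgroup.centralizer ({c} : Set G)) :
    e * w * e⁻¹ ∈ Subgroup.centralizer ({c} : Set G) := by
  have := conj_mem_centralizer (g := e) hw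
  rwa [hc.conj_fixed_of_mem_oddElts S hK hcS he] at this

theorem maximal_conj {σ : Set ℕ} {X : Subgroup G} (hX : Maximal (Inv (S : Subgroup G) σ) X) {n : G}
    (hn : n ∈ Subgroup.normalizer ((S : Subgroup G) : Set G)) :
    Maximal (Inv (S : Subgroup G) σ) (conjBy n X) := by
  refine ⟨hc.inv_conj S hK hX.1 hn, fun Y hY hle => ?_⟩
  have h1 : X ≤ conjBy n⁻¹ Y := by
    rw [← conjBy_inv_cancel n X]; exact conjBy_mono _ hle
  exact (Subgroup.eq_of_le_of_card_ge hle (by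
    rw [card_conjBy, ← card_conjBy n⁻¹ Y]
    exact Subgroup.card_le_of_le (hX.2 (hc.inv_conj S hK hY (inv_mem hn)) h1))).ge

theorem exists_maximal {σ : Set ℕ} {X : Subgroup G} (hX : Inv (S : Subgroup G) σ X) :
    ∃ R, X ≤ R ∧ Maximal (Inv (S : Subgroup G) σ) R :=
  Finite.exists_le_maximal hX

theorem inv_of_hall {σ : Set ℕ} {X H : Subgroup G} (hX : Odd (Nat.card ↥X))
    (hH : Cfsg.IsPiHallOf σ H X) (hSH : (S : Subgroup G) ≤ Subgroup.normalizer (H : Set G)) :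
    Inv (S : Subgroup G) σ H :=
  ⟨hSH, hX.of_dvd_nat (Subgroup.card_dvd_of_le hH.1), hH.2.1⟩

theorem le_normalizer_of_subgroup {X : Subgroup G}
    (hX : (S : Subgroup G) ≤ Subgroup.normalizer (X : Set G)) :
    (S : Subgroup G) ≤ Subgroup.normalizer (Subgroup.normalizer (X : Set G) : Set G) :=
  hX.trans Subgroup.le_normalizer

/-- Two maximal invariant `r`-subgroups with non-trivial intersection are conjugate. -/
theorem maximal_conj_of_meet {r : ℕ} [Fact r.Prime] :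
    ∀ (k : ℕ) (R₁ R₂ : Subgroup G), Maximal (Inv (S : Subgroup G) {r}) R₁ →
      Maximal (Inv (S : Subgroup G) {r}) R₂ → R₁ ⊓ R₂ ≠ ⊥ →
      Nat.card G - Nat.card ↥(R₁ ⊓ R₂ : Subgroup G) = k →
      ∃ e ∈ oddElts (Subgroup.centralizer ((S : Subgroup G) : Set G)), conjBy e R₁ = R₂ := by
  intro k
  induction k using Nat.strong_induction_on with
  | _ k ih =>
    intro R₁ R₂ h₁ h₂ hne hk
    set D := R₁ ⊓ R₂ with hD
    have hrR : ∀ R, Maximal (Inv (S : Subgroup G) {r}) R → IsPGroup r ↥R :=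
      fun R hR => isPGroup_of_piNum Fact.out hR.1.2.2
    by_cases hD1 : D = R₁
    · have : R₁ ≤ R₂ := hD1.ge.trans inf_le_right
      exact ⟨1, one_mem _, by
        rw [← le_antisymm this (h₁.2 h₂.1 this), conjBy]
        ext x; simp⟩
    by_cases hD2 : D = R₂
    · have : R₂ ≤ R₁ := hD2.ge.trans inf_le_left
      exact ⟨1, one_mem _, by
        rw [le_antisymm this (h₂.2 h₁.1 this), conjBy]
        ext x; simp⟩
    have hg1 := CfsgLib.OddOrder.Transitivity.normalizer_grows (hrR R₁ h₁)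
      (lt_of_le_of_ne (inf_le_left : D ≤ R₁) hD1)
    have hg2 := CfsgLib.OddOrder.Transitivity.normalizer_grows (hrR R₂ h₂)
      (lt_of_le_of_ne (inf_le_right : D ≤ R₂) hD2)
    set U := Subgroup.normalizer (D : Set G) with hUdef
    have hSD : (S : Subgroup G) ≤ U := fun s hs => by
      refine mem_normalizer_of_conjBy_le (conjBy_le.2 fun w hw => ⟨?_, ?_⟩)
      · exact (Subgroup.mem_normalizer_iff.1 (h₁.1.1 hs) w).1 hw.1
      · exact (Subgroup.mem_normalizer_iff.1 (h₂.1.1 hs) w).1 hw.2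
    have hU : U ≠ ⊤ := hc.normalizer_ne_top hne (hc.ne_top_of_isPGroup ((hrR R₁ h₁).to_le inf_le_left))
    have hsub : ∀ R, Maximal (Inv (S : Subgroup G) {r}) R → Inv (S : Subgroup G) {r} (U ⊓ R) :=
      fun R hR => ⟨fun s hs => mem_normalizer_of_conjBy_le (conjBy_le.2 fun w hw =>
          ⟨U.mul_mem (U.mul_mem (hSD hs) hw.1) (U.inv_mem (hSD hs)),
            (Subgroup.mem_normalizer_iff.1 (hR.1.1 hs) w).1 hw.2⟩),
        hR.1.2.1.of_dvd_nat (Subgroup.card_dvd_of_le inf_le_right),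
        hR.1.2.2.dvd (Subgroup.card_dvd_of_le inf_le_right)⟩
    have hX := hc.odd_oPart S hK hU
    have hSX : (S : Subgroup G) ≤ Subgroup.normalizer (oPart π (S : Subgroup G) U : Set G) :=
      hSD.trans (hc.le_normalizer_oPart S hU hSD)
    obtain ⟨T₁, hT₁, hST₁, hle₁⟩ := hc.exists_invHall S hK {r} hX hSX
      (hc.le_oPart S hK hU hSD inf_le_left (hsub R₁ h₁).2.1 (hsub R₁ h₁).1) (hsub R₁ h₁).1
      (hsub R₁ h₁).2.2
    obtain ⟨T₂, hT₂, hST₂, hle₂⟩ := hc.exists_invHall S hK {r} hX hSX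
      (hc.le_oPart S hK hU hSD inf_le_left (hsub R₂ h₂).2.1 (hsub R₂ h₂).1) (hsub R₂ h₂).1
      (hsub R₂ h₂).2.2
    obtain ⟨e, he, -, heT⟩ := hc.invHall_conj S hK {r} hX hSX hT₁ hST₁ hT₂ hST₂
    obtain ⟨R₃, hR₃, h₃⟩ := hc.exists_maximal S hK (hc.inv_of_hall S hK hX hT₁ hST₁)
    have hb₁ : Nat.card ↥(U ⊓ R₁ : Subgroup G) ≤ Nat.card ↥(R₁ ⊓ R₃ : Subgroup G) :=
      Subgroup.card_le_of_le (le_inf inf_le_right (hle₁.trans hR₃))
    have hb₂ : Nat.card ↥(U ⊓ R₂ : Subgroup G) ≤ Nat.card ↥(conjBy e R₃ ⊓ R₂ : Subgroup G) :=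
      Subgroup.card_le_of_le (le_inf (hle₂.trans (heT ▸ conjBy_mono e hR₃)) inf_le_right)
    have hG1 := Subgroup.card_le_card_group (U ⊓ R₁ : Subgroup G)
    have hG2 := Subgroup.card_le_card_group (U ⊓ R₂ : Subgroup G)
    have hne' : ∀ {A B : Subgroup G}, Nat.card ↥D < Nat.card ↥(A ⊓ B : Subgroup G) → A ⊓ B ≠ ⊥ :=
      fun h h0 => by
        rw [h0, Subgroup.card_bot] at h
        have := Nat.card_pos (α := ↥D)
        omega
    have hl1 : Nat.card ↥D < Nat.card ↥(R₁ ⊓ R₃ : Subgroup G) := hg1.trans_le hb₁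
    have hl2 : Nat.card ↥D < Nat.card ↥(conjBy e R₃ ⊓ R₂ : Subgroup G) := hg2.trans_le hb₂
    have hG3 := Subgroup.card_le_card_group (R₁ ⊓ R₃ : Subgroup G)
    have hG4 := Subgroup.card_le_card_group (conjBy e R₃ ⊓ R₂ : Subgroup G)
    obtain ⟨e₁, he₁, hc1⟩ := ih _ (by omega) R₁ R₃ h₁ h₃ (hne' hl1) rfl
    obtain ⟨e₂, he₂, hc2⟩ := ih _ (by omega) _ R₂
      (hc.maximal_conj S hK h₃ (hc.mem_normalizer_of_mem_oddElts S hK he)) h₂ (hne' hl2) rfl
    exact ⟨e₂ * e * e₁, mul_mem (mul_mem he₂ he) he₁, by rw [conjBy_mul, conjBy_mul, hc1, hc2]⟩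

theorem conj_of_meet {r : ℕ} [Fact r.Prime] {R₁ R₂ : Subgroup G}
    (h₁ : Maximal (Inv (S : Subgroup G) {r}) R₁) (h₂ : Maximal (Inv (S : Subgroup G) {r}) R₂)
    (hne : R₁ ⊓ R₂ ≠ ⊥) :
    ∃ e ∈ oddElts (Subgroup.centralizer ((S : Subgroup G) : Set G)), conjBy e R₁ = R₂ :=
  hc.maximal_conj_of_meet S hK _ R₁ R₂ h₁ h₂ hne rfl

/-- The centraliser part is full as soon as a maximal subgroup reaches into it. -/
theorem full_of_meet {r : ℕ} [Fact r.Prime] {R Y : Subgroup G}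
    (hR : Maximal (Inv (S : Subgroup G) {r}) R) {c : G} (hcS : c ∈ (S : Subgroup G)) (hc1 : c ≠ 1)
    (hY : Inv (S : Subgroup G) {r} Y) (hYc : Y ≤ Subgroup.centralizer ({c} : Set G)) (hYR : Y ≤ R)
    (hYne : Y ≠ ⊥) : Full (S : Subgroup G) r R c := by
  intro Z hZ hZc
  set O := oddElts (Subgroup.centralizer ({c} : Set G))
  have hO := odd_oddElts_centralizer S hK hcS hc1
  have hSO := sylow_le_normalizer_oddElts S hK hcS
  obtain ⟨P, hP, hSP, hYP⟩ := hc.exists_invHall S hK {r} hO hSO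
    (hc.le_oddElts_of_le S hK hY.2.1 hYc) hY.1 hY.2.2
  obtain ⟨R', hPR', hR'⟩ := hc.exists_maximal S hK (hc.inv_of_hall S hK hO hP hSP)
  obtain ⟨e, he, hconj⟩ := hc.conj_of_meet S hK hR' hR
    (fun h0 => hYne (le_bot_iff.1 (h0 ▸ le_inf (hYP.trans hPR') hYR)))
  refine (hZ.2.2.dvd_of_hall hP
    (Subgroup.card_dvd_of_le (hc.le_oddElts_of_le S hK hZ.2.1 hZc))).trans ?_
  rw [← card_conjBy e P]
  refine Subgroup.card_dvd_of_le (le_inf (hconj ▸ conjBy_mono e hPR') (conjBy_le.2 fun w hw => ?_))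
  exact hc.conj_mem_centralizer_of_oddElts S hK hcS he (oddElts_le _ (hP.1 hw))

theorem full_conj {r : ℕ} {R : Subgroup G} {c : G} (hf : Full (S : Subgroup G) r R c) {n : G}
    (hn : n ∈ Subgroup.normalizer ((S : Subgroup G) : Set G)) :
    Full (S : Subgroup G) r (conjBy n R) (n * c * n⁻¹) := by
  intro Y hY hYc
  have h1 := hf (conjBy n⁻¹ Y) (hc.inv_conj S hK hY (inv_mem hn)) (conjBy_le.2 fun y hy => by
    have h := conj_mem_centralizer (g := n⁻¹) (hYc hy)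
    rwa [show n⁻¹ * (n * c * n⁻¹) * n⁻¹⁻¹ = c by group] at h)
  rw [card_conjBy] at h1
  refine h1.trans ?_
  rw [← card_conjBy n]
  exact Subgroup.card_dvd_of_le (conjBy_le.2 fun w hw => ⟨conj_mem_conjBy hw.1,
    conj_mem_centralizer hw.2⟩)

theorem exists_hall_centralizer {c : G} (hcS : c ∈ (S : Subgroup G)) (hc1 : c ≠ 1) (σ : Set ℕ) :
    ∃ P, Cfsg.IsPiHallOf σ P (oddElts (Subgroup.centralizer ({c} : Set G))) ∧
      Inv (S : Subgroup G) σ P := by
  have hO := odd_oddElts_centralizer S hK hcS hc1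
  obtain ⟨P, hP, hSP, -⟩ := hc.exists_invHall S hK σ hO (sylow_le_normalizer_oddElts S hK hcS)
    (bot_le : (⊥ : Subgroup G) ≤ _) (fun _ _ => mem_normalizer_bot _) (by rw [Subgroup.card_bot]; exact piNum_one)
  exact ⟨P, hP, hc.inv_of_hall S hK hO hP hSP⟩

theorem full_ne_bot {r : ℕ} [hr : Fact r.Prime] {R : Subgroup G} {c : G} (hcS : c ∈ (S : Subgroup G))
    (hc1 : c ≠ 1) (hf : Full (S : Subgroup G) r R c)
    (hd : r ∣ Nat.card ↥(oddElts (Subgroup.centralizer ({c} : Set G)))) :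
    R ⊓ Subgroup.centralizer ({c} : Set G) ≠ ⊥ := fun h0 => by
  obtain ⟨P, hP, hPi⟩ := hc.exists_hall_centralizer S hK hcS hc1 {r}
  have h1 := hf P hPi (hP.1.trans (oddElts_le _))
  rw [h0, Subgroup.card_bot] at h1
  have h2 : r ∣ Nat.card ↥P := PiNum.dvd_of_hall hP
    (fun p hp hpd => (Nat.prime_dvd_prime_iff_eq hp hr.out).1 hpd) hd
  exact hr.out.ne_one (Nat.dvd_one.1 (h2.trans h1))

theorem card_oddElts_eq {c d : G} (hcS : c ∈ (S : Subgroup G)) (hdS : d ∈ (S : Subgroup G))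
    (hc1 : c ≠ 1) (hd1 : d ≠ 1) :
    Nat.card ↥(oddElts (Subgroup.centralizer ({d} : Set G))) =
      Nat.card ↥(oddElts (Subgroup.centralizer ({c} : Set G))) := by
  by_cases hcd : c = d
  · rw [hcd]
  obtain ⟨n, -, hnc, -, -⟩ := hc.exists_shift S hK hcS hdS hc1 hd1 hcd
  rw [← card_conjBy n (oddElts (Subgroup.centralizer ({c} : Set G)))]
  congr 2
  ext w
  rw [mem_oddElts_centralizer S hK hdS hd1, mem_conjBy]
  constructor
  · rintro ⟨hw, ho⟩
    refine ⟨n⁻¹ * w * n, mem_oddElts_of ?_ ?_, by group⟩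
    · have h := conj_mem_centralizer (g := n⁻¹) hw
      rw [← hnc, inv_inv] at h
      rwa [show n⁻¹ * (n * c * n⁻¹) * n = c by group] at h
    · have h := RankOneInvol.odd_orderOf_conj ho n⁻¹
      rwa [inv_inv] at h
  · rintro ⟨t, ht, rfl⟩
    obtain ⟨h1, h2⟩ := (mem_oddElts_centralizer S hK hcS hc1).1 ht
    exact ⟨hnc ▸ conj_mem_centralizer h1, RankOneInvol.odd_orderOf_conj h2 n⟩

theorem oddElts_sylow_le {c : G} (hcS : c ∈ (S : Subgroup G)) :
    oddElts (Subgroup.centralizer ((S : Subgroup G) : Set G)) ≤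
      oddElts (Subgroup.centralizer ({c} : Set G)) :=
  fun _ hw => mem_oddElts_of (Subgroup.mem_centralizer_singleton_iff.2
    (Subgroup.mem_centralizer_iff.1 (oddElts_le _ hw) c hcS).symm)
    ((hc.mem_oddElts_centralizer_sylow S hK).1 hw).2

/-- The maximal subgroup for a prime which is not `Iota`. -/
theorem exists_special {r : ℕ} [hr : Fact r.Prime]
    (hd : ∀ c ∈ (S : Subgroup G), c ≠ 1 →
      r ∣ Nat.card ↥(oddElts (Subgroup.centralizer ({c} : Set G))))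
    (hnι : ¬ Iota (S : Subgroup G) r) :
    ∃ R, Maximal (Inv (S : Subgroup G) {r}) R ∧
      ∀ c ∈ (S : Subgroup G), c ≠ 1 → Full (S : Subgroup G) r R c := by
  set E := oddElts (Subgroup.centralizer ((S : Subgroup G) : Set G)) with hE
  have hEodd := hc.odd_oddElts_centralizer_sylow S hK
  by_cases hrE : r ∣ Nat.card ↥E
  · obtain ⟨Y, hY, hSY, -⟩ := hc.exists_invHall S hK {r} hEodd
      (fun s hs => mem_normalizer_of_conjBy_le (conjBy_le.2 fun w hw =>
        conj_mem_oddElts (Subgroup.le_normalizer (sylow_le_centralizer_self S hK hs)) hw))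
      (bot_le : (⊥ : Subgroup G) ≤ _) (fun _ _ => mem_normalizer_bot _)
      (by rw [Subgroup.card_bot]; exact piNum_one)
    have hYi := hc.inv_of_hall S hK hEodd hY hSY
    obtain ⟨R, hYR, hR⟩ := hc.exists_maximal S hK hYi
    refine ⟨R, hR, fun c hcS hc1 => hc.full_of_meet S hK hR hcS hc1 hYi
      ((hY.1.trans (hc.oddElts_sylow_le S hK hcS)).trans (oddElts_le _)) hYR fun h0 => ?_⟩
    have h2 : r ∣ Nat.card ↥Y := PiNum.dvd_of_hall hY
      (fun p hp hpd => (Nat.prime_dvd_prime_iff_eq hp hr.out).1 hpd) hrE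
    rw [h0, Subgroup.card_bot] at h2
    exact hr.out.ne_one (Nat.dvd_one.1 h2)
  · simp only [Iota, ← hE, hrE, not_false_eq_true, true_and, not_forall] at hnι
    obtain ⟨Q, hQ, c, hcS, d, hdS, hc1, hd1, hcd, hQc, hQd⟩ := hnι
    obtain ⟨R, hQR, hR⟩ := hc.exists_maximal S hK hQ
    have hfc := hc.full_of_meet S hK hR hcS hc1 (hc.inv_inf S hK hQ hcS) inf_le_right
      (inf_le_left.trans hQR) hQc
    have hfd := hc.full_of_meet S hK hR hdS hd1 (hc.inv_inf S hK hQ hdS) inf_le_right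
      (inf_le_left.trans hQR) hQd
    refine ⟨R, hR, fun e heS he1 => ?_⟩
    rcases hc.cases_of_mem S hK hcS hdS hc1 hd1 hcd heS with rfl | rfl | rfl | rfl
    · exact absurd rfl he1
    · exact hfc
    · exact hfd
    obtain ⟨n, hn, hnc, hnd, -⟩ := hc.exists_shift S hK hcS hdS hc1 hd1 hcd
    have hR' := hc.maximal_conj S hK hR hn
    have h1 := hc.full_conj S hK hfc hn
    have h2 := hc.full_conj S hK hfd hn
    rw [hnc] at h1
    rw [hnd] at h2
    set R' := conjBy n R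
    have hO := odd_oddElts_centralizer S hK hdS hd1
    have hSO := sylow_le_normalizer_oddElts S hK hdS
    have hleO : ∀ {X : Subgroup G}, Inv (S : Subgroup G) {r} X →
        X ⊓ Subgroup.centralizer ({d} : Set G) ≤ oddElts (Subgroup.centralizer ({d} : Set G)) :=
      fun hX => hc.le_oddElts_of_le S hK (hc.inv_inf S hK hX hdS).2.1 inf_le_right
    have hall : ∀ {X : Subgroup G}, Inv (S : Subgroup G) {r} X → Full (S : Subgroup G) r X d →
        Cfsg.IsPiHallOf {r} (X ⊓ Subgroup.centralizer ({d} : Set G))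
          (oddElts (Subgroup.centralizer ({d} : Set G))) := fun {X} hX hfX => by
      obtain ⟨P, hP, hPi⟩ := hc.exists_hall_centralizer S hK hdS hd1 {r}
      have hcard : Nat.card ↥(X ⊓ Subgroup.centralizer ({d} : Set G) : Subgroup G) = Nat.card ↥P :=
        Nat.dvd_antisymm ((hc.inv_inf S hK hX hdS).2.2.dvd_of_hall hP
          (Subgroup.card_dvd_of_le (hleO hX))) (hfX P hPi (hP.1.trans (oddElts_le _)))
      refine ⟨hleO hX, (hc.inv_inf S hK hX hdS).2.2, fun p hp hpi => ?_⟩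
      have h3 := Subgroup.relIndex_mul_relIndex ⊥ _ _ bot_le (hleO hX)
      have h4 := Subgroup.relIndex_mul_relIndex ⊥ P _ bot_le hP.1
      rw [Subgroup.relIndex_bot_left, Subgroup.relIndex_bot_left] at h3 h4
      rw [hcard, ← h4] at h3
      rw [mul_left_cancel₀ Nat.card_pos.ne' h3]
      exact hP.2.2 p hp hpi
    obtain ⟨g, hg, -, hgeq⟩ := hc.invHall_conj S hK {r} hO hSO (hall hR'.1 h1)
      (hc.inv_inf S hK hR'.1 hdS).1 (hall hR.1 hfd) (hc.inv_inf S hK hR.1 hdS).1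
    have hne : conjBy g R' ⊓ R ≠ ⊥ := fun h0 => hc.full_ne_bot S hK hdS hd1 hfd (hd d hdS hd1)
      (le_bot_iff.1 (h0 ▸ le_inf (hgeq ▸ conjBy_mono g inf_le_left) inf_le_left))
    have hgN := hc.mem_normalizer_of_mem_oddElts S hK hg
    obtain ⟨e, he, heq⟩ := hc.conj_of_meet S hK (hc.maximal_conj S hK hR' hgN) hR hne
    have h3 := hc.full_conj S hK h2 (hc.mem_normalizer_of_mem_oddElts S hK (mul_mem he hg))
    rw [hc.conj_fixed_of_mem_oddElts S hK (mul_mem hcS hdS) (mul_mem he hg), conjBy_mul, heq] at h3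
    exact h3

/-- Two invariant `q`-subgroups of a proper subgroup do not lie over different involutions. -/
theorem iota_lambda {q : ℕ} (hq : Iota (S : Subgroup G) q) {U Y Y' : Subgroup G} (hU : U ≠ ⊤)
    (hSU : (S : Subgroup G) ≤ U) {c d : G} (hcS : c ∈ (S : Subgroup G))
    (hdS : d ∈ (S : Subgroup G)) (hc1 : c ≠ 1) (hd1 : d ≠ 1) (hcd : c ≠ d)
    (hY : Inv (S : Subgroup G) {q} Y) (hYU : Y ≤ U) (hYc : Y ≤ Subgroup.centralizer ({c} : Set G))
    (hY' : Inv (S : Subgroup G) {q} Y') (hY'U : Y' ≤ U)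
    (hY'd : Y' ≤ Subgroup.centralizer ({d} : Set G)) (hne : Y ≠ ⊥) : Y' = ⊥ := by
  have hX := hc.odd_oPart S hK hU
  have hSX := hSU.trans (hc.le_normalizer_oPart S hU hSU)
  obtain ⟨T, hT, hST, hYT⟩ := hc.exists_invHall S hK {q} hX hSX
    (hc.le_oPart S hK hU hSU hYU hY.2.1 hY.1) hY.1 hY.2.2
  obtain ⟨T', hT', hST', hYT'⟩ := hc.exists_invHall S hK {q} hX hSX
    (hc.le_oPart S hK hU hSU hY'U hY'.2.1 hY'.1) hY'.1 hY'.2.2
  obtain ⟨e, he, -, heT⟩ := hc.invHall_conj S hK {q} hX hSX hT hST hT' hST'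
  have h1 : T' ⊓ Subgroup.centralizer ({c} : Set G) ≠ ⊥ := fun h0 => by
    have h2 : conjBy e Y ≤ ⊥ := h0 ▸ le_inf (heT ▸ conjBy_mono e hYT) (conjBy_le.2 fun w hw =>
      hc.conj_mem_centralizer_of_oddElts S hK hcS he (hYc hw))
    have h3 := card_conjBy e Y
    rw [le_bot_iff.1 h2, Subgroup.card_bot] at h3
    exact hne (Subgroup.card_eq_one.1 h3.symm)
  exact le_bot_iff.1 (hq.2 T' (hc.inv_of_hall S hK hX hT' hST') c hcS d hdS hc1 hd1 hcd h1 ▸
    le_inf hYT' hY'd)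

theorem iota_le {q : ℕ} (hq : Iota (S : Subgroup G) q) {Q : Subgroup G}
    (hQ : Inv (S : Subgroup G) {q} Q) {c : G} (hcS : c ∈ (S : Subgroup G)) (hc1 : c ≠ 1)
    (hne : Q ⊓ Subgroup.centralizer ({c} : Set G) ≠ ⊥) :
    Q ≤ Subgroup.centralizer ({c} : Set G) :=
  hc.le_of_gen S hK hQ.2.1 hQ.1 fun e he he1 => by
    by_cases hec : c = e
    · rw [← hec]; exact inf_le_right
    · rw [hq.2 Q hQ c hcS e he hc1 he1 hec hne]; exact bot_le

theorem iota_inverted {q : ℕ} (hq : Iota (S : Subgroup G) q) {Q : Subgroup G}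
    (hQ : Inv (S : Subgroup G) {q} Q) {c d : G} (hcS : c ∈ (S : Subgroup G))
    (hdS : d ∈ (S : Subgroup G)) (hc1 : c ≠ 1) (hd1 : d ≠ 1) (hcd : c ≠ d)
    (hQc : Q ≤ Subgroup.centralizer ({c} : Set G)) {w : G} (hw : w ∈ Q) : d * w * d = w⁻¹ := by
  have hd2 := sq_eq_one S hK hdS
  obtain ⟨y, v, hy, hyf, -, hvi, rfl⟩ := RankOneInvol.exists_fixed_mul_inverted hQ.2.1 hd2
    (fun t ht => conj_mem_of_le_normalizer hQ.1 hdS hd2 ht) hw
  by_cases hy1 : y = 1
  · rw [hy1, one_mul, hvi]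
  exfalso
  have hne : Q ⊓ Subgroup.centralizer ({d} : Set G) ≠ ⊥ := fun h0 => hy1 (by
    rw [← Subgroup.mem_bot, ← h0]
    exact ⟨hy, Subgroup.mem_centralizer_singleton_iff.2 ((sq_conj_eq_iff hd2).1 hyf)⟩)
  have h1 := hq.2 Q hQ d hdS c hcS hd1 hc1 hcd.symm hne
  exact hy1 (Subgroup.mem_bot.1 (h1 ▸ ⟨hy, hQc hy⟩))

end Crit

end CfsgLib.PiHom
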