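import Cfsg.Agent.Lib.PiHom.UnitaryChars
import Cfsg.Agent.Lib.PiHom.KleinFamily
import Cfsg.Agent.Lib.Blocks12.KleinOrder
import Cfsg.Agent.Lib.Chars17.Constituents

/-!
# The degrees in the principal block: Klein four Sylow 2-subgroup
-/

set_option autoImplicit false
set_option linter.style.haveILetI false
set_option linter.unusedSectionVars false

namespace CfsgLib.PiHom

open Cfsg CfsgLib.Characters CfsgLib.Involutions
open scoped ComplexConjugate

universe u

/-- Two negative signed degrees, none equal to `-3`: no odd multiplier. -/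
theorem no_two_negative {m₁ m₂ N : ℤ} (h2 : 7 ≤ m₂) (h12 : m₂ ≤ m₁) (hm₁ : m₁ % 4 = 3)
    (hm₂ : m₂ % 4 = 3) (hN : N % 2 = 1)
    (h : 8 * (m₁ + m₂ - 1) * m₁ * m₂ =
      N * ((m₁ + m₂ - 1) * m₁ * m₂ + m₁ * m₂ - (m₁ + m₂ - 1) * m₂ - (m₁ + m₂ - 1) * m₁)) : False := by
  set p := m₁ + m₂ - 1 with hp
  have hp1 : m₁ < p := by omega
  set T := p * m₁ * m₂ + m₁ * m₂ - p * m₂ - p * m₁ with hT
  have hpos : 0 < p * m₁ * m₂ :=
    mul_pos (mul_pos (by omega) (by omega)) (by omega)
  have hlow : 5 * (p * m₁ * m₂) ≤ 7 * T := by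
    rw [hT]; nlinarith [mul_le_mul_of_nonneg_left h2
        (mul_nonneg (by omega : (0 : ℤ) ≤ p) (by omega : (0 : ℤ) ≤ m₁)),
      mul_le_mul_of_nonneg_left (h2.trans h12)
        (mul_nonneg (by omega : (0 : ℤ) ≤ p) (by omega : (0 : ℤ) ≤ m₂)),
      mul_pos (by omega : (0 : ℤ) < m₁) (by omega : (0 : ℤ) < m₂)]
  have hhigh : T < p * m₁ * m₂ := by
    rw [hT]; nlinarith [mul_lt_mul_of_pos_right hp1 (by omega : (0 : ℤ) < m₂)]
  have hT0 : 0 < T := by nlinarith
  have hN8 : 8 < N := by nlinarith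
  have hN12 : N < 12 := by nlinarith
  have hN9 : N = 9 ∨ N = 11 := by omega
  rcases hN9 with rfl | rfl
  · have h17 : m₂ < 18 := by
      by_contra hge
      push Not at hge
      nlinarith [mul_le_mul_of_nonneg_left hge
          (mul_nonneg (by omega : (0 : ℤ) ≤ p) (by omega : (0 : ℤ) ≤ m₁)),
        mul_le_mul_of_nonneg_left h12 (by omega : (0 : ℤ) ≤ p),
        mul_pos (by omega : (0 : ℤ) < m₁) (by omega : (0 : ℤ) < m₂)]
    have h11 : m₂ = 7 ∨ m₂ = 11 ∨ m₂ = 15 := by omega
    rw [hT, hp] at h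
    rcases h11 with rfl | rfl | rfl
    · nlinarith
    · have : m₁ < 60 := by nlinarith
      interval_cases m₁ <;> omega
    · have : m₁ < 30 := by nlinarith
      interval_cases m₁ <;> omega
  · have h7 : m₂ < 8 := by
      by_contra hge
      push Not at hge
      nlinarith [mul_le_mul_of_nonneg_left hge
          (mul_nonneg (by omega : (0 : ℤ) ≤ p) (by omega : (0 : ℤ) ≤ m₁)),
        mul_le_mul_of_nonneg_left h12 (by omega : (0 : ℤ) ≤ p),
        mul_pos (by omega : (0 : ℤ) < m₁) (by omega : (0 : ℤ) < m₂)]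
    obtain rfl : m₂ = 7 := by omega
    rw [hT, hp] at h
    have : m₁ < 60 := by nlinarith
    interval_cases m₁ <;> omega

/-- One negative signed degree: no odd multiplier. -/
theorem no_one_negative {a b N : ℤ} (h5 : 5 ≤ a) (hab : a ≤ b) (ha : a % 4 = 1) (hb : b % 4 = 1)
    (hN : N % 2 = 1)
    (h : 8 * a * b * (1 + a + b) =
      N * (a * b * (1 + a + b) + b * (1 + a + b) + a * (1 + a + b) - a * b)) : False := by
  set p := 1 + a + b with hp
  have hp1 : b < p := by omega
  set T := a * b * p + b * p + a * p - a * b with hT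
  have hlow : a * b * p < T := by
    rw [hT]; nlinarith [mul_lt_mul_of_pos_left hp1 (by omega : (0 : ℤ) < a)]
  have hhigh : 5 * T ≤ 7 * (a * b * p) := by
    rw [hT]; nlinarith [mul_le_mul_of_nonneg_left h5
        (mul_nonneg (by omega : (0 : ℤ) ≤ b) (by omega : (0 : ℤ) ≤ p)),
      mul_le_mul_of_nonneg_left (h5.trans hab)
        (mul_nonneg (by omega : (0 : ℤ) ≤ a) (by omega : (0 : ℤ) ≤ p)),
      mul_pos (by omega : (0 : ℤ) < a) (by omega : (0 : ℤ) < b)]
  have hT0 : 0 < T := by nlinarith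
  have hN5 : 5 < N := by nlinarith
  have hN8 : N < 8 := by nlinarith
  obtain rfl : N = 7 := by omega
  have h13 : a < 14 := by
    by_contra hge
    push Not at hge
    nlinarith [mul_le_mul_of_nonneg_left hge
        (mul_nonneg (by omega : (0 : ℤ) ≤ b) (by omega : (0 : ℤ) ≤ p)),
      mul_le_mul_of_nonneg_left hab (by omega : (0 : ℤ) ≤ p),
      mul_pos (by omega : (0 : ℤ) < a) (by omega : (0 : ℤ) < b)]
  have h9 : a = 5 ∨ a = 9 ∨ a = 13 := by omega
  rw [hT, hp] at h
  rcases h9 with rfl | rfl | rfl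
  · nlinarith
  · have : b < 40 := by nlinarith
    interval_cases b <;> omega
  · have : b < 30 := by nlinarith
    interval_cases b <;> omega

/-- One signed degree is `-3`. -/
theorem exists_neg_three {e₁ e₂ e₃ N : ℤ} (h1 : e₁ % 4 = 1) (h2 : e₂ % 4 = 1) (h3 : e₃ % 4 = 1)
    (n1 : e₁ ≠ 1) (n2 : e₂ ≠ 1) (n3 : e₃ ≠ 1) (hsum : e₁ + e₂ + e₃ = -1) (hN : N % 2 = 1)
    (h : 8 * e₁ * e₂ * e₃ = N * (e₁ * e₂ * e₃ + e₂ * e₃ + e₁ * e₃ + e₁ * e₂)) :
    e₁ = -3 ∨ e₂ = -3 ∨ e₃ = -3 := by
  by_contra hcon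
  push Not at hcon
  have key : ∀ a b c : ℤ, a % 4 = 1 → b % 4 = 1 → c % 4 = 1 → a ≠ 1 → b ≠ 1 → c ≠ 1 → a ≠ -3 →
      b ≠ -3 → c ≠ -3 → a ≤ b → b ≤ c → a + b + c = -1 →
      8 * a * b * c = N * (a * b * c + b * c + a * c + a * b) → False := by
    intro a b c ha hb hc na nb nc ma mb mc hab hbc hs heq
    rcases lt_trichotomy b 0 with hb0 | hb0 | hb0
    · refine no_two_negative (m₁ := -a) (m₂ := -b) (N := N) (by omega) (by omega) (by omega)
        (by omega) hN ?_
      rw [show c = -a + -b - 1 by omega] at heq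
      linear_combination heq
    · omega
    · refine no_one_negative (a := b) (b := c) (N := N) (by omega) hbc hb hc hN ?_
      rw [show a = -(1 + b + c) by omega] at heq
      linear_combination -heq
  rcases le_total e₁ e₂ with h12 | h12 <;> rcases le_total e₂ e₃ with h23 | h23 <;>
    rcases le_total e₁ e₃ with h13 | h13
  all_goals first
    | exact key e₁ e₂ e₃ h1 h2 h3 n1 n2 n3 hcon.1 hcon.2.1 hcon.2.2 (by omega) (by omega) hsum h
    | exact key e₁ e₃ e₂ h1 h3 h2 n1 n3 n2 hcon.1 hcon.2.2 hcon.2.1 (by omega) (by omega)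
        (by omega) (by linear_combination h)
    | exact key e₂ e₁ e₃ h2 h1 h3 n2 n1 n3 hcon.2.1 hcon.1 hcon.2.2 (by omega) (by omega)
        (by omega) (by linear_combination h)
    | exact key e₂ e₃ e₁ h2 h3 h1 n2 n3 n1 hcon.2.1 hcon.2.2 hcon.1 (by omega) (by omega)
        (by omega) (by linear_combination h)
    | exact key e₃ e₁ e₂ h3 h1 h2 n3 n1 n2 hcon.2.2 hcon.1 hcon.2.1 (by omega) (by omega)
        (by omega) (by linear_combination h)
    | exact key e₃ e₂ e₁ h3 h2 h1 n3 n2 n1 hcon.2.2 hcon.2.1 hcon.1 (by omega) (by omega)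
        (by omega) (by linear_combination h)

variable {π : Set ℕ} {G : Type u} [Group G] [Fintype G]

/-- The principal block with its signs. -/
structure BlockData (G : Type u) [Group G] [Fintype G] (M : Ideal AlgInt) where
  χ : Fin 3 → IrrCharacter G
  ε : Fin 3 → ℤ
  inj : Function.Injective χ
  ne_one : ∀ i, (χ i : G → ℂ) ≠ fun _ => 1
  sign : ∀ i, ε i = 1 ∨ ε i = -1
  even : ∀ i g, 2 ∣ orderOf g → (χ i : G → ℂ) g = ε i
  block : principalBlock M G =
    {ψ : IrrCharacter G | (ψ : G → ℂ) = (fun _ => 1) ∨ ψ = χ 0 ∨ ψ = χ 1 ∨ ψ = χ 2}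
  deg : 1 + ∑ i, ε i * (charDegree (χ i : G → ℂ) : ℤ) = 0

theorem exists_blockData (S : Sylow 2 G) (hK : IsKleinFour ↥(S : Subgroup G)) {M : Ideal AlgInt}
    (hM : IsPModular 2 M) (hone : ∀ s t : G, orderOf s = 2 → orderOf t = 2 → IsConj s t) :
    Nonempty (BlockData G M) := by
  classical
  obtain ⟨F⟩ := exists_kleinFamily S hK principalConstant.{u} hM hone
  have hn : ∀ i, ∃ χ : IrrCharacter G, ∃ ε : ℤ, (ε = 1 ∨ ε = -1) ∧
      F.q i = (ε : ℂ) • (χ : G → ℂ) := fun i => by
    obtain ⟨χ, h | h⟩ := eq_irr_or_neg_of_classInner_self_eq_one (F.q_gen i) (by simp [F.q_inner])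
    · exact ⟨χ, 1, Or.inl rfl, by simp [h]⟩
    · exact ⟨χ, -1, Or.inr rfl, by simp [h]⟩
  choose χ ε hε hq using hn
  have hsq : ∀ i, (ε i : ℂ) * ε i = 1 := fun i => by rcases hε i with h | h <;> simp [h]
  have hval : ∀ i g, (χ i : G → ℂ) g = (ε i : ℂ) * F.q i g := fun i g => by
    rw [hq i, Pi.smul_apply, smul_eq_mul, ← mul_assoc, hsq, one_mul]
  have hne0 : ∀ i, (ε i : ℂ) ≠ 0 := fun i h => by have := hsq i; rw [h, zero_mul] at this; exact zero_ne_one this
  have hinj : ∀ i j, χ i = χ j → i = j := fun i j h => by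
    by_contra hij
    have h1 := F.q_inner i j
    rw [hq i, hq j, h, classInner_smul_left, classInner_smul_right, classInner_irr_self (χ j).2,
      if_neg hij, map_intCast, mul_one] at h1
    exact (mul_ne_zero (hne0 i) (hne0 j)) h1
  have h0 : χ 0 = principalIrr G := by
    refine Subtype.ext (funext fun g => ?_)
    have h1 : (χ 0 : G → ℂ) 1 = ε 0 := by rw [hval, F.q_zero, mul_one]
    have hε0 : ε 0 = 1 := by
      refine (hε 0).resolve_right fun h => ?_
      rw [h, ← Chars17.cast_irrDegree] at h1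
      have := congrArg Complex.re h1
      simp at this
      linarith [Nat.cast_nonneg (α := ℝ) (charDegree (χ 0 : G → ℂ))]
    rw [hval, F.q_zero, hε0]
    simp [principalIrr]
  refine ⟨{ χ := fun i => χ i.succ
            ε := fun i => ε i.succ
            inj := fun i j h => Fin.succ_injective _ (hinj _ _ h)
            ne_one := fun i h => Fin.succ_ne_zero i (hinj _ _ ((Subtype.ext h).trans (h0.trans rfl).symm))
            sign := fun i => hε _
            even := fun i g hg => by rw [hval, F.q_even _ g hg, mul_one]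
            block := ?_
            deg := ?_ }⟩
  · ext ψ
    simp only [Set.mem_setOf_eq]
    constructor
    · intro hψ
      obtain ⟨i, e, -, he⟩ := F.block ψ hψ
      have hcases : ψ = χ i := by
        by_contra hne
        have h1 : classInner (ψ : G → ℂ) (ψ : G → ℂ) = 0 := by
          nth_rw 1 [he]
          rw [hq i, classInner_smul_left, classInner_smul_left,
            classInner_irr_ne (χ i).2 ψ.2 (fun h => hne (Subtype.ext h).symm), mul_zero, mul_zero]
        rw [classInner_irr_self ψ.2] at h1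
        exact one_ne_zero h1
      obtain ⟨j, rfl⟩ | hi : (∃ j : Fin 3, i = j.succ) ∨ i = 0 := by
        rcases Fin.eq_zero_or_eq_succ i with h | ⟨j, h⟩
        · exact Or.inr h
        · exact Or.inl ⟨j, h⟩
      · right; fin_cases j
        · exact Or.inl hcases
        · exact Or.inr (Or.inl hcases)
        · exact Or.inr (Or.inr hcases)
      · left; rw [hcases, hi, h0]; rfl
    · have hmem : ∀ i, χ i ∈ principalBlock M G := fun i => by
        by_contra hi
        have h1 := F.q_out i (χ i) hi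
        rw [hq i, classInner_smul_left, classInner_irr_self (χ i).2, mul_one] at h1
        exact hne0 i h1
      rintro (h | rfl | rfl | rfl)
      · rw [show ψ = χ 0 from (Subtype.ext h).trans (h0.trans rfl).symm]; exact hmem 0
      all_goals exact hmem _
  · have h := F.q_sum 1 (by rw [orderOf_one]; exact odd_one)
    rw [Fin.sum_univ_succ, F.q_zero] at h
    have h' : ((1 + ∑ i : Fin 3, ε i.succ * (charDegree (χ i.succ : G → ℂ) : ℤ) : ℤ) : ℂ) = ((0 : ℤ) : ℂ) := by
      push_cast
      rw [← h]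
      simp only [Chars17.cast_irrDegree]
      congr 1
      refine Finset.sum_congr rfl fun i _ => ?_
      rw [hval, ← mul_assoc, hsq, one_mul]
    exact_mod_cast h'

end CfsgLib.PiHom
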