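import Cfsg.Agent.Lib.PiHom.KleinSection
import Cfsg.Agent.Lib.PiHom.KleinDegrees

/-!
# The odd core of the centraliser of the Sylow four group is trivial
-/

set_option autoImplicit false
set_option linter.style.haveILetI false
set_option linter.unusedSectionVars false

namespace CfsgLib.PiHom

open Cfsg CfsgLib.Characters CfsgLib.Involutions
open scoped ComplexConjugate Matrix

universe u

/-- Integers of square sum four orthogonal to a positive vector: four signs. -/
theorem four_signs {ι : Type*} [Fintype ι] (a d : ι → ℤ) (hsq : ∑ i, a i ^ 2 = 4) (hd : ∀ i, 0 < d i)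
    (horth : ∑ i, a i * d i = 0) :
    (∀ i, a i ≠ 0 → a i = 1 ∨ a i = -1) ∧ (Finset.univ.filter fun i => a i ≠ 0).card = 4 := by
  classical
  have h1 : ∀ i, a i ≠ 0 → a i = 1 ∨ a i = -1 := fun i hi => by
    by_contra hcon
    push Not at hcon
    have h4 : 4 ≤ a i ^ 2 := by
      rcases (show 2 ≤ a i ∨ a i ≤ -2 by omega) with h | h <;> nlinarith
    have hsplit := Finset.add_sum_erase Finset.univ (fun j => a j ^ 2) (Finset.mem_univ i)
    have h0 : ∀ j ∈ Finset.univ.erase i, a j ^ 2 = 0 :=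
      (Finset.sum_eq_zero_iff_of_nonneg fun j _ => sq_nonneg (a j)).1 (by
        have := Finset.sum_nonneg (s := Finset.univ.erase i) fun j _ => sq_nonneg (a j)
        linarith)
    rw [← Finset.add_sum_erase Finset.univ (fun j => a j * d j) (Finset.mem_univ i),
      Finset.sum_eq_zero fun j hj => by rw [pow_eq_zero_iff two_ne_zero |>.1 (h0 j hj), zero_mul],
      add_zero] at horth
    exact mul_ne_zero hi (hd i).ne' horth
  refine ⟨h1, ?_⟩
  have h2 : ∑ i, a i ^ 2 = ((Finset.univ.filter fun i => a i ≠ 0).card : ℤ) := by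
    rw [← Finset.sum_filter_ne_zero, Finset.cast_card, Finset.filter_congr (q := fun i => a i ≠ 0)
      fun i _ => pow_ne_zero_iff two_ne_zero]
    refine Finset.sum_congr rfl fun i hi => ?_
    rcases h1 i (Finset.mem_filter.1 hi).2 with h | h <;> rw [h] <;> norm_num
  omega

/-- Three orthogonal sign vectors of length four, orthogonal to a positive vector. -/
theorem orbit_arith (h₀ h₁ h₂ d : Fin 4 → ℤ) (s₀ : ∀ i, h₀ i = 1 ∨ h₀ i = -1)
    (s₁ : ∀ i, h₁ i = 1 ∨ h₁ i = -1) (s₂ : ∀ i, h₂ i = 1 ∨ h₂ i = -1)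
    (o01 : ∑ i, h₀ i * h₁ i = 0) (o02 : ∑ i, h₀ i * h₂ i = 0) (o12 : ∑ i, h₁ i * h₂ i = 0)
    (d0 : ∑ i, h₀ i * d i = 0) (d1 : ∑ i, h₁ i * d i = 0) (d2 : ∑ i, h₂ i * d i = 0)
    (hd : ∀ i, 0 < d i) :
    ∃ D : ℤ, D ≠ 0 ∧
      ∑ i, ((h₀ i + h₁ i + h₂ i : ℤ) : ℚ) ^ 2 * (h₀ i : ℚ) / (d i : ℚ) = 8 / (D : ℚ) := by
  have sq : ∀ (x : ℤ), x = 1 ∨ x = -1 → x * x = 1 := by rintro x (rfl | rfl) <;> rfl
  set w : Fin 4 → ℤ := fun i => h₀ i * h₁ i * h₂ i with hw
  have hw1 : ∀ i, w i * w i = 1 := fun i => by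
    simp only [hw]
    linear_combination (h₁ i * h₁ i * (h₂ i * h₂ i)) * sq _ (s₀ i) + (h₂ i * h₂ i) * sq _ (s₁ i) +
      sq _ (s₂ i)
  obtain ⟨r, hr⟩ : ∃ r : Fin 4 → Fin 4 → ℤ, r = ![h₀, h₁, h₂, w] := ⟨_, rfl⟩
  let R : Matrix (Fin 4) (Fin 4) ℚ := Matrix.of fun k i => ((r k i : ℤ) : ℚ)
  have hR : R * Rᵀ = (4 : ℚ) • (1 : Matrix (Fin 4) (Fin 4) ℚ) := by
    ext k l
    have key : ∑ i, ![h₀, h₁, h₂, w] k i * ![h₀, h₁, h₂, w] l i = if k = l then 4 else 0 := by
      have q0 := fun i => sq _ (s₀ i)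
      have q1 := fun i => sq _ (s₁ i)
      have q2 := fun i => sq _ (s₂ i)
      simp only [Fin.sum_univ_four] at o01 o02 o12 ⊢
      fin_cases k <;> fin_cases l <;> simp [hw]
      all_goals first
        | linear_combination q0 0 + q0 1 + q0 2 + q0 3
        | linear_combination q1 0 + q1 1 + q1 2 + q1 3
        | linear_combination q2 0 + q2 1 + q2 2 + q2 3
        | linear_combination o01
        | linear_combination o02
        | linear_combination o12
        | linear_combination o12 + h₁ 0 * h₂ 0 * q0 0 + h₁ 1 * h₂ 1 * q0 1 + h₁ 2 * h₂ 2 * q0 2 +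
            h₁ 3 * h₂ 3 * q0 3
        | linear_combination o02 + h₀ 0 * h₂ 0 * q1 0 + h₀ 1 * h₂ 1 * q1 1 + h₀ 2 * h₂ 2 * q1 2 +
            h₀ 3 * h₂ 3 * q1 3
        | linear_combination o01 + h₀ 0 * h₁ 0 * q2 0 + h₀ 1 * h₁ 1 * q2 1 + h₀ 2 * h₁ 2 * q2 2 +
            h₀ 3 * h₁ 3 * q2 3
        | linear_combination hw1 0 + hw1 1 + hw1 2 + hw1 3
    rw [Matrix.mul_apply, Matrix.smul_apply, Matrix.one_apply]
    simp only [Matrix.transpose_apply, R, Matrix.of_apply, ← Int.cast_mul, ← Int.cast_sum, hr, key]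
    split_ifs <;> simp
  have hR' : ((4 : ℚ)⁻¹ • Rᵀ) * R = 1 := by
    refine mul_eq_one_comm.1 ?_
    rw [Matrix.mul_smul, hR, smul_smul, inv_mul_cancel₀ (by norm_num), one_smul]
  set K : ℤ := ∑ i, w i * d i with hKdef
  have hdeq : ∀ i, (d i : ℚ) = (w i : ℚ) * K / 4 := fun i => by
    have h := congrFun (congrArg (fun A => A *ᵥ fun j => (d j : ℚ)) hR') i
    simp only [Matrix.one_mulVec, ← Matrix.mulVec_mulVec] at h
    rw [← h]
    have hRd : R *ᵥ (fun j => (d j : ℚ)) = ![0, 0, 0, (K : ℚ)] := by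
      ext k
      simp only [Matrix.mulVec, dotProduct, R, Matrix.of_apply, ← Int.cast_mul, ← Int.cast_sum, hr]
      fin_cases k <;> simp [d0, d1, d2, hKdef]
    rw [hRd]
    simp [Matrix.mulVec, dotProduct, Fin.sum_univ_four, R, hr]
    ring
  have hD : ∀ i, ((w i * d i : ℤ) : ℚ) = (K : ℚ) / 4 := fun i => by
    have h1 : ((w i : ℚ) * (w i : ℚ)) = 1 := by exact_mod_cast hw1 i
    push_cast
    rw [hdeq i]
    linear_combination ((K : ℚ) / 4) * h1
  have hwne : ∀ i, w i ≠ 0 := fun i h => by simpa [h] using hw1 i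
  have hD0 : w 0 * d 0 ≠ 0 := mul_ne_zero (hwne 0) (hd 0).ne'
  refine ⟨w 0 * d 0, hD0, ?_⟩
  have hterm : ∀ i, ((h₀ i + h₁ i + h₂ i : ℤ) : ℚ) ^ 2 * (h₀ i : ℚ) / (d i : ℚ) =
      (((h₀ i + h₁ i + h₂ i) ^ 2 * (h₁ i * h₂ i) : ℤ) : ℚ) / ((w 0 * d 0 : ℤ) : ℚ) := fun i => by
    have hdi : (d i : ℚ) ≠ 0 := Int.cast_ne_zero.2 (hd i).ne'
    have hwd : (w 0 * d 0 : ℤ) = w i * d i := by exact_mod_cast (hD 0).trans (hD i).symm
    have hwi : (w i : ℚ) ≠ 0 := Int.cast_ne_zero.2 (hwne i)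
    have h0 : (h₀ i : ℚ) * w i = (h₁ i : ℚ) * h₂ i := by
      have : h₀ i * w i = h₁ i * h₂ i := by
        simp only [hw]; linear_combination (h₁ i * h₂ i) * sq _ (s₀ i)
      exact_mod_cast this
    rw [hwd]
    push_cast
    field_simp
    linear_combination ((h₀ i : ℚ) + h₁ i + h₂ i) ^ 2 * h0
  rw [Finset.sum_congr rfl fun i _ => hterm i, ← Finset.sum_div, ← Int.cast_sum]
  have h8 : ∑ i, (h₀ i + h₁ i + h₂ i) ^ 2 * (h₁ i * h₂ i) = 8 := by
    have q0 := fun i => sq _ (s₀ i)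
    have q1 := fun i => sq _ (s₁ i)
    have q2 := fun i => sq _ (s₂ i)
    have key : ∀ i, (h₀ i + h₁ i + h₂ i) ^ 2 * (h₁ i * h₂ i) =
        3 * (h₁ i * h₂ i) + 2 * (h₀ i * h₂ i) + 2 * (h₀ i * h₁ i) + 2 := fun i => by
      linear_combination (h₁ i * h₂ i) * q0 i + (h₁ i * h₂ i + 2 * h₀ i * h₂ i) * q1 i +
        (h₁ i * h₂ i + 2 * h₀ i * h₁ i + 2 * h₁ i * h₁ i) * q2 i + 2 * q1 i
    simp only [key, Finset.sum_add_distrib, ← Finset.mul_sum, o01, o02, o12]
    rfl
  rw [h8]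
  norm_num

theorem sign_cases {e : ℤ} (h : e % 4 = 1) (h1 : e ≠ 1) : 5 ≤ e ∨ e = -3 ∨ e ≤ -7 := by omega

/-- The principal sum is at least `3/5` or the degrees are `5, -3, -3`. -/
theorem principal_bound {a b c : ℤ} (ha : a % 4 = 1) (hb : b % 4 = 1) (hc : c % 4 = 1) (a1 : a ≠ 1)
    (b1 : b ≠ 1) (c1 : c ≠ 1) (hsum : a + b + c = -1) :
    (3 : ℚ) / 5 ≤ 1 + 1 / (a : ℚ) + 1 / (b : ℚ) + 1 / (c : ℚ) ∨
      1 + 1 / (a : ℚ) + 1 / (b : ℚ) + 1 / (c : ℚ) = 8 / 15 := by
  have cases : ∀ e : ℤ, e % 4 = 1 → e ≠ 1 → (5 ≤ e ∧ (0 : ℚ) ≤ 1 / (e : ℚ)) ∨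
      (e = -3 ∧ 1 / (e : ℚ) = -1 / 3) ∨ (e ≤ -7 ∧ -(1 : ℚ) / 7 ≤ 1 / (e : ℚ)) := fun e he h1 => by
    rcases sign_cases he h1 with h | h | h
    · exact Or.inl ⟨h, one_div_nonneg.2 (by exact_mod_cast (by omega : (0 : ℤ) ≤ e))⟩
    · exact Or.inr (Or.inl ⟨h, by rw [h]; norm_num⟩)
    · refine Or.inr (Or.inr ⟨h, ?_⟩)
      have h7 : (7 : ℚ) ≤ -(e : ℚ) := by exact_mod_cast (by omega : (7 : ℤ) ≤ -e)
      have h' := one_div_le_one_div_of_le (by norm_num : (0 : ℚ) < 7) h7
      rw [one_div_neg_eq_neg_one_div] at h'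
      linarith
  have mixed : ∀ e p : ℤ, e ≤ -7 → p = 2 - e → -(2 : ℚ) / 63 ≤ 1 / (e : ℚ) + 1 / (p : ℚ) := by
    rintro e p he rfl
    have h7 : (e : ℚ) ≤ -7 := by exact_mod_cast he
    push_cast
    have h63 : (63 : ℚ) ≤ -(e : ℚ) * (2 - e) := by nlinarith
    have h2 := div_le_div_of_nonneg_left (by norm_num : (0 : ℚ) ≤ 2) (by norm_num) h63
    have e1 : 1 / (e : ℚ) + 1 / (2 - (e : ℚ)) = -(2 / (-(e : ℚ) * (2 - e))) := by
      have he0 : (e : ℚ) ≠ 0 := by intro h; linarith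
      have hp0 : (2 : ℚ) - e ≠ 0 := by intro h; linarith
      field_simp
      ring
    rw [e1]
    linarith
  rcases cases a ha a1 with ⟨h, h'⟩ | ⟨h, h'⟩ | ⟨h, h'⟩ <;>
    rcases cases b hb b1 with ⟨k, k'⟩ | ⟨k, k'⟩ | ⟨k, k'⟩ <;>
    rcases cases c hc c1 with ⟨l, l'⟩ | ⟨l, l'⟩ | ⟨l, l'⟩
  all_goals first
    | omega
    | (left; linarith)
    | (left; have := mixed a b (by omega) (by omega); linarith)
    | (left; have := mixed b a (by omega) (by omega); linarith)
    | (left; have := mixed a c (by omega) (by omega); linarith)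
    | (left; have := mixed c a (by omega) (by omega); linarith)
    | (left; have := mixed b c (by omega) (by omega); linarith)
    | (left; have := mixed c b (by omega) (by omega); linarith)
    | (right; rw [show a = 5 by omega, show b = -3 by omega, show c = -3 by omega]; norm_num)
    | (right; rw [show b = 5 by omega, show a = -3 by omega, show c = -3 by omega]; norm_num)
    | (right; rw [show c = 5 by omega, show a = -3 by omega, show b = -3 by omega]; norm_num)

/-- Four signed degrees of sum zero. -/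
theorem fixed_bound (e : Fin 4 → ℤ) (h4 : ∀ i, e i % 4 = 1) (h1 : ∀ i, e i ≠ 1)
    (hsum : ∑ i, e i = 0) : ∑ i, 1 / (e i : ℚ) < 3 / 5 := by
  have hle : ∀ i, 1 / (e i : ℚ) ≤ if e i < 0 then 0 else 1 / 5 := fun i => by
    split_ifs with h
    · exact one_div_nonpos.2 (by exact_mod_cast h.le)
    · have h5 : (5 : ℚ) ≤ e i := by
        exact_mod_cast (by have := h4 i; have := h1 i; omega : (5 : ℤ) ≤ e i)
      exact one_div_le_one_div_of_le (by norm_num) h5
  obtain ⟨j, hj⟩ : ∃ j, e j < 0 := by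
    by_contra hcon
    push Not at hcon
    rw [Finset.sum_eq_zero_iff_of_nonneg fun i _ => hcon i] at hsum
    have := h4 0
    rw [hsum 0 (Finset.mem_univ _)] at this
    omega
  have hjneg : 1 / (e j : ℚ) < 0 := one_div_neg.2 (by exact_mod_cast hj)
  have h5 : ∀ i, 1 / (e i : ℚ) ≤ 1 / 5 := fun i => by
    have := hle i; split_ifs at this <;> linarith
  rw [← Finset.add_sum_erase _ _ (Finset.mem_univ j)]
  have hrest : ∑ i ∈ Finset.univ.erase j, 1 / (e i : ℚ) ≤ 3 * (1 / 5) := by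
    refine (Finset.sum_le_card_nsmul _ _ _ fun i _ => h5 i).trans (le_of_eq ?_)
    rw [Finset.card_erase_of_mem (Finset.mem_univ _), Finset.card_univ, Fintype.card_fin, nsmul_eq_mul]
    norm_num
  linarith

variable {π : Set ℕ} {G : Type u} [Group G] [Fintype G]

/-- The degree modulo four from the values on the four group. -/
theorem degree_mod_four (S : Sylow 2 G) (hK : IsKleinFour ↥(S : Subgroup G)) (χ : IrrCharacter G) (v : ℤ)
    (hv : ∀ s ∈ (S : Subgroup G), s ≠ 1 → (χ : G → ℂ) s = v) :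
    (4 : ℤ) ∣ (charDegree (χ : G → ℂ) : ℤ) + 3 * v := by
  classical
  letI := Fintype.ofFinite ↥(S : Subgroup G)
  obtain ⟨k, hk⟩ := classInner_generalized_int
    (isGeneralizedCharacter_of_isCharacter (Chars17.isCharacter_res (S : Subgroup G) (irr_isCharacter χ)))
    (isGeneralizedCharacter_one (G := ↥(S : Subgroup G)))
  rw [classInner, hK.card_four] at hk
  simp only [Pi.one_apply, map_one, mul_one] at hk
  rw [← Finset.add_sum_erase _ _ (Finset.mem_univ (1 : ↥(S : Subgroup G)))] at hk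
  rw [Finset.sum_congr rfl (g := fun _ => (v : ℂ)) (fun (s : ↥(S : Subgroup G)) hs => hv s s.2
      fun h => Finset.ne_of_mem_erase hs (Subtype.ext h)),
    Finset.sum_const, Finset.card_erase_of_mem (Finset.mem_univ _), Finset.card_univ,
    ← Nat.card_eq_fintype_card, hK.card_four, Subgroup.coe_one, ← Chars17.cast_irrDegree] at hk
  have h4 : ((charDegree (χ : G → ℂ) : ℤ) + 3 * v : ℂ) = ((4 * k : ℤ) : ℂ) := by
    push_cast at hk ⊢
    simp only [nsmul_eq_mul] at hk
    push_cast at hk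
    linear_combination 4 * hk
  exact ⟨k, by exact_mod_cast h4⟩

namespace Crit

variable (hc : Crit π G) (S : Sylow 2 G) (hK : IsKleinFour ↥(S : Subgroup G))
include hc hK

local notation "Oc[" c "]" => oddElts (Subgroup.centralizer ({c} : Set G))
local notation "Ec" => oddElts (Subgroup.centralizer ((S : Subgroup G) : Set G))
local notation "Cc[" c "]" => Subgroup.centralizer ({c} : Set G)

/-- The index of the centraliser is prime to the order of the kernel. -/
theorem index_coprime {z : G} (hzS : z ∈ (S : Subgroup G)) (hz1 : z ≠ 1) :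
    (kIdx (S : Subgroup G) z).Coprime Cc[z].index := by
  refine Nat.coprime_of_dvd fun q hq hqf hqn => ?_
  haveI := Fact.mk hq
  set F := kern (S : Subgroup G) z with hF
  obtain ⟨T₀⟩ : Nonempty (Sylow q ↥F) := inferInstance
  set T := (T₀ : Subgroup ↥F).map F.subtype with hT
  have hTp : IsPGroup q ↥T := T₀.isPGroup'.map _
  have hTF : T ≤ F := Subgroup.map_subtype_le _
  obtain ⟨P, hTP⟩ := hTp.exists_le_sylow
  have hq4 : ¬ q ∣ 4 * Nat.card ↥Ec := fun h => by
    rcases hq.dvd_mul.1 h with h | h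
    · have h2 : q = 2 := (Nat.prime_dvd_prime_iff_eq hq Nat.prime_two).1
        (hq.dvd_of_dvd_pow (show q ∣ 2 ^ 2 from h))
      exact Nat.not_even_iff_odd.2 (hc.kIdx_odd S hK hzS hz1) (even_iff_two_dvd.2 (h2 ▸ hqf))
    · exact (hc.iota_of_dvd S hK hzS hz1 hq hqf).1 h
  obtain ⟨m, hm⟩ : ∃ m, Nat.card ↥Cc[z] = Nat.card ↥T * m ∧ ¬ q ∣ m := by
    refine ⟨(T₀ : Subgroup ↥F).index * (4 * Nat.card ↥Ec), ?_, fun h =>
      (hq.dvd_mul.1 h).elim T₀.not_dvd_index hq4⟩
    rw [hT, Subgroup.card_map_of_injective F.subtype_injective, ← mul_assoc,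
      Subgroup.card_mul_index, hF, (hc.kern_spec S hK hzS hz1).2.1,
      ← four_mul_card_oddElts S hK hzS hz1, ← hc.card_mul_kIdx S hK hzS]
    ring
  have hTne : T ≠ ⊥ := fun h0 => by
    have h1 : q ∣ Nat.card ↥(T₀ : Subgroup ↥F) :=
      T₀.dvd_card_of_dvd_card (by rwa [(hc.kern_spec S hK hzS hz1).2.1])
    rw [← Subgroup.card_map_of_injective F.subtype_injective, ← hT, h0, Subgroup.card_bot] at h1
    exact hq.ne_one (Nat.dvd_one.1 h1)
  obtain ⟨y, hy, hy1⟩ := (Subgroup.bot_or_exists_ne_one T).resolve_left hTne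
  by_cases heq : (P : Subgroup G) = T
  · have h1 : Nat.card ↥T * (P : Subgroup G).index = Nat.card ↥T * (m * Cc[z].index) := by
      rw [← mul_assoc, ← hm.1, Subgroup.card_mul_index, ← heq, Subgroup.card_mul_index]
    refine P.not_dvd_index ?_
    rw [mul_left_cancel₀ Nat.card_pos.ne' h1]
    exact hqn.mul_left m
  have hlt : T < (P : Subgroup G) := lt_of_le_of_ne hTP (Ne.symm heq)
  have hgr := CfsgLib.OddOrder.Transitivity.normalizer_grows P.isPGroup' hlt
  set N := Subgroup.normalizer (T : Set G) ⊓ (P : Subgroup G)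
  have hNC : N ≤ Cc[z] := fun g hg => hc.kern_ti S hK hzS hz1 (hTF hy) hy1
    (hTF ((Subgroup.mem_normalizer_iff.1 hg.1 y).1 hy))
  obtain ⟨k, hk⟩ := IsPGroup.iff_card.1 (P.isPGroup'.to_le (inf_le_right : N ≤ _))
  have hd := Subgroup.card_dvd_of_le hNC
  rw [hm.1, hk] at hd
  have h2 : q ^ k ∣ Nat.card ↥T :=
    (Nat.Coprime.pow_left k ((hq.coprime_iff_not_dvd).2 hm.2)).dvd_of_dvd_mul_right hd
  have h3 := Nat.le_of_dvd Nat.card_pos h2
  have hk' : Nat.card ↥N = q ^ k := hk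
  omega

theorem one_lt_kIdx {z : G} (hzS : z ∈ (S : Subgroup G)) (hz1 : z ≠ 1) :
    1 < kIdx (S : Subgroup G) z := by
  obtain ⟨r, hr, hrd⟩ := hc.exists_prime_dvd_kIdx S hK hzS hz1
  exact lt_of_lt_of_le hr.one_lt (Nat.le_of_dvd (hc.kIdx_pos S hK hzS) hrd)

theorem mem_cls_iff {z u : G} (hzS : z ∈ (S : Subgroup G)) (hz1 : z ≠ 1) :
    u ∈ ClassCount.cls z ↔ u * u = 1 ∧ u ≠ 1 := by
  have hz2 := klein_orderOf S hK hzS hz1
  rw [ClassCount.mem_cls]
  constructor
  · intro h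
    obtain ⟨g, hg⟩ := isConj_iff.1 h
    have h2 : orderOf u = 2 := by rw [← hg, orderOf_conj_eq, hz2]
    exact ⟨(orderOf_eq_two_iff_mul.1 h2).2, (orderOf_eq_two_iff_mul.1 h2).1⟩
  · exact fun h => hc.one_class S hK hz2 (orderOf_eq_two_iff_mul.2 ⟨h.2, h.1⟩)

open scoped Classical in
/-- Pairs of involutions with product `z y`. -/
theorem pair_card {z : G} (hzS : z ∈ (S : Subgroup G)) (hz1 : z ≠ 1) {y : G} (hy : y ∈ Oc[z]) :
    (ClassCount.pairs z z {z * y}).card =
      if y ∈ kern (S : Subgroup G) z then 2 * kIdx (S : Subgroup G) z else 0 := by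
  set F := kern (S : Subgroup G) z with hF
  have hz2 := sq_eq_one S hK hzS
  have hzi : z⁻¹ = z := inv_eq_of_mul_eq_one_right hz2
  have hO := hc.oddNormal S hK hzS hz1
  set U := Finset.univ.filter fun u : G => u ∈ ClassCount.cls z ∧ u * (z * y) ∈ ClassCount.cls z
  have hUcard : (ClassCount.pairs z z {z * y}).card = U.card := by
    refine Finset.card_bij' (fun w _ => w.1) (fun u _ => (u, u * (z * y))) (fun w hw => ?_)
      (fun u hu => ?_) (fun w hw => ?_) fun u _ => rfl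
    · obtain ⟨hw1, hw2⟩ := Finset.mem_filter.1 hw
      obtain ⟨ha, hb⟩ := Finset.mem_product.1 hw1
      rw [Finset.mem_singleton] at hw2
      refine Finset.mem_filter.2 ⟨Finset.mem_univ _, ha, ?_⟩
      rw [← hw2, ← mul_assoc, ((hc.mem_cls_iff S hK hzS hz1).1 ha).1, one_mul]; exact hb
    · obtain ⟨-, hu1, hu2⟩ := Finset.mem_filter.1 hu
      refine Finset.mem_filter.2 ⟨Finset.mem_product.2 ⟨hu1, hu2⟩, Finset.mem_singleton.2 ?_⟩
      rw [← mul_assoc, ((hc.mem_cls_iff S hK hzS hz1).1 hu1).1, one_mul]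
    · obtain ⟨hw1, hw2⟩ := Finset.mem_filter.1 hw
      rw [Finset.mem_singleton] at hw2
      refine Prod.ext rfl ?_
      show w.1 * (z * y) = w.2
      rw [← hw2, ← mul_assoc, ((hc.mem_cls_iff S hK hzS hz1).1 (Finset.mem_product.1 hw1).1).1, one_mul]
  obtain ⟨d, hdS, hd1, hzd⟩ := hc.exists_other S hK (c := z)
  have hzd1 : z * d ≠ 1 := hc.mul_ne_one_of_ne S hK hzS hzd
  have hzd' : z ≠ z * d := fun h => hd1 (mul_left_cancel (a := z) (by rw [mul_one]; exact h.symm))
  have hinv : ∀ s, s = d ∨ s = z * d → ∀ v ∈ F, s * v * s = v⁻¹ := by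
    rintro s (rfl | rfl) v hv
    · exact ((hc.mem_kern S hK hzS hdS hz1 hd1 hzd).1 hv).2
    · exact ((hc.mem_kern S hK hzS (mul_mem hzS hdS) hz1 hzd1 hzd').1 hv).2
  have hSF : ∀ s ∈ (S : Subgroup G), s ∈ F → s = 1 := fun s hs hsF =>
    RankOneInvol.eq_one_of_sq_of_odd (RankOneInvol.odd_orderOf_of_mem (hc.odd_kern S hK hzS hz1) hsF)
      (sq_eq_one S hK hs)
  have hU : ∀ u, u ∈ U ↔ y ∈ F ∧ ∃ v ∈ F, u = v * d ∨ u = v * (z * d) := by
    intro u
    simp only [U, Finset.mem_filter, Finset.mem_univ, true_and, hc.mem_cls_iff S hK hzS hz1]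
    constructor
    · rintro ⟨⟨hu2, hu1⟩, hw2, hw1⟩
      have hui : u⁻¹ = u := inv_eq_of_mul_eq_one_right hu2
      have hyz := Subgroup.mem_centralizer_singleton_iff.1 (oddElts_le _ hy)
      have hconj : u * (z * y) * u⁻¹ = z * y⁻¹ := by
        have h1 : u * (z * y) * u = (z * y)⁻¹ := eq_inv_of_mul_eq_one_left (by
          rw [← hw2]; group)
        rw [hui, h1, mul_inv_rev, hzi]
        exact (show Commute y z from hyz).inv_left.eq
      have hp1 := Blocks.IsPPart.conj (hO.isPPart hy) u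
      rw [hconj] at hp1
      have huz : u * z * u⁻¹ = z :=
        Blocks.IsPPart.unique Nat.prime_two hp1 (hO.isPPart (inv_mem hy))
      have huC : u ∈ Cc[z] := Subgroup.mem_centralizer_singleton_iff.2 (mul_inv_eq_iff_eq_mul.1 huz)
      have hyinv : u * y * u⁻¹ = y⁻¹ := mul_left_cancel (a := z) (by
        calc z * (u * y * u⁻¹) = u * z * u⁻¹ * (u * y * u⁻¹) := by rw [huz]
          _ = u * (z * y) * u⁻¹ := by group
          _ = z * y⁻¹ := hconj)
      obtain ⟨o, ho, s, hs, rfl⟩ := centralizer_eq_mul S hK hzS hz1 huC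
      obtain ⟨e, he, v, hv, rfl⟩ := hc.kern_decomp S hK hzS hz1 ho
      have hes := Subgroup.mem_centralizer_iff.1 (oddElts_le _ he) s hs
      have hs2 := sq_eq_one S hK hs
      have hcase : s = d ∨ s = z * d := by
        have hbad : (s = 1 ∨ s = z) → False := fun hsz => by
          have hcomm : ∀ w ∈ Oc[z], s * w * s⁻¹ = w := fun w hw => by
            rcases hsz with h | h
            · rw [h]; group
            · rw [h, ← Subgroup.mem_centralizer_singleton_iff.1 (oddElts_le _ hw), mul_inv_cancel_right]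
          have ho1 : e * v = 1 := RankOneInvol.eq_one_of_sq_of_odd (hO.odd _ ho) (by
            calc e * v * (e * v) = e * v * (s * (e * v) * s⁻¹) := by rw [hcomm _ ho]
              _ = e * v * s * (e * v * s) * (s * s)⁻¹ := by group
              _ = 1 := by rw [hu2, hs2]; group)
          rw [ho1, one_mul] at hyinv hu1 hw1
          rw [hcomm y hy] at hyinv
          have hy1 : y = 1 := RankOneInvol.eq_one_of_sq_of_odd (hO.odd _ hy)
            (by nth_rw 2 [hyinv]; exact mul_inv_cancel y)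
          rw [hy1, mul_one] at hw1
          rcases hsz with h | h
          · exact hu1 h
          · exact hw1 (h ▸ hz2)
        rcases hc.cases_of_mem S hK hzS hdS hz1 hd1 hzd hs with h | h | h | h
        · exact (hbad (Or.inl h)).elim
        · exact (hbad (Or.inr h)).elim
        · exact Or.inl h
        · exact Or.inr h
      have hsi : s⁻¹ = s := inv_eq_of_mul_eq_one_right hs2
      have hsv : ∀ w ∈ F, s * w * s = w⁻¹ := hinv s hcase
      have hcd : ∀ a ∈ Ec, ∀ w ∈ F, a⁻¹ * w * a ∈ F := fun a ha w hw => by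
        have := hc.kern_normal S hK hzS hz1 (hc.mem_cent_of_Ec S hK hzS (inv_mem ha)) hw
        rwa [inv_inv] at this
      have he1 : e = 1 := by
        have h0 : e * (v * e * v⁻¹) = 1 := by
          rw [← hu2]
          calc e * (v * e * v⁻¹) = e * v * e * (s * v * s) := by rw [hsv v hv]; group
            _ = e * v * (e * s) * v * s := by group
            _ = e * v * (s * e) * v * s := by rw [hes]
            _ = e * v * s * (e * v * s) := by group
        have h2 : e⁻¹ = e * ((e⁻¹ * v * e) * v⁻¹) := by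
          nth_rw 1 [inv_eq_of_mul_eq_one_right h0]; group
        have h3 : e⁻¹ = e := hc.decomp_unique S hK hzS hz1 (y := e⁻¹) (inv_mem he) he
          (by rw [inv_inv, mul_inv_cancel]; exact one_mem F)
          (by nth_rw 2 [h2]; rw [inv_mul_cancel_left]; exact mul_mem (hcd e he v hv) (inv_mem hv))
        exact RankOneInvol.eq_one_of_sq_of_odd ((hc.mem_oddElts_centralizer_sylow S hK).1 he).2
          (by nth_rw 1 [← h3]; exact inv_mul_cancel e)
      subst he1
      rw [one_mul] at hyinv ⊢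
      refine ⟨?_, v, hv, hcase.imp (fun h => by rw [h]) fun h => by rw [h]⟩
      obtain ⟨e', he', v', hv', rfl⟩ := hc.kern_decomp S hK hzS hz1 hy
      have h4 : v * s * (e' * v') * (v * s)⁻¹ = e' * ((e'⁻¹ * v * e') * v'⁻¹ * v⁻¹) := by
        calc v * s * (e' * v') * (v * s)⁻¹ = v * (s * e') * v' * s * v⁻¹ := by
              rw [mul_inv_rev, hsi]; group
          _ = v * e' * (s * v' * s) * v⁻¹ := by
              rw [Subgroup.mem_centralizer_iff.1 (oddElts_le _ he') s hs]; group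
          _ = _ := by rw [hsv v' hv']; group
      have h5 : e'⁻¹ = e' := hc.decomp_unique S hK hzS hz1 (y := (e' * v')⁻¹) (inv_mem he') he'
        (by
          rw [show e'⁻¹⁻¹ * (e' * v')⁻¹ = e'⁻¹⁻¹ * v'⁻¹ * e'⁻¹ by group]
          exact hcd e'⁻¹ (inv_mem he') _ (inv_mem hv'))
        (by
          rw [← hyinv, h4, inv_mul_cancel_left]
          exact mul_mem (mul_mem (hcd e' he' v hv) (inv_mem hv')) (inv_mem hv))
      have he'1 : e' = 1 := RankOneInvol.eq_one_of_sq_of_odd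
        ((hc.mem_oddElts_centralizer_sylow S hK).1 he').2 (by nth_rw 1 [← h5]; exact inv_mul_cancel e')
      rw [he'1, one_mul]; exact hv'
    · rintro ⟨hyF, v, hv, huv⟩
      obtain ⟨s, hs, rfl⟩ : ∃ s, (s = d ∨ s = z * d) ∧ u = v * s := by
        rcases huv with h | h
        · exact ⟨d, Or.inl rfl, h⟩
        · exact ⟨z * d, Or.inr rfl, h⟩
      have hsS : s ∈ (S : Subgroup G) := by
        rcases hs with rfl | rfl
        · exact hdS
        · exact mul_mem hzS hdS
      have hs1 : s ≠ 1 := by rcases hs with rfl | rfl; exacts [hd1, hzd1]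
      have hsz : s ≠ z := by rcases hs with rfl | rfl; exacts [hzd.symm, hzd'.symm]
      have hsq := sq_eq_one S hK hsS
      have hsw : ∀ w ∈ F, w * s * (w * s) = 1 := fun w hw => by
        calc w * s * (w * s) = w * (s * w * s) := by group
          _ = 1 := by rw [hinv s hs w hw, mul_inv_cancel]
      refine ⟨⟨hsw v hv, fun h => hs1 (hSF s hsS ?_)⟩, ?_, fun h => hsz ?_⟩
      · rw [eq_inv_of_mul_eq_one_right h]; exact inv_mem hv
      · have hzc : ∀ w ∈ F, w * z = z * w := fun w hw =>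
          Subgroup.mem_centralizer_singleton_iff.1 (hc.mem_cent_of_kern S hK hzS hz1 hw)
        have hsy : s * y = y⁻¹ * s := by rw [← hinv s hs y hyF, mul_assoc _ s s, hsq, mul_one]
        have e1 : v * s * (z * y) = (v * y⁻¹) * (s * z) := by
          rw [← hzc y hyF, mul_assoc v s, ← mul_assoc s y z, hsy]; group
        rw [e1]
        have hcomm : s * z = z * s := comm_of_mem S hK hsS hzS
        calc v * y⁻¹ * (s * z) * (v * y⁻¹ * (s * z)) = v * y⁻¹ * s * (z * (v * y⁻¹)) * (s * z) := by group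
          _ = v * y⁻¹ * s * ((v * y⁻¹) * z) * (z * s) := by
              rw [hzc _ (mul_mem hv (inv_mem hyF)), hcomm]
          _ = v * y⁻¹ * s * (v * y⁻¹) * (z * z) * s := by group
          _ = v * y⁻¹ * s * (v * y⁻¹ * s) := by rw [hz2]; group
          _ = 1 := hsw _ (mul_mem hv (inv_mem hyF))
      · have hzc : y * z = z * y :=
          Subgroup.mem_centralizer_singleton_iff.1 (hc.mem_cent_of_kern S hK hzS hz1 hyF)
        have h1 : s * z = v⁻¹ * y⁻¹ := by
          calc s * z = v⁻¹ * (v * s * (z * y)) * y⁻¹ := by group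
            _ = v⁻¹ * y⁻¹ := by rw [h, mul_one]
        have h2 := hSF (s * z) (mul_mem hsS hzS) (h1 ▸ mul_mem (inv_mem hv) (inv_mem hyF))
        rw [eq_inv_of_mul_eq_one_left h2, hzi]
  rw [hUcard]
  split_ifs with hyF
  · have hUeq : U = (Finset.univ.image fun v : ↥F => (v : G) * d) ∪
        (Finset.univ.image fun v : ↥F => (v : G) * (z * d)) := by
      ext u
      simp only [hU, hyF, true_and, Finset.mem_union, Finset.mem_image, Finset.mem_univ, Subtype.exists,
        exists_prop]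
      exact ⟨fun ⟨v, hv, h⟩ => h.imp (fun e => ⟨v, hv, e.symm⟩) fun e => ⟨v, hv, e.symm⟩,
        fun h => h.elim (fun ⟨v, hv, e⟩ => ⟨v, hv, Or.inl e.symm⟩)
          fun ⟨v, hv, e⟩ => ⟨v, hv, Or.inr e.symm⟩⟩
    rw [hUeq, Finset.card_union_of_disjoint, Finset.card_image_of_injective _
      (fun a b h => Subtype.ext (mul_right_cancel h)), Finset.card_image_of_injective _
      (fun a b h => Subtype.ext (mul_right_cancel h)), Finset.card_univ, ← Nat.card_eq_fintype_card,
      hF, (hc.kern_spec S hK hzS hz1).2.1, two_mul]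
    rw [Finset.disjoint_left]
    intro u hu hu'
    obtain ⟨a, -, rfl⟩ := Finset.mem_image.1 hu
    obtain ⟨b, -, hb⟩ := Finset.mem_image.1 hu'
    refine hz1 (hSF z hzS ?_)
    have h1 : (b : G)⁻¹ * a = z := by
      have h2 : (b : G) * z = a := mul_right_cancel (b := d) (by rw [mul_assoc]; exact hb)
      rw [← h2, inv_mul_cancel_left]
    rw [← h1]
    exact mul_mem (inv_mem b.2) a.2
  · exact Finset.card_eq_zero.2 (Finset.eq_empty_of_forall_notMem fun u hu => hyF ((hU u).1 hu).1)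

open scoped Classical in
/-- The value of the pair sum for a linear character trivial on the kernel. -/
theorem sum_value {z : G} (hzS : z ∈ (S : Subgroup G)) (hz1 : z ≠ 1) {p : ↥Oc[z] →* ↥Ec}
    (hp : ∀ y, ((p y : ↥Ec) : G)⁻¹ * (y : G) ∈ kern (S : Subgroup G) z) (l : ↥Ec →* ℂˣ) :
    ∑ χ : IrrCharacter G,
        (χ : G → ℂ) z ^ 2 * conj (avg Oc[z] (l.comp p) z (χ : G → ℂ)) / (χ : G → ℂ) 1 =
      8 * (kIdx (S : Subgroup G) z : ℂ) ^ 2 / (Cc[z].index : ℂ) := by
  have hO := hc.oddNormal S hK hzS hz1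
  rw [hO.avg_pairs]
  have hsum : ∑ y : ↥Oc[z], ((l.comp p) y : ℂ) * ((ClassCount.pairs z z {z * (y : G)}).card : ℂ) =
      2 * (kIdx (S : Subgroup G) z : ℂ) ^ 2 := by
    rw [hc.sum_decomp S hK hzS hz1]
    rw [Finset.sum_eq_single_of_mem (1 : ↥Ec) (Finset.mem_univ _)]
    · rw [Finset.sum_congr rfl (g := fun _ => 2 * (kIdx (S : Subgroup G) z : ℂ)) fun v _ => ?_,
        Finset.sum_const, Finset.card_univ, ← Nat.card_eq_fintype_card,
        (hc.kern_spec S hK hzS hz1).2.1, nsmul_eq_mul]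
      · ring
      rw [MonoidHom.comp_apply, hc.proj_self S hK hzS hz1 hp (1 : ↥Ec).2 v.2,
        hc.pair_card S hK hzS hz1 (mul_mem (hc.oddElts_sylow_le S hK hzS (1 : ↥Ec).2)
          (hc.kern_le S hK hzS hz1 v.2)), if_pos (by simpa using v.2)]
      rw [show (⟨((1 : ↥Ec) : G), (1 : ↥Ec).2⟩ : ↥Ec) = 1 from rfl, map_one, Units.val_one]
      push_cast
      ring
    · intro e _ he
      refine Finset.sum_eq_zero fun v _ => ?_
      rw [hc.pair_card S hK hzS hz1 (mul_mem (hc.oddElts_sylow_le S hK hzS e.2)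
          (hc.kern_le S hK hzS hz1 v.2)), if_neg fun h => he (Subtype.ext ?_)]
      · simp
      · exact hc.eq_one_of_mem_kern S hK hzS hz1 e.2
          (by simpa using mul_mem h (inv_mem v.2))
  rw [hsum]
  have hG : (Nat.card G : ℂ) = 4 * (Nat.card ↥Oc[z] : ℂ) * (Cc[z].index : ℂ) := by
    rw [← Subgroup.card_mul_index Cc[z], ← four_mul_card_oddElts S hK hzS hz1]
    push_cast; ring
  have hn : (Cc[z].index : ℂ) ≠ 0 := Nat.cast_ne_zero.2 Subgroup.index_ne_zero_of_finite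
  have ho : (Nat.card ↥Oc[z] : ℂ) ≠ 0 := Nat.cast_ne_zero.2 Nat.card_pos.ne'
  rw [hG]
  field_simp
  ring

/-- The degrees of the principal block. -/
theorem principal_equation {z : G} (hzS : z ∈ (S : Subgroup G)) (hz1 : z ≠ 1) :
    ∃ a b c : ℤ, a % 4 = 1 ∧ b % 4 = 1 ∧ c % 4 = 1 ∧ a ≠ 1 ∧ b ≠ 1 ∧ c ≠ 1 ∧ a + b + c = -1 ∧
      (8 : ℚ) * (kIdx (S : Subgroup G) z : ℚ) ^ 2 =
        (Cc[z].index : ℚ) * (1 + 1 / (a : ℚ) + 1 / (b : ℚ) + 1 / (c : ℚ)) := by
  classical
  set f := kIdx (S : Subgroup G) z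
  set C := Cc[z]
  obtain ⟨M, hM⟩ := BlockCover.exists_isPModular Nat.prime_two
  have hone := fun s t hs ht => hc.one_class S hK (s := s) (t := t) hs ht
  obtain ⟨B⟩ := exists_blockData S hK hM hone
  have hz2 : orderOf z = 2 := klein_orderOf S hK hzS hz1
  have hval : ∀ i, (B.χ i : G → ℂ) z = B.ε i := fun i => B.even i z (by rw [hz2])
  obtain ⟨ρ, hρ, heq⟩ := CfsgLib.KleinOrder.order_eq S hK hone hM hzS hz2 B.block
    ⟨B.ne_one 0, B.ne_one 1, B.ne_one 2, fun h => absurd (B.inj h) (by decide),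
      fun h => absurd (B.inj h) (by decide), fun h => absurd (B.inj h) (by decide)⟩
    ⟨B.sign 0, B.sign 1, B.sign 2⟩ ⟨hval 0, hval 1, hval 2⟩
  have hρf : ρ = f := by
    refine mul_right_cancel₀
      (Nat.card_pos (α := ↥(Subgroup.centralizer ((S : Subgroup G) : Set G)))).ne' ?_
    rw [hρ, hc.card_centralizer_sylow S hK, ← four_mul_card_oddElts S hK hzS hz1,
      ← hc.card_mul_kIdx S hK hzS]
    ring
  subst hρf
  set e : Fin 3 → ℤ := fun i => B.ε i * (charDegree (B.χ i : G → ℂ) : ℤ) with he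
  have hmod : ∀ i, e i % 4 = 1 := fun i => by
    obtain ⟨k, hk⟩ := degree_mod_four S hK (B.χ i) (B.ε i)
      fun s hs hs1 => B.even i s (by rw [klein_orderOf S hK hs hs1])
    rcases B.sign i with h | h <;> simp only [he, h] <;> rw [h] at hk <;> omega
  have hne1 : ∀ i, e i ≠ 1 := by
    intro i h
    refine B.ne_one i ?_
    have h1 : charDegree (B.χ i : G → ℂ) = 1 := by
      have := Chars17.irrDegree_pos (B.χ i)
      rcases B.sign i with h' | h' <;> simp only [he, h'] at h <;> omega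
    haveI := hc.simple
    rw [linear_eq_principal hc.nonab _ h1]; rfl
  have hdeg := B.deg
  rw [Fin.sum_univ_three] at hdeg
  refine ⟨e 0, e 1, e 2, hmod 0, hmod 1, hmod 2, hne1 0, hne1 1, hne1 2, by simp only [he]; omega, ?_⟩
  have hinv : ∀ i, (B.ε i : ℚ) / charDegree (B.χ i : G → ℂ) = 1 / (e i : ℚ) := fun i => by
    rcases B.sign i with h | h <;> simp [he, h, div_eq_mul_inv, inv_neg]
  rw [hinv, hinv, hinv, ← Subgroup.card_mul_index C, Nat.cast_mul] at heq
  refine mul_left_cancel₀ (show (Nat.card ↥C : ℚ) ≠ 0 from Nat.cast_ne_zero.2 Nat.card_pos.ne') ?_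
  linear_combination heq

theorem twist_fix {z n : G} (hzS : z ∈ (S : Subgroup G)) (hz1 : z ≠ 1)
    (hn : n ∈ Subgroup.normalizer ((S : Subgroup G) : Set G)) (hnz : n * z * n⁻¹ = z)
    (l : ↥Ec →* ℂˣ) (e : ↥Ec) :
    l (conjEnd Ec n (hc.normalizer_le_normalizer_oddElts S hK hn) e) = l e := by
  obtain ⟨e', he', s, hs, hes⟩ := Crit.fixer_decomp S hK
    (hc.mem_fixer_of_fix S hn (mem_zInv_klein S hK hzS) hz1 hnz)
  have heq : conjEnd Ec n (hc.normalizer_le_normalizer_oddElts S hK hn) e =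
      ⟨e', he'⟩ * e * (⟨e', he'⟩ : ↥Ec)⁻¹ := Subtype.ext (by
    simp only [coe_conjEnd, Subgroup.coe_mul, Subgroup.coe_inv, hes]
    rw [show e' * s * (e : G) * (e' * s)⁻¹ = e' * (s * (e : G) * s⁻¹) * e'⁻¹ by group,
      Subgroup.mem_centralizer_iff.1 (oddElts_le _ e.2) s hs, mul_inv_cancel_right])
  rw [heq]
  simp only [map_mul, map_inv, mul_inv_cancel_comm]

/-- `O(C(S))` is trivial. -/
theorem oddElts_centralizer_sylow_eq_bot : Ec = ⊥ := by
  classical
  haveI := hc.simple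
  by_contra hE
  haveI : Nontrivial ↥Ec := (Subgroup.nontrivial_iff_ne_bot _).2 hE
  obtain ⟨l, hl⟩ := exists_hom_ne_one_of_solvable
    (CfsgLib.PF.oddSolvable _ (hc.odd_oddElts_centralizer_sylow S hK)) (X := ↥Ec) inferInstance
  obtain ⟨z, -, hz', -, hz1, -, -⟩ := hc.exists_zInv_pair S
  have hzS : z ∈ (S : Subgroup G) := hz'.1
  obtain ⟨d, hdS, hd1, hzd⟩ := hc.exists_other S hK (c := z)
  obtain ⟨x, hx, hxd, hxb, hxzd⟩ := hc.exists_shift S hK hzS hdS hz1 hd1 hzd
  have hxz : x * z * x⁻¹ ≠ z := by rw [hxd]; exact hzd.symm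
  have hxz2 : x * (x * z * x⁻¹) * x⁻¹ ≠ z := by
    rw [hxd, hxb]
    exact fun h => hd1 (mul_left_cancel (a := z) (by rw [mul_one]; exact h))
  obtain ⟨p, hp⟩ := hc.exists_proj S hK hzS hz1
  obtain ⟨M, hM⟩ := BlockCover.exists_isPModular Nat.prime_two
  have hO := hc.oddNormal S hK hzS hz1
  set f := kIdx (S : Subgroup G) z
  set nI := Cc[z].index
  have hf1 : 1 < f := hc.one_lt_kIdx S hK hzS hz1
  have hco : f.Coprime nI := hc.index_coprime S hK hzS hz1
  have hn0 : 0 < nI := Nat.pos_of_ne_zero Subgroup.index_ne_zero_of_finite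
  have hpev : ∀ (e : ↥Ec) (v : ↥(kern (S : Subgroup G) z)) (h : (e : G) * (v : G) ∈ Oc[z]),
      p ⟨_, h⟩ = e := fun e v h => hc.proj_self S hK hzS hz1 hp e.2 v.2 h
  have hEn := fun k : Fin 3 => hc.normalizer_le_normalizer_oddElts S hK (pow_mem hx (k : ℕ))
  let o : Fin 3 → (↥Ec →* ℂˣ) := fun k => l.comp (conjEnd Ec (x ^ (k : ℕ)) (hEn k))
  have ho0 : o 0 = l := MonoidHom.ext fun e => congrArg l (Subtype.ext (by simp))
  have hsurj : ∀ k : Fin 3, Function.Surjective (conjEnd Ec (x ^ (k : ℕ)) (hEn k)) := fun k =>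
    Finite.injective_iff_surjective.1 fun a b hab =>
      Subtype.ext (mul_left_cancel (mul_right_cancel (congrArg Subtype.val hab)))
  have ho1 : ∀ k, o k ≠ 1 := fun k h => hl (MonoidHom.ext fun e => by
    obtain ⟨e', rfl⟩ := hsurj k e
    exact DFunLike.congr_fun h e')
  let L : Fin 3 → (↥Oc[z] →* ℂˣ) := fun k => (o k).comp p
  have hLinv : ∀ k, ∀ h ∈ Cc[z], ∀ y y' : ↥Oc[z], h * (y : G) * h⁻¹ = (y' : G) → L k y' = L k y :=
    fun k h hh y y' e => hc.proj_conj S hK hzS hz1 hp hh e (o k)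
  have hLinj : ∀ j k, L j = L k → o j = o k := fun j k h => MonoidHom.ext fun e => by
    have h1 : (e : G) * ((1 : ↥(kern (S : Subgroup G) z)) : G) ∈ Oc[z] :=
      mul_mem (hc.oddElts_sylow_le S hK hzS e.2) (one_mem _)
    have h2 := DFunLike.congr_fun h ⟨_, h1⟩
    simp only [L, MonoidHom.comp_apply] at h2
    rwa [hpev] at h2
  have hint : ∀ k (χ : IrrCharacter G), ∃ a : ℤ, avg Oc[z] (L k) z (χ : G → ℂ) = a := fun k χ => by
    obtain ⟨m, D, h, -⟩ := avg_int (irr_isCharacter χ) (X := Oc[z]) hO.ord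
      (fun y hy => (Subgroup.mem_centralizer_singleton_iff.1 (oddElts_le _ hy)).symm) (L k)
    exact ⟨2 * m - D, by rw [h]; push_cast; ring⟩
  choose a ha using hint
  set d' : IrrCharacter G → ℤ := fun χ => (charDegree (χ : G → ℂ) : ℤ) with hd'
  have hd'1 : ∀ χ : IrrCharacter G, (d' χ : ℂ) = (χ : G → ℂ) 1 := fun χ => by
    simp [hd', Chars17.cast_irrDegree]
  have hd'pos : ∀ χ : IrrCharacter G, 0 < d' χ := fun χ => by
    simp only [hd']; exact_mod_cast Chars17.irrDegree_pos χ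
  have horth : ∀ j k, ∑ χ : IrrCharacter G, a j χ * a k χ = if o j = o k then 4 else 0 := fun j k => by
    have h := hO.avg_orth (L := L j) (L' := L k) (hLinv k)
    simp only [ha, map_intCast] at h
    have h4 : (Nat.card ↥Cc[z] : ℂ) / (Nat.card ↥Oc[z] : ℂ) = 4 := by
      rw [← four_mul_card_oddElts S hK hzS hz1]; push_cast
      rw [mul_div_assoc, div_self (Nat.cast_ne_zero.2 Nat.card_pos.ne'), mul_one]
    rw [h4] at h
    by_cases hjk : o j = o k
    · rw [if_pos hjk]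
      rw [if_pos (show L k = L j by simp only [L, hjk])] at h
      exact_mod_cast h
    · rw [if_neg hjk]
      rw [if_neg (fun hh => hjk (hLinj k j hh).symm)] at h
      exact_mod_cast h
  have hdeg : ∀ k, ∑ χ : IrrCharacter G, a k χ * d' χ = 0 := fun k => by
    have h := hO.avg_degree (L k)
    simp only [ha, ← hd'1] at h
    exact_mod_cast h
  have hsig : ∀ k, (∀ χ, a k χ ≠ 0 → a k χ = 1 ∨ a k χ = -1) ∧
      (Finset.univ.filter fun χ => a k χ ≠ 0).card = 4 := fun k =>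
    four_signs (a k) d' (by simpa [pow_two] using (horth k k).trans (if_pos rfl)) hd'pos (hdeg k)
  set T := Finset.univ.filter fun χ => a 0 χ ≠ 0 with hT
  have hTmem : ∀ {χ}, χ ∈ T ↔ a 0 χ ≠ 0 := by simp [T]
  -- on the support the coefficients are those of the restriction to `O(C(S))`
  have hb : ∀ χ ∈ T, ∀ k, avg Ec (o k) z (χ : G → ℂ) = a k χ := fun χ hχ k => by
    have hfac := (hc.section_eq S hK hM hzS hz1 hx hxz hxz2 hp (o 0) χ
      (by rw [show (o 0).comp p = L 0 from rfl, ha]; exact Int.cast_ne_zero.2 (hTmem.1 hχ))).1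
    have hs2 : ∑ y : ↥Oc[z], conj (L k y : ℂ) * (χ : G → ℂ) (z * (y : G)) =
        (f : ℂ) * ∑ e : ↥Ec, conj (o k e : ℂ) * (χ : G → ℂ) (z * (e : G)) := by
      rw [hc.sum_decomp S hK hzS hz1, Finset.mul_sum]
      refine Finset.sum_congr rfl fun e _ => ?_
      refine (Finset.sum_congr rfl (g := fun _ => conj (o k e : ℂ) * (χ : G → ℂ) (z * (e : G)))
        fun v _ => ?_).trans ?_
      · have hv' := hfac ⟨(e : G) * (v : G),
          mul_mem (hc.oddElts_sylow_le S hK hzS e.2) (hc.kern_le S hK hzS hz1 v.2)⟩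
        rw [hpev] at hv'
        simp only [L, MonoidHom.comp_apply, hpev]
        exact congrArg (conj (o k e : ℂ) * ·) hv'
      rw [Finset.sum_const, Finset.card_univ, ← Nat.card_eq_fintype_card, nsmul_eq_mul,
        (hc.kern_spec S hK hzS hz1).2.1]
    rw [← ha k χ, avg_eq, avg_eq, hs2, ← hc.card_mul_kIdx S hK hzS]
    have h1 := Nat.cast_ne_zero (R := ℂ).2 (hc.kIdx_pos S hK hzS).ne'
    push_cast
    simp only [f]
    field_simp
  have hodd : ∀ χ ∈ T, ∀ k, a k χ ≠ 0 := fun χ hχ k => by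
    have hpar : ∀ j, ∃ m D : ℕ, (a j χ : ℂ) = 2 * (m : ℂ) - D ∧
        avg Ec l 1 (χ : G → ℂ) = D := fun j => by
      have hsS : x ^ (j : ℕ) * z * (x ^ (j : ℕ))⁻¹ ∈ (S : Subgroup G) :=
        (Subgroup.mem_normalizer_iff.1 (pow_mem hx _) z).1 hzS
      obtain ⟨m, D, h1, h2⟩ := avg_int (irr_isCharacter χ) (X := Ec)
        (s := x ^ (j : ℕ) * z * (x ^ (j : ℕ))⁻¹) (by rw [orderOf_conj_eq, hO.ord])
        (fun y hy => Subgroup.mem_centralizer_iff.1 (oddElts_le _ hy) _ hsS) l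
      refine ⟨m, D, ?_, h2⟩
      rw [← hb χ hχ j, ← h1, avg_eq, avg_eq]
      congr 1
      refine Fintype.sum_bijective _ ⟨fun u v huv => Subtype.ext (mul_left_cancel (mul_right_cancel
        (congrArg Subtype.val huv))), hsurj j⟩ _ _ fun e => ?_
      simp only [o, MonoidHom.comp_apply, coe_conjEnd]
      rw [show x ^ (j : ℕ) * z * (x ^ (j : ℕ))⁻¹ * (x ^ (j : ℕ) * (e : G) * (x ^ (j : ℕ))⁻¹) =
        x ^ (j : ℕ) * (z * (e : G)) * (x ^ (j : ℕ))⁻¹ by group, irr_isClassFunction χ]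
    obtain ⟨m₀, D₀, h0, h0'⟩ := hpar 0
    obtain ⟨m, D, hk, hk'⟩ := hpar k
    have hD : (D₀ : ℂ) = D := h0'.symm.trans hk'
    have hDn : D₀ = D := by exact_mod_cast hD
    have e0 : a 0 χ = 2 * m₀ - D₀ := by exact_mod_cast h0
    have ek : a k χ = 2 * m - D := by exact_mod_cast hk
    rcases (hsig 0).1 χ (hTmem.1 hχ) with h | h <;> omega
  have hsupp : ∀ k χ, a k χ ≠ 0 → χ ∈ T := fun k χ h => by
    have heq : T = Finset.univ.filter fun χ => a k χ ≠ 0 :=
      Finset.eq_of_subset_of_card_le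
        (fun χ hχ => Finset.mem_filter.2 ⟨Finset.mem_univ _, hodd χ hχ k⟩)
        (by rw [(hsig k).2, hT, (hsig 0).2])
    rw [heq]; simp [h]
  have hval : ∀ χ ∈ T, ∃ c : Fin 3 → ℂ, ((χ : G → ℂ) z = ∑ k, c k) ∧
      ∀ j, (a j χ : ℂ) = ∑ k, if o k = o j then c k else 0 := fun χ hχ => by
    obtain ⟨c, hce⟩ := (hc.section_eq S hK hM hzS hz1 hx hxz hxz2 hp (o 0) χ
      (by rw [show (o 0).comp p = L 0 from rfl, ha]; exact Int.cast_ne_zero.2 (hTmem.1 hχ))).2
    have hce' : ∀ e : ↥Ec, (χ : G → ℂ) (z * (e : G)) = ∑ k, c k * (o k e : ℂ) := fun e => by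
      rw [hce e]; simp only [ho0]; rfl
    refine ⟨c, by simpa using hce' 1, fun j => ?_⟩
    rw [← hb χ hχ j, avg_eq]
    simp only [hce', Finset.mul_sum]
    rw [Finset.sum_comm]
    refine Finset.sum_congr rfl fun k _ => ?_
    calc _ = (Nat.card ↥Ec : ℂ)⁻¹ * c k * ∑ e : ↥Ec, conj (o j e : ℂ) * (o k e : ℂ) := by
          rw [Finset.mul_sum]; exact Finset.sum_congr rfl fun e _ => by ring
      _ = _ := by
          rw [sum_hom_eq]
          split_ifs
          · rw [mul_comm _ (c k), mul_assoc, inv_mul_cancel₀ (Nat.cast_ne_zero.2 Nat.card_pos.ne'),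
              mul_one]
          · rw [mul_zero]
  -- enumerate the support
  obtain ⟨q⟩ : Nonempty (Fin 4 ≃ ↥T) :=
    ⟨(T.equivFinOfCardEq (hsig 0).2).symm⟩
  have hTsum : ∀ g : IrrCharacter G → ℤ, ∀ k, ∑ χ, a k χ * g χ = ∑ i, a k (q i) * g (q i) := fun g k => by
    rw [Equiv.sum_comp q (fun t : ↥T => a k t * g t), Finset.sum_coe_sort T (fun χ => a k χ * g χ)]
    exact (Finset.sum_subset (Finset.subset_univ T) fun χ _ hχ => by
      rw [by_contra fun h => hχ (hsupp k χ h), zero_mul]).symm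
  have hV : ∀ (v : Fin 4 → ℤ), (∀ i, ((q i : IrrCharacter G) : G → ℂ) z = v i) →
      (8 : ℚ) * (f : ℚ) ^ 2 = (nI : ℚ) * ∑ i, (v i : ℚ) ^ 2 * (a 0 (q i) : ℚ) / (d' (q i) : ℚ) := by
    intro v hv
    have h := hc.sum_value S hK hzS hz1 hp (o 0)
    rw [show (o 0).comp p = L 0 from rfl] at h
    simp only [ha, map_intCast] at h
    rw [← Finset.sum_subset (Finset.subset_univ T) (fun χ _ hχ => by
        rw [by_contra fun h => hχ (hsupp 0 χ h)]; simp),
      ← Finset.sum_coe_sort T, ← Equiv.sum_comp q,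
      Finset.sum_congr rfl fun i _ => by rw [hv i, ← hd'1]] at h
    have h' : ((∑ i, (v i : ℚ) ^ 2 * (a 0 (q i) : ℚ) / (d' (q i) : ℚ) : ℚ) : ℂ) =
        ((8 * (f : ℚ) ^ 2 / (nI : ℚ) : ℚ) : ℂ) := by
      push_cast; exact h
    rw [Rat.cast_inj] at h'
    rw [h', mul_div_cancel₀ _ (Nat.cast_ne_zero.2 hn0.ne')]
  have hcop : ∀ D : ℤ, (nI : ℤ) = f ^ 2 * D → False := fun D hD => by
    have h1 : f ∣ nI := Int.natCast_dvd_natCast.1 ⟨f * D, by rw [hD]; ring⟩
    have := Nat.eq_one_of_dvd_coprimes hco dvd_rfl h1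
    omega
  by_cases hfix : o 1 = o 0
  · -- all conjugates are equal
    have hx1 : ∀ e, l (conjEnd Ec x (hc.normalizer_le_normalizer_oddElts S hK hx) e) = l e := fun e => by
      have h := DFunLike.congr_fun (hfix.trans ho0) e
      rw [← h]
      exact congrArg l (Subtype.ext (by simp))
    have ho2 : o 2 = o 0 := MonoidHom.ext fun e => by
      rw [ho0]
      calc l (conjEnd Ec _ (hEn 2) e)
          = l (conjEnd Ec x (hc.normalizer_le_normalizer_oddElts S hK hx)
              (conjEnd Ec x (hc.normalizer_le_normalizer_oddElts S hK hx) e)) :=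
            congrArg l (Subtype.ext (by simp [pow_two, mul_assoc]))
        _ = l e := by rw [hx1, hx1]
    have hall : ∀ k, o k = o 0 := fun k => by fin_cases k; exacts [rfl, hfix, ho2]
    have hv : ∀ i, ((q i : IrrCharacter G) : G → ℂ) z = a 0 (q i) := fun i => by
      obtain ⟨c, h1, h2⟩ := hval _ (q i).2
      rw [h1, h2 0]; simp [hall]
    have h8 := hV (fun i => a 0 (q i)) hv
    set e : Fin 4 → ℤ := fun i => a 0 (q i) * d' (q i) with he
    have hpm : ∀ i, a 0 (q i) = 1 ∨ a 0 (q i) = -1 := fun i => (hsig 0).1 _ (hTmem.1 (q i).2)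
    have hterm : ∀ i, (a 0 (q i) : ℚ) ^ 2 * (a 0 (q i) : ℚ) / (d' (q i) : ℚ) = 1 / (e i : ℚ) := fun i => by
      rcases hpm i with h | h <;> simp [he, h, div_eq_mul_inv, inv_neg]
    rw [Finset.sum_congr rfl fun i _ => hterm i] at h8
    have hmod : ∀ i, e i % 4 = 1 := fun i => by
      obtain ⟨k, hk⟩ := degree_mod_four S hK (q i : IrrCharacter G) (a 0 (q i)) fun s hs hs1 => by
        obtain ⟨g, hg⟩ := isConj_iff.1 (hc.one_class S hK hO.ord (klein_orderOf S hK hs hs1))
        rw [← hg, irr_isClassFunction, hv i]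
      rcases hpm i with h | h <;> rw [h] at hk <;> simp only [he, hd', h] <;> omega
    have hne1 : ∀ i, e i ≠ 1 := fun i h => by
      have hpos := hd'pos (q i)
      have h1 : charDegree ((q i : IrrCharacter G) : G → ℂ) = 1 := by
        rcases hpm i with h' | h' <;> simp only [he, h', hd'] at h hpos <;> omega
      refine hTmem.1 (q i).2 ?_
      have h2 := ha 0 (q i)
      have hp0 : (((q i : IrrCharacter G)) : G → ℂ) = fun _ => 1 := by
        rw [linear_eq_principal hc.nonab _ h1]; rfl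
      rw [hp0, avg_eq] at h2
      have h3 := sum_hom_eq (L 0) 1
      rw [if_neg (fun h => ho1 0 ((MonoidHom.ext fun e' => by
        have hm : (e' : G) * ((1 : ↥(kern (S : Subgroup G) z)) : G) ∈ Oc[z] :=
          mul_mem (hc.oddElts_sylow_le S hK hzS e'.2) (one_mem _)
        have hh := DFunLike.congr_fun h ⟨_, hm⟩
        simp only [L, MonoidHom.comp_apply, MonoidHom.one_apply] at hh ⊢
        rw [hpev] at hh
        exact hh.symm)))] at h3
      simp only [MonoidHom.one_apply, Units.val_one] at h3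
      rw [h3, mul_zero] at h2
      exact_mod_cast h2.symm
    have hesum : ∑ i, e i = 0 := by rw [← hdeg 0, hTsum d' 0]
    have hlt := fixed_bound e hmod hne1 hesum
    obtain ⟨A, B, C, hA, hB, hC, hA1, hB1, hC1, hABC, hprin⟩ := hc.principal_equation S hK hzS hz1
    have hn0q : (0 : ℚ) < nI := by exact_mod_cast hn0
    rcases principal_bound hA hB hC hA1 hB1 hC1 hABC with h | h
    · have := mul_left_cancel₀ hn0q.ne' (hprin.symm.trans h8)
      linarith
    · rw [h] at hprin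
      refine hcop 15 ?_
      have h15 : ((nI : ℤ) : ℚ) = (((f : ℤ) ^ 2 * 15 : ℤ) : ℚ) := by push_cast; linarith
      exact_mod_cast h15
  · -- three different conjugates
    have h12 : o 1 ≠ o 2 := fun h => hfix (by
      refine MonoidHom.ext fun e => ?_
      obtain ⟨e', he'⟩ := hsurj 1 e
      have := DFunLike.congr_fun h e'
      rw [ho0, ← he']
      refine Eq.trans ?_ this.symm
      exact congrArg l (Subtype.ext (by simp [pow_two, mul_assoc])))
    have h02 : o 0 ≠ o 2 := fun h => hfix (by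
      refine MonoidHom.ext fun e => ?_
      have hx3 : x ^ 3 * z * (x ^ 3)⁻¹ = z := by
        rw [show x ^ 3 * z * (x ^ 3)⁻¹ = x * (x * (x * z * x⁻¹) * x⁻¹) * x⁻¹ by
          simp [pow_succ, mul_assoc], hxd, hxb, hxzd]
      have h3 := hc.twist_fix S hK hzS hz1 (pow_mem hx 3) hx3 l e
      have h2 := DFunLike.congr_fun h (conjEnd Ec (x ^ (1 : ℕ)) (hEn 1) e)
      rw [ho0] at h2 ⊢
      rw [← h3]
      refine h2.trans ?_
      exact congrArg l (Subtype.ext (by simp [pow_succ, mul_assoc])))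
    have hne : ∀ j k : Fin 3, j ≠ k → o j ≠ o k := by
      intro j k hjk
      fin_cases j <;> fin_cases k <;>
        first
        | exact absurd rfl hjk
        | exact Ne.symm hfix
        | exact hfix
        | exact h12
        | exact h12.symm
        | exact h02
        | exact h02.symm
    have hv : ∀ i, ((q i : IrrCharacter G) : G → ℂ) z =
        ((a 0 (q i) + a 1 (q i) + a 2 (q i) : ℤ) : ℂ) := fun i => by
      obtain ⟨c, h1, h2⟩ := hval _ (q i).2
      have h3 : ∀ j, (a j (q i) : ℂ) = c j := fun j => by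
        rw [h2 j, Finset.sum_eq_single j (fun k _ hk => if_neg (hne k j hk)) (by simp), if_pos rfl]
      rw [h1, Fin.sum_univ_three]; push_cast; rw [h3, h3, h3]
    have hpm : ∀ k i, a k (q i) = 1 ∨ a k (q i) = -1 := fun k i =>
      (hsig k).1 _ (hodd _ (q i).2 k)
    have hoq : ∀ j k, j ≠ k → ∑ i, a j (q i) * a k (q i) = 0 := fun j k hjk => by
      rw [← hTsum (a k) j, horth, if_neg (hne j k hjk)]
    have hdq : ∀ k, ∑ i, a k (q i) * d' (q i) = 0 := fun k => by rw [← hTsum d' k, hdeg]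
    obtain ⟨D, hD0, hD⟩ := orbit_arith (fun i => a 0 (q i)) (fun i => a 1 (q i)) (fun i => a 2 (q i))
      (fun i => d' (q i)) (hpm 0) (hpm 1) (hpm 2) (hoq 0 1 (by decide)) (hoq 0 2 (by decide))
      (hoq 1 2 (by decide)) (hdq 0) (hdq 1) (hdq 2) (fun i => hd'pos _)
    have h8 := hV _ hv
    rw [hD] at h8
    refine hcop D ?_
    have hDq : (D : ℚ) ≠ 0 := Int.cast_ne_zero.2 hD0
    have h15 : ((nI : ℤ) : ℚ) = (((f : ℤ) ^ 2 * D : ℤ) : ℚ) := by
      push_cast
      field_simp at h8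
      linarith
    exact_mod_cast h15

end Crit

end CfsgLib.PiHom
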