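import Cfsg.Agent.Lib.PiHom.KleinChar
import Cfsg.Agent.Lib.BSW.Main
import Cfsg.Agent.Lib.BSW.Recog
import Cfsg.Agent.Lib.ClassicalGroups.SmallIso

/-!
# A minimal counterexample has no Klein four Sylow 2-subgroup

With `O(C(S)) = 1` the centraliser of an involution is generalised dihedral, so the group is a
two-dimensional projective special linear group, where an element of order three is inverted by an
involution.
-/

set_option autoImplicit false
set_option linter.style.haveILetI false
set_option linter.unusedSectionVars false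

namespace CfsgLib.PiHom

open CfsgLib.Involutions
open scoped Matrix

universe u

/-- A non-central element of order three modulo the centre is inverted by an involution. -/
theorem exists_inverting {F : Type*} [Field F] [Fintype F] (hodd : Odd (Fintype.card F))
    (h3 : (3 : F) ≠ 0) {M : Matrix.SpecialLinearGroup (Fin 2) F}
    (hM : M ∉ Subgroup.center (Matrix.SpecialLinearGroup (Fin 2) F))
    (hM3 : M * M * M ∈ Subgroup.center (Matrix.SpecialLinearGroup (Fin 2) F)) :
    ∃ v, v ∉ Subgroup.center (Matrix.SpecialLinearGroup (Fin 2) F) ∧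
      v * v ∈ Subgroup.center (Matrix.SpecialLinearGroup (Fin 2) F) ∧
      (v * M) * (v * M) ∈ Subgroup.center (Matrix.SpecialLinearGroup (Fin 2) F) := by
  classical
  have hscal : ∀ {A : Matrix.SpecialLinearGroup (Fin 2) F},
      A ∈ Subgroup.center (Matrix.SpecialLinearGroup (Fin 2) F) ↔
        A.1 0 1 = 0 ∧ A.1 1 0 = 0 ∧ A.1 0 0 = A.1 1 1 := by
    intro A
    rw [Matrix.SpecialLinearGroup.mem_center_iff]
    constructor
    · rintro ⟨r, -, hr⟩
      rw [show A.1 = Matrix.scalar (Fin 2) r from hr.symm]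
      simp
    · rintro ⟨h01, h10, hd⟩
      refine ⟨A.1 0 0, ?_, ?_⟩
      · have hdet := A.2
        rw [Matrix.det_fin_two, h01, zero_mul, sub_zero, ← hd] at hdet
        simpa [pow_two] using hdet
      · ext i j
        fin_cases i <;> fin_cases j <;> simp [h01, h10, hd]
  set a := M.1 0 0 with ha
  set b := M.1 0 1 with hb
  set c := M.1 1 0 with hc
  set e := M.1 1 1 with he
  have hdet : a * e - b * c = 1 := by
    have h := M.2
    rwa [Matrix.det_fin_two] at h
  have h2 : (2 : F) ≠ 0 := fun h => by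
    haveI := ringChar.charP F
    obtain ⟨n, hp, hn⟩ := FiniteField.card F (ringChar F)
    have h2' : ringChar F ∣ 2 := (CharP.cast_eq_zero_iff F (ringChar F) 2).1 (by exact_mod_cast h)
    rw [hn, (Nat.prime_dvd_prime_iff_eq hp Nat.prime_two).1 h2'] at hodd
    exact Nat.not_even_iff_odd.2 hodd (Nat.even_pow.2 ⟨even_two, n.ne_zero⟩)
  have hΔ : (a - e) ^ 2 + 4 * b * c ≠ 0 := by
    intro h0
    have ht : a * a + a * e + e * e + b * c = 3 := by linear_combination h0 + 3 * hdet
    obtain ⟨k1, k2, k3⟩ := hscal.1 hM3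
    simp only [Matrix.SpecialLinearGroup.coe_mul, Matrix.mul_apply, Fin.sum_univ_two, ← ha, ← hb, ← hc,
      ← he] at k1 k2 k3
    refine hM (hscal.2 ⟨?_, ?_, ?_⟩)
    · refine (mul_eq_zero.1 (?_ : (3 : F) * b = 0)).resolve_left h3
      linear_combination k1 - b * ht
    · refine (mul_eq_zero.1 (?_ : (3 : F) * c = 0)).resolve_left h3
      linear_combination k2 - c * ht
    · refine sub_eq_zero.1 ((mul_eq_zero.1 (?_ : (3 : F) * (a - e) = 0)).resolve_left h3)
      linear_combination k3 - (a - e) * ht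
  obtain ⟨x, y, w, hq, hl⟩ : ∃ x y w : F, -(x * x) - y * w = 1 ∧
      x * (a - e) + y * c + w * b = 0 := by
    by_cases hb0 : b = 0
    · have hae : a - e ≠ 0 := fun h => hΔ (by rw [h, hb0]; ring)
      by_cases hc0 : c = 0
      · exact ⟨0, 1, -1, by ring, by rw [hb0, hc0]; ring⟩
      · refine ⟨1, -(a - e) / c, 2 * c / (a - e), ?_, ?_⟩
        · field_simp
          ring
        · rw [hb0]; field_simp; ring
    · obtain ⟨X, Y, hXY⟩ := FiniteField.exists_root_sum_quadratic
        (f := Polynomial.X ^ 2)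
        (g := Polynomial.C (-((a - e) ^ 2 + 4 * b * c)) * Polynomial.X ^ 2 + Polynomial.C (4 * b ^ 2))
        (Polynomial.degree_X_pow 2)
        (by
          rw [Polynomial.degree_add_C (by
            rw [Polynomial.degree_C_mul_X_pow 2 (neg_ne_zero.2 hΔ)]; norm_num),
            Polynomial.degree_C_mul_X_pow 2 (neg_ne_zero.2 hΔ)]
          rfl)
        (Nat.odd_iff.1 hodd)
      simp only [Polynomial.eval_pow, Polynomial.eval_X, Polynomial.eval_add, Polynomial.eval_mul,
        Polynomial.eval_C] at hXY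
      refine ⟨(X + (a - e) * Y) / (2 * b), Y,
        -((X + (a - e) * Y) / (2 * b) * (a - e) + Y * c) / b, ?_, ?_⟩
      · field_simp
        linear_combination -hXY
      · field_simp
        ring
  let v : Matrix.SpecialLinearGroup (Fin 2) F :=
    ⟨!![x, y; w, -x], by rw [Matrix.det_fin_two_of]; linear_combination hq⟩
  refine ⟨v, fun h => ?_, hscal.2 ?_, hscal.2 ?_⟩
  · obtain ⟨k1, k2, k3⟩ := hscal.1 h
    simp [v] at k1 k2 k3
    have hx : x = 0 := (mul_eq_zero.1 (by linear_combination k3 : (2 : F) * x = 0)).resolve_left h2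
    rw [hx, k1] at hq
    simp at hq
  · rw [show (v * v).1 = !![x, y; w, -x] * !![x, y; w, -x] from rfl]
    refine ⟨?_, ?_, ?_⟩ <;> simp [Matrix.mul_apply, Fin.sum_univ_two] <;> ring
  · rw [show ((v * M) * (v * M)).1 = (!![x, y; w, -x] * M.1) * (!![x, y; w, -x] * M.1) from rfl]
    refine ⟨?_, ?_, ?_⟩ <;>
      simp [Matrix.mul_apply, Matrix.vecMul, dotProduct, Fin.sum_univ_two, ← ha, ← hb, ← hc, ← he] <;>
      first
        | linear_combination (x * b + y * e) * hl
        | linear_combination (w * a - x * c) * hl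
        | linear_combination (x * a + y * c - w * b + x * e) * hl

variable {π : Set ℕ} {G : Type u} [Group G] [Finite G]

namespace Crit

variable (hc : Crit π G) (S : Sylow 2 G) (hK : IsKleinFour ↥(S : Subgroup G))
include hc hK

local notation "Oc[" c "]" => oddElts (Subgroup.centralizer ({c} : Set G))
local notation "Cc[" c "]" => Subgroup.centralizer ({c} : Set G)

/-- The configuration of Brauer, Suzuki and Wall. -/
theorem exists_setup : ∃ z d : G, z ∈ (S : Subgroup G) ∧ z ≠ 1 ∧
    BSW.Setup (kern (S : Subgroup G) z ⊔ Subgroup.zpowers z) z d := by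
  letI := Fintype.ofFinite G
  have hE := hc.oddElts_centralizer_sylow_eq_bot S hK
  obtain ⟨z, -, hz', -, hz1, -, -⟩ := hc.exists_zInv_pair S
  have hzS : z ∈ (S : Subgroup G) := hz'.1
  obtain ⟨d, hdS, hd1, hzd⟩ := hc.exists_other S hK (c := z)
  refine ⟨z, d, hzS, hz1, ?_⟩
  set F := kern (S : Subgroup G) z with hF
  have hz2 := sq_eq_one S hK hzS
  have hd2 := sq_eq_one S hK hdS
  have hdi : d⁻¹ = d := inv_eq_of_mul_eq_one_right hd2
  have hzi : z⁻¹ = z := inv_eq_of_mul_eq_one_right hz2
  have hFz : ∀ v ∈ F, v * z = z * v := fun v hv =>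
    Subgroup.mem_centralizer_singleton_iff.1 (hc.mem_cent_of_kern S hK hzS hz1 hv)
  have hinv : ∀ v ∈ F, d * v * d = v⁻¹ := fun v hv =>
    ((hc.mem_kern S hK hzS hdS hz1 hd1 hzd).1 hv).2
  have hzn : Subgroup.zpowers z ≤ Subgroup.normalizer (F : Set G) := Subgroup.zpowers_le.2
    (mem_normalizer_of_conjBy_le (conjBy_le.2 fun v hv => by
      rw [← hFz v hv, mul_inv_cancel_right]; exact hv))
  have hmem : ∀ k : G, k ∈ F ⊔ Subgroup.zpowers z ↔ ∃ v ∈ F, k = v ∨ k = v * z := fun k => by
    constructor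
    · intro hk
      rw [← SetLike.mem_coe, Subgroup.coe_mul_of_right_le_normalizer_left F _ hzn] at hk
      obtain ⟨v, hv, t, ht, rfl⟩ := hk
      obtain ⟨m, rfl⟩ := ht
      refine ⟨v, hv, ?_⟩
      rcases Int.even_or_odd m with ⟨j, rfl⟩ | ⟨j, rfl⟩
      · left; simp [← two_mul, zpow_mul, zpow_two, pow_two, hz2]
      · right; simp [zpow_add, zpow_mul, zpow_two, pow_two, hz2]
    · rintro ⟨v, hv, rfl | rfl⟩
      · exact Subgroup.mem_sup_left hv
      · exact mul_mem (Subgroup.mem_sup_left hv) (Subgroup.mem_sup_right (Subgroup.mem_zpowers z))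
  have hodd : ∀ v ∈ F, Odd (orderOf v) := fun v hv =>
    RankOneInvol.odd_orderOf_of_mem (hc.odd_kern S hK hzS hz1) hv
  have hzF : z ∉ F := fun h => hz1 (RankOneInvol.eq_one_of_sq_of_odd (hodd z h) hz2)
  have hfixF : ∀ v ∈ F, v * d = d * v → v = 1 := fun v hv h => by
    refine RankOneInvol.eq_one_of_sq_of_odd (hodd v hv) ?_
    have h1 := hinv v hv
    rw [mul_assoc, h, ← mul_assoc, hd2, one_mul] at h1
    nth_rw 2 [h1]
    exact mul_inv_cancel v
  have hzd' : z * d = d * z := comm_of_mem S hK hzS hdS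
  refine
    { ht := klein_orderOf S hK hzS hz1
      hs := klein_orderOf S hK hdS hd1
      htK := Subgroup.mem_sup_right (Subgroup.mem_zpowers z)
      hsK := ?_, comm := ?_, inv := ?_, cent := ?_, fix := ?_, hti := ?_
      hconj := fun x y hx hy => hc.one_class S hK hx hy }
  · intro h
    obtain ⟨v, hv, h | h⟩ := (hmem d).1 h
    · exact hd1 (RankOneInvol.eq_one_of_sq_of_odd (hodd d (h ▸ hv)) hd2)
    · refine hzd ?_
      have h1 : v = d * z := by rw [h, mul_assoc, hz2, mul_one]
      have h2 : v = 1 := RankOneInvol.eq_one_of_sq_of_odd (hodd v hv) (by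
        rw [h1]
        calc d * z * (d * z) = d * (z * d) * z := by group
          _ = d * d * (z * z) := by rw [hzd']; group
          _ = 1 := by rw [hd2, hz2, one_mul])
      rw [h, h2, one_mul]
  · intro p hp q hq
    obtain ⟨v, hv, hp⟩ := (hmem p).1 hp
    obtain ⟨w, hw, hq⟩ := (hmem q).1 hq
    have hvw := (hc.kern_spec S hK hzS hz1).2.2 v hv w hw
    rcases hp with rfl | rfl <;> rcases hq with rfl | rfl
    · exact hvw
    · rw [← mul_assoc, hvw, mul_assoc, hFz p hv, mul_assoc]
    · rw [mul_assoc, ← hFz q hw, ← mul_assoc, hvw, mul_assoc]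
    · calc v * z * (w * z) = v * (z * w) * z := by group
        _ = (v * w) * (z * z) := by rw [← hFz w hw]; group
        _ = (w * v) * (z * z) := by rw [hvw]
        _ = w * (v * z) * z := by group
        _ = w * z * (v * z) := by nth_rw 1 [hFz v hv]; group
  · intro p hp
    obtain ⟨v, hv, rfl | rfl⟩ := (hmem p).1 hp
    · rw [hdi, hinv p hv]
    · calc d * (v * z) * d⁻¹ = d * v * (z * d) := by rw [hdi]; group
        _ = d * v * d * z := by rw [hzd']; group
        _ = v⁻¹ * z := by rw [hinv v hv]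
        _ = (v * z)⁻¹ := by rw [hFz v hv, mul_inv_rev, hzi]
  · refine le_antisymm (fun g hg => ?_) (sup_le (sup_le (fun v hv => hc.mem_cent_of_kern S hK hzS hz1 hv)
      (Subgroup.zpowers_le.2 (Subgroup.mem_centralizer_singleton_iff.2 rfl)))
      (Subgroup.zpowers_le.2 (sylow_le_centralizer S hK hzS hdS)))
    obtain ⟨o, ho, s, hs, rfl⟩ := centralizer_eq_mul S hK hzS hz1 hg
    obtain ⟨w, hw, v, hv, rfl⟩ := hc.kern_decomp S hK hzS hz1 ho
    rw [hE, Subgroup.mem_bot] at hw
    rw [hw, one_mul]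
    refine mul_mem (Subgroup.mem_sup_left (Subgroup.mem_sup_left hv)) ?_
    have hzm : z ∈ (F ⊔ Subgroup.zpowers z) ⊔ Subgroup.zpowers d :=
      Subgroup.mem_sup_left (Subgroup.mem_sup_right (Subgroup.mem_zpowers z))
    have hdm : d ∈ (F ⊔ Subgroup.zpowers z) ⊔ Subgroup.zpowers d :=
      Subgroup.mem_sup_right (Subgroup.mem_zpowers d)
    rcases hc.cases_of_mem S hK hzS hdS hz1 hd1 hzd hs with rfl | rfl | rfl | rfl
    exacts [one_mem _, hzm, hdm, mul_mem hzm hdm]
  · intro p hp hpd
    obtain ⟨v, hv, rfl | rfl⟩ := (hmem p).1 hp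
    · exact Or.inl (hfixF p hv hpd)
    · right
      have h1 : v * d = d * v := mul_right_cancel (b := z) (by
        calc v * d * z = v * z * d := by rw [mul_assoc, ← hzd', ← mul_assoc]
          _ = d * v * z := by rw [hpd, mul_assoc])
      rw [hfixF v hv h1, one_mul]
  · intro g p hg hp hgp
    obtain ⟨v, hv, hpv⟩ := (hmem p).1 hp
    obtain ⟨w, hw, hgw⟩ := (hmem _).1 hgp
    have hsq : ∀ {k u : G}, u ∈ F → (k = u ∨ k = u * z) → k * k = u * u := fun {k u} hu hk => by
      rcases hk with rfl | rfl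
      · rfl
      · calc u * z * (u * z) = u * (z * u) * z := by group
          _ = u * u * (z * z) := by rw [← hFz u hu]; group
          _ = u * u := by rw [hz2, mul_one]
    by_cases hv1 : v * v = 1
    · have hv1' := RankOneInvol.eq_one_of_sq_of_odd (hodd v hv) hv1
      rcases hpv with h | h
      · exact h.trans hv1'
      · exfalso
        rw [hv1', one_mul] at h
        subst h
        have hw1 : w = 1 := RankOneInvol.eq_one_of_sq_of_odd (hodd w hw) (by
          rw [← hsq hw hgw]
          calc g * p * g⁻¹ * (g * p * g⁻¹) = g * (p * p) * g⁻¹ := by group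
            _ = 1 := by rw [hz2]; group)
        refine hg (Subgroup.mem_centralizer_singleton_iff.2 (mul_inv_eq_iff_eq_mul.1 ?_))
        rcases hgw with h | h
        · exact absurd (conj_eq_one_iff.1 (h.trans hw1)) hz1
        · rw [h, hw1, one_mul]
    · refine absurd (hc.kern_ti S hK hzS hz1 (mul_mem hv hv) hv1 ?_) hg
      rw [← hsq hv hpv, show g * (p * p) * g⁻¹ = g * p * g⁻¹ * (g * p * g⁻¹) by group, hsq hw hgw]
      exact mul_mem hw hw

/-- No Klein four Sylow 2-subgroup. -/
theorem no_klein : False := by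
  classical
  letI := Fintype.ofFinite G
  haveI := hc.simple
  haveI : Fact (Nat.Prime 2) := ⟨Nat.prime_two⟩
  obtain ⟨z, d, hzS, hz1, hsetup⟩ := hc.exists_setup S hK
  have hconcl := BSW.concl_of_setup hsetup
  obtain ⟨F, iF, iFt, hoddF, ⟨iso⟩⟩ := BSW.psl_of_concl hconcl
  obtain ⟨Q, D, hcard, hC, -, hqD, hinf, hNQ, hD⟩ := hconcl
  have h3π : 3 ∈ π := hc.three_mem S hK
  have hf5 : 5 ≤ kIdx (S : Subgroup G) z := by
    obtain ⟨r, hr, hrd⟩ := hc.exists_prime_dvd_kIdx S hK hzS hz1
    obtain ⟨h2, h3, -⟩ := hc.kIdx_prime S hK hr hzS hz1 hrd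
    have hr5 : 5 ≤ r := by
      have := hr.two_le
      rcases Nat.lt_or_ge r 5 with h | h
      · interval_cases r <;> simp_all (config := { decide := true })
      · exact h
    exact hr5.trans (Nat.le_of_dvd (hc.kIdx_pos S hK hzS) hrd)
  have hGbig : 20 ≤ Nat.card G := by
    rw [hc.card_eq_prod S hK hzS hz1]
    have h1 : 0 < Nat.card ↥(oddElts (Subgroup.centralizer ((S : Subgroup G) : Set G))) := Nat.card_pos
    have h2 : 0 < (Subgroup.centralizer ({z} : Set G)).index :=
      Nat.pos_of_ne_zero Subgroup.index_ne_zero_of_finite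
    calc 20 = 4 * (1 * 5) * 1 := rfl
      _ ≤ _ := Nat.mul_le_mul (Nat.mul_le_mul_left 4 (Nat.mul_le_mul h1 hf5)) h2
  -- the field has characteristic different from three
  have hcardF : Fintype.card F = Nat.card ↥Q := by
    have h1 := ClassicalGroups.card_psl_two_gcd (K := F)
    rw [show Nat.gcd 2 (Fintype.card F - 1) = 2 from Nat.gcd_eq_left
      (by obtain ⟨j, hj⟩ := hoddF; omega), ← Nat.card_congr iso.toEquiv, hcard, mul_assoc,
      show (Nat.card ↥Q + 1) * (Nat.card ↥Q - 1) = Nat.card ↥Q ^ 2 - 1 by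
        rw [← one_pow 2, Nat.sq_sub_sq]; rfl] at h1
    have key : ∀ p q : ℕ, 2 ≤ p → p < q → p * (p ^ 2 - 1) < q * (q ^ 2 - 1) := fun p q hp hpq =>
      Nat.mul_lt_mul_of_lt_of_le hpq (Nat.sub_le_sub_right (Nat.pow_le_pow_left hpq.le 2) 1)
        (by have := Nat.pow_le_pow_left (hp.trans hpq.le) 2; omega)
    have hF2 := Fintype.one_lt_card (α := F)
    have hQ2 : 2 ≤ Nat.card ↥Q := by
      by_contra hlt
      have hz : Nat.card ↥Q * (Nat.card ↥Q + 1) * (Nat.card ↥Q - 1) = 0 := by
        rw [show Nat.card ↥Q - 1 = 0 by omega, mul_zero]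
      omega
    rcases lt_trichotomy (Fintype.card F) (Nat.card ↥Q) with h | h | h
    · exact absurd (key _ _ hF2 h) (by omega)
    · exact h
    · exact absurd (key _ _ hQ2 h) (by omega)
  have h3F : (3 : F) ≠ 0 := by
    intro h
    haveI := ringChar.charP F
    obtain ⟨n, hp, hn⟩ := FiniteField.card F (ringChar F)
    have h3' : ringChar F ∣ 3 := (CharP.cast_eq_zero_iff F (ringChar F) 3).1 (by exact_mod_cast h)
    rw [(Nat.prime_dvd_prime_iff_eq hp Nat.prime_three).1 h3', hcardF] at hn
    have hQπ : PiNum π (Nat.card ↥Q) := fun p hp' hd => by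
      rw [hn] at hd
      rwa [(Nat.prime_dvd_prime_iff_eq hp' Nat.prime_three).1 (hp'.dvd_of_dvd_pow hd)]
    have hQ3 : 3 ≤ Nat.card ↥Q := by
      rw [hn]; calc 3 = 3 ^ 1 := rfl
        _ ≤ _ := Nat.pow_le_pow_right (by norm_num) n.pos
    have hQne : Q ≠ ⊥ := fun h0 => by rw [h0, Subgroup.card_bot] at hQ3; omega
    have hCQ : Subgroup.centralizer (Q : Set G) = Q := by
      obtain ⟨x, hx, hx1⟩ := (Subgroup.bot_or_exists_ne_one Q).resolve_left hQne
      refine le_antisymm ((Subgroup.centralizer_le (Set.singleton_subset_iff.2 hx)).trans (hC x hx hx1).le)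
        fun a ha => Subgroup.mem_centralizer_iff.2 fun b hb => ?_
      by_cases hb1 : b = 1
      · rw [hb1, mul_one, one_mul]
      · rw [← hC b hb hb1] at ha
        exact (Subgroup.mem_centralizer_singleton_iff.1 ha).symm
    have hDπ : PiNum π (Nat.card ↥D) := by
      refine (hc.homog Q hQne hQπ).dvd ?_
      rw [hCQ]
      have h1 : Q.relIndex D = Nat.card ↥D := by
        rw [← Subgroup.inf_relIndex_right, hinf, Subgroup.relIndex_bot_left]
      rw [← h1]
      exact relIndex_dvd_of_le_normalizer (by rw [hNQ]; exact le_sup_right) le_rfl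
    have hDne : D ≠ ⊥ := fun h0 => by
      rw [h0, Subgroup.card_bot] at hqD
      rw [← hqD] at hcard
      omega
    obtain ⟨-, u, hu, huD, huinv, -⟩ := hD D le_rfl hDne
    have hui : u⁻¹ = u := inv_eq_of_mul_eq_one_right (orderOf_eq_two_iff_mul.1 hu).2
    have hDsq : ∀ a ∈ D, a * a = 1 := fun a ha => by
      obtain ⟨k, m, hm, hkm⟩ := Nat.exists_eq_two_pow_mul_odd (orderOf_pos a).ne'
      have ham : a ^ m ∈ D := pow_mem ha m
      have h2p : ∀ t : G, t ^ 2 ^ k = 1 → t * t = 1 := fun t ht => by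
        obtain ⟨j, -, hj⟩ := (Nat.dvd_prime_pow Nat.prime_two).1 (orderOf_dvd_of_pow_eq_one ht)
        obtain ⟨g, hg⟩ := exists_le_conjBy (T := Subgroup.zpowers t)
          (IsPGroup.of_card (n := j) (by rw [Nat.card_zpowers, hj])) S
        obtain ⟨s, hs, rfl⟩ := mem_conjBy.1 (hg (Subgroup.mem_zpowers t))
        calc g * s * g⁻¹ * (g * s * g⁻¹) = g * (s * s) * g⁻¹ := by group
          _ = 1 := by rw [sq_eq_one S hK hs]; group
      have h1 : (a ^ m) * (a ^ m) = 1 :=
        h2p _ (by rw [← pow_mul, mul_comm, ← hkm, pow_orderOf_eq_one])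
      have hord : orderOf (a * a) ∣ m := orderOf_dvd_of_pow_eq_one (by
        rw [(Commute.refl a).mul_pow, h1])
      refine hc.eq_one_of_inverted hu ?_ (hm.of_dvd_nat hord) (huinv _ (mul_mem ha ha))
      have := orderOf_dvd_natCard (⟨a * a, mul_mem ha ha⟩ : ↥D)
      rw [Subgroup.orderOf_mk] at this
      exact hDπ.dvd this
    have hucomm : ∀ a ∈ D, a * u = u * a := fun a ha => by
      have h1 := huinv a ha
      rw [inv_eq_of_mul_eq_one_right (hDsq a ha), mul_inv_eq_iff_eq_mul] at h1
      exact h1.symm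
    have hDn : Subgroup.zpowers u ≤ Subgroup.normalizer (D : Set G) := Subgroup.zpowers_le.2
      (mem_normalizer_of_conjBy_le (conjBy_le.2 fun a ha => by rw [huinv a ha]; exact inv_mem ha))
    have hW : ∀ t ∈ D ⊔ Subgroup.zpowers u, t * t = 1 := fun t ht => by
      rw [← SetLike.mem_coe, Subgroup.coe_mul_of_right_le_normalizer_left D _ hDn] at ht
      obtain ⟨a, ha, r, hr, rfl⟩ := ht
      have hu2 := (orderOf_eq_two_iff_mul.1 hu).2
      have hr' : r = 1 ∨ r = u := by
        obtain ⟨i, rfl⟩ := hr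
        rcases Int.even_or_odd i with ⟨j, rfl⟩ | ⟨j, rfl⟩
        · left; simp [← two_mul, zpow_mul, zpow_two, pow_two, hu2]
        · right; simp [zpow_add, zpow_mul, zpow_two, pow_two, hu2]
      rcases hr' with rfl | rfl
      · simpa using hDsq a ha
      · calc a * r * (a * r) = a * (r * a) * r := by group
          _ = a * a * (r * r) := by rw [← hucomm a ha]; group
          _ = 1 := by rw [hDsq a ha, hu2, one_mul]
    have hWcard : Nat.card ↥(D ⊔ Subgroup.zpowers u : Subgroup G) ≤ 4 := by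
      obtain ⟨g, hg⟩ := exists_le_conjBy (T := D ⊔ Subgroup.zpowers u)
        (fun t => ⟨1, Subtype.ext (by rw [pow_one, Subgroup.coe_pow, pow_two]; exact hW t t.2)⟩) S
      refine (Subgroup.card_le_of_le hg).trans ?_
      rw [card_conjBy, hK.card_four]
    have hlt : Nat.card ↥D < Nat.card ↥(D ⊔ Subgroup.zpowers u : Subgroup G) := by
      refine lt_of_le_of_ne (Subgroup.card_le_of_le le_sup_left) fun h => huD ?_
      rw [Subgroup.eq_of_le_of_card_ge le_sup_left h.ge]
      exact Subgroup.mem_sup_right (Subgroup.mem_zpowers u)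
    have hD3 : Nat.card ↥D ≤ 3 := by omega
    have h3Q : 3 ∣ Nat.card ↥Q := hn ▸ dvd_pow_self 3 n.ne_zero
    have h1 : Nat.card ↥D = 1 := by
      have := Nat.card_pos (α := ↥D)
      interval_cases h : Nat.card ↥D <;> omega
    exact hDne (Subgroup.card_eq_one.1 h1)
  -- an element of order three
  have h3G : 3 ∣ Nat.card G := by
    refine (Nat.Coprime.dvd_of_dvd_mul_left (by norm_num : Nat.Coprime 3 2)) ?_
    rw [hcard]
    generalize Nat.card ↥Q = q
    rcases (show q % 3 = 0 ∨ q % 3 = 1 ∨ q % 3 = 2 by omega) with h | h | h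
    · exact ((Nat.dvd_of_mod_eq_zero h).mul_right _).mul_right _
    · exact (Nat.dvd_of_mod_eq_zero (by omega : (q - 1) % 3 = 0)).mul_left _
    · exact ((Nat.dvd_of_mod_eq_zero (by omega : (q + 1) % 3 = 0)).mul_left _).mul_right _
  haveI : Fact (Nat.Prime 3) := ⟨Nat.prime_three⟩
  obtain ⟨y, hy⟩ := exists_prime_orderOf_dvd_card' 3 h3G
  obtain ⟨M, hM⟩ := QuotientGroup.mk_surjective (iso y)
  have hMc : M ∉ Subgroup.center (Matrix.SpecialLinearGroup (Fin 2) F) := fun h => by
    rw [(QuotientGroup.eq_one_iff M).2 h, eq_comm, map_eq_one_iff iso iso.injective] at hM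
    rw [hM, orderOf_one] at hy
    omega
  have hM3 : M * M * M ∈ Subgroup.center (Matrix.SpecialLinearGroup (Fin 2) F) := by
    rw [← QuotientGroup.eq_one_iff, QuotientGroup.mk_mul, QuotientGroup.mk_mul, hM, ← map_mul, ← map_mul,
      show y * y * y = y ^ 3 by rw [pow_succ, pow_two], ← hy, pow_orderOf_eq_one, map_one]
  obtain ⟨v, hv, hv2, hvM⟩ := exists_inverting hoddF h3F hMc hM3
  obtain ⟨w, hw⟩ := iso.surjective (QuotientGroup.mk v)
  rw [← QuotientGroup.eq_one_iff, QuotientGroup.mk_mul, ← hw, ← map_mul,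
    map_eq_one_iff iso iso.injective] at hv2
  rw [← QuotientGroup.eq_one_iff, QuotientGroup.mk_mul, QuotientGroup.mk_mul, hM, ← hw, ← map_mul,
    ← map_mul, map_eq_one_iff iso iso.injective] at hvM
  have hw1 : w ≠ 1 := fun h => hv ((QuotientGroup.eq_one_iff v).1 (by rw [← hw, h, map_one]))
  refine hy ▸ (show orderOf y ≠ 3 from fun _ => ?_) |> fun h => h rfl
  have hy1 : y = 1 := by
    refine hc.eq_one_of_inverted (orderOf_eq_two_iff_mul.2 ⟨hw1, hv2⟩) ?_ (by rw [hy]; decide) ?_
    · intro p hp hd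
      rw [hy] at hd
      rwa [(Nat.prime_dvd_prime_iff_eq hp Nat.prime_three).1 hd]
    · rw [inv_eq_of_mul_eq_one_right hv2]
      exact eq_inv_of_mul_eq_one_left (by rw [← hvM]; group)
  rw [hy1, orderOf_one] at hy
  omega

end Crit

end CfsgLib.PiHom
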