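import Cfsg.Agent.Lib.PiHom.KleinDegrees
import Cfsg.Agent.Lib.BlockCover.Regular

/-!
# Klein four case: some prime of the index is `Iota`

Otherwise the square of `|O(C(z)) : O(C(S))|` divides the number of involutions, and Brauer's
order formula leaves only the degrees `5, 3, 3`; a character of degree three is impossible.
-/

set_option autoImplicit false
set_option linter.style.haveILetI false
set_option linter.unusedSectionVars false

namespace CfsgLib.PiHom

open Cfsg CfsgLib.Characters CfsgLib.Involutions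
open scoped ComplexConjugate

universe u

variable {π : Set ℕ} {G : Type u} [Group G] [Finite G]

/-- the index of the odd part of `C(S)` in the odd part of `C(c)` -/
noncomputable def kIdx {G : Type u} [Group G] (S : Subgroup G) (c : G) : ℕ :=
  (oddElts (Subgroup.centralizer (S : Set G))).relIndex
    (oddElts (Subgroup.centralizer ({c} : Set G)))

namespace Crit

variable (hc : Crit π G) (S : Sylow 2 G) (hK : IsKleinFour ↥(S : Subgroup G))
include hc hK

local notation "Oc[" c "]" => oddElts (Subgroup.centralizer ({c} : Set G))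
local notation "Ec" => oddElts (Subgroup.centralizer ((S : Subgroup G) : Set G))

theorem card_mul_kIdx {c : G} (hcS : c ∈ (S : Subgroup G)) :
    Nat.card ↥Ec * kIdx (S : Subgroup G) c = Nat.card ↥Oc[c] := by
  have h := Subgroup.relIndex_mul_relIndex ⊥ Ec Oc[c] bot_le (hc.oddElts_sylow_le S hK hcS)
  rwa [Subgroup.relIndex_bot_left, Subgroup.relIndex_bot_left] at h

theorem kIdx_eq {c d : G} (hcS : c ∈ (S : Subgroup G)) (hdS : d ∈ (S : Subgroup G)) (hc1 : c ≠ 1)
    (hd1 : d ≠ 1) : kIdx (S : Subgroup G) d = kIdx (S : Subgroup G) c := by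
  refine mul_left_cancel₀ (Nat.card_pos (α := ↥Ec)).ne' ?_
  rw [hc.card_mul_kIdx S hK hcS, hc.card_mul_kIdx S hK hdS, hc.card_oddElts_eq S hK hcS hdS hc1 hd1]

theorem kIdx_pos {c : G} (hcS : c ∈ (S : Subgroup G)) : 0 < kIdx (S : Subgroup G) c := by
  refine Nat.pos_of_ne_zero fun h => ?_
  have h1 := hc.card_mul_kIdx S hK hcS
  rw [h, mul_zero] at h1
  exact Nat.card_pos.ne' h1.symm

theorem kIdx_odd {c : G} (hcS : c ∈ (S : Subgroup G)) (hc1 : c ≠ 1) :
    Odd (kIdx (S : Subgroup G) c) :=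
  (odd_oddElts_centralizer S hK hcS hc1).of_dvd_nat ⟨_, by rw [← hc.card_mul_kIdx S hK hcS, mul_comm]⟩

theorem exists_prime_dvd_kIdx {c : G} (hcS : c ∈ (S : Subgroup G)) (hc1 : c ≠ 1) :
    ∃ r, r.Prime ∧ r ∣ kIdx (S : Subgroup G) c := by
  refine Nat.exists_prime_and_dvd fun h => ?_
  obtain ⟨a, haS, ha1, hnle⟩ := hc.exists_oddElts_not_le S hK
  have h1 := hc.card_mul_kIdx S hK haS
  rw [hc.kIdx_eq S hK hcS haS hc1 ha1, h, mul_one] at h1
  refine hnle ?_
  rw [← Subgroup.eq_of_le_of_card_ge (hc.oddElts_sylow_le S hK haS) h1.ge]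
  exact oddElts_le _

theorem mem_oddElts_sylow {X : Subgroup G} (hX : Odd (Nat.card ↥X))
    (h : X ≤ Subgroup.centralizer ((S : Subgroup G) : Set G)) : X ≤ Ec :=
  fun _ hw => mem_oddElts_of (h hw) (RankOneInvol.odd_orderOf_of_mem hX hw)

theorem exists_inverted_of_not_le {X : Subgroup G} (hX : Odd (Nat.card ↥X))
    (hSX : (S : Subgroup G) ≤ Subgroup.normalizer (X : Set G)) {c d : G}
    (hcS : c ∈ (S : Subgroup G)) (hdS : d ∈ (S : Subgroup G)) (hc1 : c ≠ 1) (hd1 : d ≠ 1)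
    (hcd : c ≠ d) (hXc : X ≤ Subgroup.centralizer ({c} : Set G))
    (h : ¬ X ≤ Subgroup.centralizer ((S : Subgroup G) : Set G)) :
    ∃ w ∈ X, d * w * d = w⁻¹ ∧ w ≠ 1 := by
  by_contra hcon
  push Not at hcon
  refine h fun w hw => hc.mem_centralizer_sylow_of_pair S hK hcS hdS hc1 hd1 hcd
    (Subgroup.mem_centralizer_singleton_iff.1 (hXc hw))
    (commute_of_no_inverted hX (sq_eq_one S hK hdS)
      (fun v hv => conj_mem_of_le_normalizer hSX hdS (sq_eq_one S hK hdS) hv) hcon hw)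

/-- An invariant Sylow subgroup of an odd core is not centralised by `S`. -/
theorem hall_not_le {r : ℕ} (hr : r.Prime) {c : G} (hcS : c ∈ (S : Subgroup G)) {P : Subgroup G}
    (hP : Cfsg.IsPiHallOf {r} P Oc[c]) (hPodd : Odd (Nat.card ↥P))
    (hrf : r ∣ kIdx (S : Subgroup G) c) :
    ¬ P ≤ Subgroup.centralizer ((S : Subgroup G) : Set G) := fun h => by
  have h1 : Nat.card ↥P * r ∣ Nat.card ↥P :=
    PiNum.dvd_of_hall hP (PiNum.mul hP.2.1 fun p hp hpd => (Nat.prime_dvd_prime_iff_eq hp hr).1 hpd) (by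
      rw [← hc.card_mul_kIdx S hK hcS]
      exact Nat.mul_dvd_mul (Subgroup.card_dvd_of_le (hc.mem_oddElts_sylow S hK hPodd h)) hrf)
  have h2 := Nat.le_of_dvd Nat.card_pos h1
  have := Nat.card_pos (α := ↥P)
  have := hr.two_le
  nlinarith

theorem kIdx_prime {r : ℕ} (hr : r.Prime) {c : G} (hcS : c ∈ (S : Subgroup G)) (hc1 : c ≠ 1)
    (hrf : r ∣ kIdx (S : Subgroup G) c) :
    r ≠ 2 ∧ r ≠ 3 ∧ r ∉ π ∧
      ∀ d ∈ (S : Subgroup G), d ≠ 1 → r ∣ Nat.card ↥Oc[d] := by
  obtain ⟨P, hP, hPi⟩ := hc.exists_hall_centralizer S hK hcS hc1 {r}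
  obtain ⟨d, hdS, hd1, hcd⟩ := hc.exists_other S hK (c := c)
  obtain ⟨w, hw, hwi, hw1⟩ := hc.exists_inverted_of_not_le S hK hPi.2.1 hPi.1 hcS hdS hc1 hd1 hcd
    (hP.1.trans (oddElts_le _)) (hc.hall_not_le S hK hr hcS hP hPi.2.1 hrf)
  have hodd := RankOneInvol.odd_orderOf_of_mem hPi.2.1 hw
  obtain ⟨p, hp, hpd⟩ := Nat.exists_prime_and_dvd (fun h => hw1 (orderOf_eq_one_iff.1 h))
  have hdvd : orderOf w ∣ Nat.card ↥P := by
    have := orderOf_dvd_natCard (⟨w, hw⟩ : ↥P)
    rwa [Subgroup.orderOf_mk] at this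
  obtain rfl : p = r := hP.2.1 p hp (hpd.trans hdvd)
  have hπ := hc.not_mem_of_inverted S hK hdS hd1 hodd hwi hp hpd
  refine ⟨fun h => hπ (h ▸ hc.two_mem), fun h => hπ (h ▸ hc.three_mem S hK), hπ, fun e he he1 => ?_⟩
  rw [← hc.card_mul_kIdx S hK he, hc.kIdx_eq S hK hcS he hc1 he1]
  exact hrf.mul_left _

theorem one_class {s t : G} (hs : orderOf s = 2) (ht : orderOf t = 2) : IsConj s t := by
  haveI : Fact (Nat.Prime 2) := ⟨Nat.prime_two⟩
  have key : ∀ s : G, orderOf s = 2 → ∃ e ∈ (S : Subgroup G), e ≠ 1 ∧ IsConj s e := fun s hs => by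
    obtain ⟨g, hg⟩ := exists_le_conjBy (T := Subgroup.zpowers s)
      (IsPGroup.of_card (n := 1) (by rw [Nat.card_zpowers, hs, pow_one])) S
    obtain ⟨e, he, hes⟩ := mem_conjBy.1 (hg (Subgroup.mem_zpowers s))
    exact ⟨e, he, fun h => by rw [h, mul_one, mul_inv_cancel] at hes; rw [← hes, orderOf_one] at hs; omega,
      (isConj_iff.2 ⟨g, hes⟩).symm⟩
  obtain ⟨c, hcS, hc1, h1⟩ := key s hs
  obtain ⟨d, hdS, hd1, h2⟩ := key t ht
  by_cases hcd : c = d
  · exact h1.trans (hcd ▸ h2.symm)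
  obtain ⟨n, -, hn, -, -⟩ := hc.exists_shift S hK hcS hdS hc1 hd1 hcd
  exact h1.trans ((isConj_iff.2 ⟨n, hn⟩).trans h2.symm)

theorem card_centralizer_sylow :
    Nat.card ↥(Subgroup.centralizer ((S : Subgroup G) : Set G)) = 4 * Nat.card ↥Ec := by
  have hn : (S : Subgroup G) ≤ Subgroup.normalizer (Ec : Set G) :=
    fun s hs => mem_normalizer_of_conjBy_le (conjBy_le.2 fun w hw =>
      conj_mem_oddElts (Subgroup.le_normalizer (sylow_le_centralizer_self S hK hs)) hw)
  have hco : Nat.Coprime (Nat.card ↥Ec) (Nat.card ↥(S : Subgroup G)) := by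
    rw [hK.card_four, show 4 = 2 ^ 2 from rfl]
    exact Nat.Coprime.pow_right 2 (Nat.coprime_two_right.2 (hc.odd_oddElts_centralizer_sylow S hK))
  have heq : Ec ⊔ (S : Subgroup G) = Subgroup.centralizer ((S : Subgroup G) : Set G) := by
    refine le_antisymm (sup_le (oddElts_le _) (sylow_le_centralizer_self S hK)) fun g hg => ?_
    obtain ⟨e, he, s, hs, rfl⟩ := fixer_decomp S hK
      (n := g) ⟨Subgroup.centralizer_le_normalizer _ hg, by rwa [zInv_eq S hK]⟩
    exact mul_mem (le_sup_left (b := (S : Subgroup G)) he) (le_sup_right (a := Ec) hs)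
  have hceq : Nat.card ↥(Subgroup.centralizer ((S : Subgroup G) : Set G)) =
      Nat.card ↥(Ec ⊔ (S : Subgroup G) : Subgroup G) := by rw [heq]
  rw [hceq]
  refine Nat.dvd_antisymm ?_ ?_
  · have := Structure.card_sup_dvd_mul hn
    rwa [hK.card_four, mul_comm] at this
  · rw [← hK.card_four, mul_comm]
    exact hco.mul_dvd_of_dvd_of_dvd (Subgroup.card_dvd_of_le le_sup_left)
      (Subgroup.card_dvd_of_le le_sup_right)

theorem card_eq_prod {z : G} (hzS : z ∈ (S : Subgroup G)) (hz1 : z ≠ 1) :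
    Nat.card G = 4 * (Nat.card ↥Ec * kIdx (S : Subgroup G) z) *
      (Subgroup.centralizer ({z} : Set G)).index := by
  rw [hc.card_mul_kIdx S hK hzS, four_mul_card_oddElts S hK hzS hz1, Subgroup.card_mul_index]

/-- A prime which is not `Iota` divides the number of involutions to twice its exponent. -/
theorem factorization_index_ge {z : G} (hzS : z ∈ (S : Subgroup G)) (hz1 : z ≠ 1) {r : ℕ}
    [hr : Fact r.Prime] (hrf : r ∣ kIdx (S : Subgroup G) z) (hnι : ¬ Iota (S : Subgroup G) r) :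
    2 * (kIdx (S : Subgroup G) z).factorization r ≤
      (Subgroup.centralizer ({z} : Set G)).index.factorization r := by
  obtain ⟨hr2, -, -, hdO⟩ := hc.kIdx_prime S hK hr.out hzS hz1 hrf
  obtain ⟨R, hR, hfull⟩ := hc.exists_special S hK hdO hnι
  obtain ⟨d, hdS, hd1, hzd⟩ := hc.exists_other S hK (c := z)
  have hR0 : IsPGroup r ↥R := isPGroup_of_piNum hr.out hR.1.2.2
  have key : ∀ e ∈ (S : Subgroup G), e ≠ 1 →
      (Nat.card ↥(R ⊓ Subgroup.centralizer ({e} : Set G) : Subgroup G)).factorization r =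
        (Nat.card ↥Ec).factorization r + (kIdx (S : Subgroup G) z).factorization r := by
    intro e he he1
    obtain ⟨P, hP, hPi⟩ := hc.exists_hall_centralizer S hK he he1 {r}
    have hRe := hc.inv_inf S hK hR.1 he
    have hcard : Nat.card ↥(R ⊓ Subgroup.centralizer ({e} : Set G) : Subgroup G) = Nat.card ↥P :=
      Nat.dvd_antisymm (hRe.2.2.dvd_of_hall hP
          (Subgroup.card_dvd_of_le (hc.le_oddElts_of_le S hK hRe.2.1 inf_le_right)))
        (hfull e he he1 P hPi (hP.1.trans (oddElts_le _)))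
    have h1 := Subgroup.relIndex_mul_relIndex ⊥ P Oc[e] bot_le hP.1
    rw [Subgroup.relIndex_bot_left, Subgroup.relIndex_bot_left] at h1
    have h2 : (Nat.card ↥Oc[e]).factorization r = (Nat.card ↥P).factorization r := by
      rw [← h1, Nat.factorization_mul Nat.card_pos.ne' (fun h0 => by
        rw [h0, mul_zero] at h1; exact Nat.card_pos.ne' h1.symm), Finsupp.add_apply,
        Nat.factorization_eq_zero_of_not_dvd (hP.2.2 r hr.out rfl), add_zero]
    rw [hcard, ← h2, ← hc.card_mul_kIdx S hK he, hc.kIdx_eq S hK hzS he hz1 he1,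
      Nat.factorization_mul Nat.card_pos.ne' (hc.kIdx_pos S hK hzS).ne', Finsupp.add_apply]
  have hform := LivWag.klein_card_formula hR.1.2.1 (sq_eq_one S hK hzS) (sq_eq_one S hK hdS)
    (comm_of_mem S hK hdS hzS)
    (fun w hw => conj_mem_of_le_normalizer hR.1.1 hzS (sq_eq_one S hK hzS) hw)
    (fun w hw => conj_mem_of_le_normalizer hR.1.1 hdS (sq_eq_one S hK hdS) hw)
  set T := (R ⊓ Subgroup.centralizer ({d} : Set G) ⊓ Subgroup.centralizer ({z} : Set G) : Subgroup G)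
  have hT : Nat.card ↥T ∣ Nat.card ↥Ec := Subgroup.card_dvd_of_le
    (hc.mem_oddElts_sylow S hK (hR.1.2.1.of_dvd_nat (Subgroup.card_dvd_of_le (inf_le_left.trans inf_le_left)))
      fun w hw => hc.mem_centralizer_sylow_of_pair S hK hdS hzS hd1 hz1 hzd.symm
        (Subgroup.mem_centralizer_singleton_iff.1 hw.1.2) (Subgroup.mem_centralizer_singleton_iff.1 hw.2))
  have h3 := congrArg (fun n : ℕ => n.factorization r) hform
  rw [Nat.factorization_mul Nat.card_pos.ne' (pow_ne_zero 2 Nat.card_pos.ne'),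
    Nat.factorization_mul (mul_ne_zero Nat.card_pos.ne' Nat.card_pos.ne') Nat.card_pos.ne',
    Nat.factorization_mul Nat.card_pos.ne' Nat.card_pos.ne', Nat.factorization_pow] at h3
  simp only [Finsupp.add_apply, Finsupp.smul_apply, smul_eq_mul] at h3
  rw [key z hzS hz1, key d hdS hd1,
    key _ (mul_mem hzS hdS) (hc.mul_ne_one_of_ne S hK hzS hzd)] at h3
  have h4 : (Nat.card ↥T).factorization r ≤ (Nat.card ↥Ec).factorization r :=
    (Nat.factorization_le_iff_dvd Nat.card_pos.ne' Nat.card_pos.ne').2 hT r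
  have h5 : (Nat.card ↥R).factorization r ≤ (Nat.card G).factorization r :=
    (Nat.factorization_le_iff_dvd Nat.card_pos.ne' Nat.card_pos.ne').2
      (Subgroup.card_subgroup_dvd_card R) r
  rw [hc.card_eq_prod S hK hzS hz1,
    Nat.factorization_mul (mul_ne_zero (by norm_num)
      (mul_ne_zero Nat.card_pos.ne' (hc.kIdx_pos S hK hzS).ne')) Subgroup.index_ne_zero_of_finite,
    Nat.factorization_mul (by norm_num) (mul_ne_zero Nat.card_pos.ne' (hc.kIdx_pos S hK hzS).ne'),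
    Nat.factorization_mul Nat.card_pos.ne' (hc.kIdx_pos S hK hzS).ne'] at h5
  simp only [Finsupp.add_apply] at h5
  have h6 : (4 : ℕ).factorization r = 0 :=
    Nat.factorization_eq_zero_of_not_dvd fun h => hr2 ((Nat.prime_dvd_prime_iff_eq hr.out Nat.prime_two).1
      (hr.out.dvd_of_dvd_pow (show r ∣ 2 ^ 2 from h)))
  omega

/-- No character of degree three. -/
theorem no_degree_three [Fintype G] {r : ℕ} [hr : Fact r.Prime] (hr5 : 5 ≤ r) {R : Subgroup G}
    (hR : Inv (S : Subgroup G) {r} R) (χ : IrrCharacter G) (h3 : charDegree (χ : G → ℂ) = 3)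
    (hne : ∀ c ∈ (S : Subgroup G), c ≠ 1 → ∃ w ∈ R, w * c ≠ c * w) : False := by
  classical
  haveI := hc.simple
  letI := Fintype.ofFinite ↥R
  have hker : Chars17.irrKer χ = ⊥ := by
    refine (inferInstance : (Chars17.irrKer χ).Normal).eq_bot_or_eq_top.resolve_right fun h => ?_
    rw [Chars17.irrKer_eq_top_iff] at h
    have h1 := Chars17.cast_irrDegree χ
    rw [h3, h] at h1
    norm_num at h1
  obtain ⟨m, hm, hmi, hmd⟩ := Chars17.exists_decomp (Chars17.isCharacter_res R (irr_isCharacter χ))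
  rw [Chars17.charDegree_res, h3] at hmd
  set T := {ψ : IrrCharacter ↥R // m ψ ≠ 0}
  have hlin : ∀ ψ : T, charDegree (ψ.1 : ↥R → ℂ) = 1 := fun ψ => by
    obtain ⟨k, hk⟩ := IsPGroup.iff_card.1 (isPGroup_of_piNum hr.out hR.2.2)
    obtain ⟨j, -, hj⟩ := (Nat.dvd_prime_pow hr.out).1 (hk ▸ Chars17.irrDegree_dvd_card ψ.1)
    rcases j with _ | j
    · simpa using hj
    have h1 : m ψ.1 * charDegree (ψ.1 : ↥R → ℂ) ≤ 3 := by
      rw [hmd]
      exact Finset.single_le_sum (f := fun ψ => m ψ * charDegree (ψ : ↥R → ℂ))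
        (fun _ _ => Nat.zero_le _) (Finset.mem_univ _)
    have h2 : r ≤ charDegree (ψ.1 : ↥R → ℂ) := by
      rw [hj]; exact Nat.le_self_pow (Nat.succ_ne_zero j) r
    have h4 : 1 ≤ m ψ.1 := Nat.pos_of_ne_zero ψ.2
    nlinarith
  have hT3 : Nat.card T ≤ 3 := by
    rw [hmd, Nat.card_eq_fintype_card, ← Finset.card_univ, Finset.card_eq_sum_ones]
    refine le_trans (Finset.sum_le_sum fun ψ _ => ?_) ((Finset.sum_map _ (Function.Embedding.subtype _)
      (fun ψ => m ψ * charDegree (ψ : ↥R → ℂ))).ge.trans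
      (Finset.sum_le_sum_of_subset (Finset.subset_univ _)))
    simp only [Function.Embedding.coe_subtype, hlin ψ, mul_one]
    exact Nat.pos_of_ne_zero ψ.2
  let e : ↥(S : Subgroup G) → MulAut ↥R := fun s =>
    R.normalizerMonoidHom ⟨s, hR.1 s.2⟩
  have he : ∀ (s : ↥(S : Subgroup G)) (w : ↥R), ((e s w : ↥R) : G) = (s : G) * w * (s : G)⁻¹ :=
    fun s w => rfl
  have hmτ : ∀ (s : ↥(S : Subgroup G)) (ψ : IrrCharacter ↥R),
      m ⟨fun w => (ψ : ↥R → ℂ) (e s w), CharCorr.isIrrCharacter_comp_equiv ψ.2 (e s)⟩ = m ψ := by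
    intro s ψ
    have h1 := hmi ⟨fun w => (ψ : ↥R → ℂ) (e s w), CharCorr.isIrrCharacter_comp_equiv ψ.2 (e s)⟩
    have h2 : classInner (fun w : ↥R => (χ : G → ℂ) w) (fun w => (ψ : ↥R → ℂ) (e s w)) =
        classInner (fun w : ↥R => (χ : G → ℂ) w) (ψ : ↥R → ℂ) := by
      rw [classInner, classInner]
      congr 1
      refine Fintype.sum_equiv (e s).toEquiv _ _ fun w => ?_
      simp only [MulEquiv.toEquiv_eq_coe, EquivLike.coe_coe, he, irr_isClassFunction χ (w : G) (s : G)]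
    rw [h2, hmi] at h1
    exact_mod_cast h1.symm
  let τ : ↥(S : Subgroup G) → T → T := fun s ψ =>
    ⟨⟨fun w => (ψ.1 : ↥R → ℂ) (e s w), CharCorr.isIrrCharacter_comp_equiv ψ.1.2 (e s)⟩,
      by rw [hmτ]; exact ψ.2⟩
  have hcomp : ∀ s t ψ, τ (s * t) ψ = τ s (τ t ψ) := fun s t ψ => by
    refine Subtype.ext (Subtype.ext (funext fun w => ?_))
    show (ψ.1 : ↥R → ℂ) (e (s * t) w) = (ψ.1 : ↥R → ℂ) (e t (e s w))
    refine congrArg (ψ.1 : ↥R → ℂ) (Subtype.ext ?_)
    rw [he, he, he, Subgroup.coe_mul, comm_of_mem S hK s.2 t.2]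
    group
  have h1τ : ∀ ψ, τ 1 ψ = ψ := fun ψ => by
    refine Subtype.ext (Subtype.ext (funext fun w => ?_))
    show (ψ.1 : ↥R → ℂ) (e 1 w) = (ψ.1 : ↥R → ℂ) w
    refine congrArg (ψ.1 : ↥R → ℂ) (Subtype.ext ?_)
    rw [he]; simp
  let φ : ↥(S : Subgroup G) →* Equiv.Perm T :=
    { toFun := fun s => ⟨τ s, τ s⁻¹, fun ψ => by rw [← hcomp, inv_mul_cancel, h1τ],
        fun ψ => by rw [← hcomp, mul_inv_cancel, h1τ]⟩
      map_one' := Equiv.ext h1τ
      map_mul' := fun s t => Equiv.ext (hcomp s t) }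
  have hninj : ¬ Function.Injective φ := fun hinj => by
    have h1 := Subgroup.card_dvd_of_injective φ hinj
    rw [hK.card_four, Nat.card_perm] at h1
    interval_cases h : Nat.card T <;> simp_all [Nat.factorial]
  obtain ⟨s, hs, hs1⟩ : ∃ s, φ s = 1 ∧ s ≠ 1 := by
    simp only [injective_iff_map_eq_one, not_forall] at hninj
    obtain ⟨s, hs, hs1⟩ := hninj
    exact ⟨s, hs, hs1⟩
  obtain ⟨w, hw, hnc⟩ := hne s s.2 fun h => hs1 (Subtype.ext h)
  set v : ↥R := e s ⟨w, hw⟩ * (⟨w, hw⟩ : ↥R)⁻¹ with hv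
  have hψv : ∀ ψ : T, (ψ.1 : ↥R → ℂ) v = 1 := fun ψ => by
    obtain ⟨f, hf⟩ := LinearTwist.exists_hom_of_charDegree_one (irr_isCharacter ψ.1) (hlin ψ)
    have hfix : τ s ψ = ψ := Equiv.ext_iff.1 hs ψ
    have h1 : (ψ.1 : ↥R → ℂ) (e s ⟨w, hw⟩) = (ψ.1 : ↥R → ℂ) ⟨w, hw⟩ :=
      congrFun (congrArg (fun x : T => (x.1 : ↥R → ℂ)) hfix) ⟨w, hw⟩
    rw [hf] at h1 ⊢
    simp only [Units.val_inj] at h1
    simp [hv, map_mul, map_inv, h1]
  have hval : (χ : G → ℂ) (v : G) = (χ : G → ℂ) 1 := by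
    have h1 := congrFun hm v
    have h2 := congrFun hm 1
    simp only [Finset.sum_apply, Pi.smul_apply, smul_eq_mul, Subgroup.coe_one] at h1 h2
    rw [h1, h2]
    refine Finset.sum_congr rfl fun ψ _ => ?_
    by_cases hψ : m ψ = 0
    · simp [hψ]
    · rw [hψv ⟨ψ, hψ⟩, ← Chars17.cast_irrDegree, hlin ⟨ψ, hψ⟩, Nat.cast_one]
  have hv1 : (v : G) = 1 := Subgroup.mem_bot.1 (hker ▸ Chars17.mem_irrKer.2 hval)
  rw [hv, Subgroup.coe_mul, Subgroup.coe_inv, he, mul_inv_eq_one, mul_inv_eq_iff_eq_mul] at hv1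
  exact hnc hv1.symm

theorem exists_iota {z : G} (hzS : z ∈ (S : Subgroup G)) (hz1 : z ≠ 1) :
    ∃ q, q.Prime ∧ q ∣ kIdx (S : Subgroup G) z ∧ Iota (S : Subgroup G) q := by
  classical
  haveI := hc.simple
  letI := Fintype.ofFinite G
  by_contra hcon
  push Not at hcon
  set f := kIdx (S : Subgroup G) z
  set C := Subgroup.centralizer ({z} : Set G)
  have hf0 := (hc.kIdx_pos S hK hzS).ne'
  obtain ⟨N, hN⟩ : f ^ 2 ∣ C.index := by
    rw [← Nat.factorization_le_iff_dvd (pow_ne_zero 2 hf0) Subgroup.index_ne_zero_of_finite]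
    intro r
    rw [Nat.factorization_pow, Finsupp.smul_apply, smul_eq_mul]
    by_cases hr : r.Prime
    · by_cases hrf : r ∣ f
      · haveI := Fact.mk hr
        exact hc.factorization_index_ge S hK hzS hz1 hrf (hcon r hr hrf)
      · rw [Nat.factorization_eq_zero_of_not_dvd hrf, mul_zero]; exact Nat.zero_le _
    · rw [Nat.factorization_eq_zero_of_not_prime _ hr, mul_zero]; exact Nat.zero_le _
  obtain ⟨M, hM⟩ := BlockCover.exists_isPModular Nat.prime_two
  have hone := fun s t hs ht => hc.one_class S hK (s := s) (t := t) hs ht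
  obtain ⟨B⟩ := exists_blockData S hK hM hone
  have hz2 : orderOf z = 2 := klein_orderOf S hK hzS hz1
  have hval : ∀ i, (B.χ i : G → ℂ) z = B.ε i := fun i => B.even i z (by rw [hz2])
  obtain ⟨ρ, hρ, heq⟩ := CfsgLib.KleinOrder.order_eq S hK hone hM hzS hz2 B.block
    ⟨B.ne_one 0, B.ne_one 1, B.ne_one 2, fun h => absurd (B.inj h) (by decide),
      fun h => absurd (B.inj h) (by decide), fun h => absurd (B.inj h) (by decide)⟩
    ⟨B.sign 0, B.sign 1, B.sign 2⟩ ⟨hval 0, hval 1, hval 2⟩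
  have hρf : ρ = f := by
    refine mul_right_cancel₀ (Nat.card_pos (α := ↥(Subgroup.centralizer ((S : Subgroup G) : Set G)))).ne' ?_
    rw [hρ, hc.card_centralizer_sylow S hK, ← four_mul_card_oddElts S hK hzS hz1,
      ← hc.card_mul_kIdx S hK hzS]
    ring
  subst hρf
  set e : Fin 3 → ℤ := fun i => B.ε i * (charDegree (B.χ i : G → ℂ) : ℤ) with he
  have hd0 : ∀ i, 0 < charDegree (B.χ i : G → ℂ) := fun i => Chars17.irrDegree_pos _
  have hmod : ∀ i, e i % 4 = 1 := by
    intro i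
    letI := Fintype.ofFinite ↥(S : Subgroup G)
    obtain ⟨k, hk⟩ := classInner_generalized_int
      (isGeneralizedCharacter_of_isCharacter (Chars17.isCharacter_res (S : Subgroup G) (irr_isCharacter (B.χ i))))
      (isGeneralizedCharacter_one (G := ↥(S : Subgroup G)))
    rw [classInner, hK.card_four] at hk
    simp only [Pi.one_apply, map_one, mul_one] at hk
    rw [← Finset.add_sum_erase _ _ (Finset.mem_univ (1 : ↥(S : Subgroup G)))] at hk
    rw [Finset.sum_congr rfl (g := fun _ => (B.ε i : ℂ)) (fun s hs => B.even i _ (by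
      rw [klein_orderOf S hK s.2 fun h => Finset.ne_of_mem_erase hs (Subtype.ext h)])),
      Finset.sum_const, Finset.card_erase_of_mem (Finset.mem_univ _), Finset.card_univ,
      ← Nat.card_eq_fintype_card, hK.card_four, Subgroup.coe_one, ← Chars17.cast_irrDegree] at hk
    have h4 : ((charDegree (B.χ i : G → ℂ) : ℤ) + 3 * B.ε i : ℂ) = ((4 * k : ℤ) : ℂ) := by
      push_cast at hk ⊢
      simp only [nsmul_eq_mul] at hk
      push_cast at hk
      linear_combination 4 * hk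
    have h5 : (charDegree (B.χ i : G → ℂ) : ℤ) + 3 * B.ε i = 4 * k := by exact_mod_cast h4
    rcases B.sign i with h | h <;> simp only [he, h] <;> rw [h] at h5 <;> omega
  have hne1 : ∀ i, e i ≠ 1 := by
    intro i h
    refine B.ne_one i ?_
    have h1 : charDegree (B.χ i : G → ℂ) = 1 := by
      rcases B.sign i with h' | h' <;> simp only [he, h'] at h <;> have := hd0 i <;> omega
    rw [linear_eq_principal hc.nonab _ h1]; rfl
  have hNodd : (N : ℤ) % 2 = 1 := by
    have h1 : Odd C.index := klein_involution_index_odd S hK hz2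
    rw [hN] at h1
    have := Nat.odd_iff.1 (Nat.odd_mul.1 h1).2
    omega
  have hcardC : (Nat.card ↥C : ℚ) * (f ^ 2 * N) = Nat.card G := by
    rw [← Subgroup.card_mul_index C, hN]; push_cast; ring
  have hq : (8 : ℚ) = N * (1 + 1 / (e 0 : ℚ) + 1 / (e 1 : ℚ) + 1 / (e 2 : ℚ)) := by
    have hinv : ∀ i, (B.ε i : ℚ) / charDegree (B.χ i : G → ℂ) = 1 / (e i : ℚ) := fun i => by
      rcases B.sign i with h | h <;> simp [he, h, div_eq_mul_inv, inv_neg]
    rw [hinv, hinv, hinv, ← hcardC] at heq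
    refine mul_left_cancel₀ (show ((f : ℚ) ^ 2 * Nat.card ↥C) ≠ 0 from mul_ne_zero
      (pow_ne_zero 2 (Nat.cast_ne_zero.2 hf0)) (Nat.cast_ne_zero.2 Nat.card_pos.ne')) ?_
    linear_combination heq
  have he0 : ∀ i, (e i : ℚ) ≠ 0 := fun i => by
    have := hmod i
    exact_mod_cast (by omega : e i ≠ 0)
  have hint : 8 * e 0 * e 1 * e 2 = N * (e 0 * e 1 * e 2 + e 1 * e 2 + e 0 * e 2 + e 0 * e 1) := by
    have := he0 0; have := he0 1; have := he0 2
    field_simp at hq
    have h' : ((8 * e 0 * e 1 * e 2 : ℤ) : ℚ) =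
        (((N : ℤ) * (e 0 * e 1 * e 2 + e 1 * e 2 + e 0 * e 2 + e 0 * e 1) : ℤ) : ℚ) := by
      push_cast; linear_combination hq
    exact_mod_cast h'
  have hdeg := B.deg
  rw [Fin.sum_univ_three] at hdeg
  obtain ⟨i, hi⟩ : ∃ i, e i = -3 := by
    rcases exists_neg_three (hmod 0) (hmod 1) (hmod 2) (hne1 0) (hne1 1) (hne1 2)
      (by simp only [he]; omega) hNodd hint with h | h | h
    exacts [⟨0, h⟩, ⟨1, h⟩, ⟨2, h⟩]
  have hdeg3 : charDegree (B.χ i : G → ℂ) = 3 := by
    rcases B.sign i with h | h <;> simp only [he, h] at hi <;> omega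
  obtain ⟨r, hr, hrf⟩ := hc.exists_prime_dvd_kIdx S hK hzS hz1
  haveI := Fact.mk hr
  obtain ⟨hr2, hr3, -, hdO⟩ := hc.kIdx_prime S hK hr hzS hz1 hrf
  have hr5 : 5 ≤ r := by
    have := hr.two_le
    by_contra hlt
    interval_cases r <;> simp_all (config := { decide := true })
  obtain ⟨R, hR, hfull⟩ := hc.exists_special S hK hdO (hcon r hr hrf)
  refine hc.no_degree_three S hK hr5 hR.1 (B.χ i) hdeg3 fun c hcS hc1 => ?_
  by_contra hcen
  push Not at hcen
  obtain ⟨d, hdS, hd1, hcd⟩ := hc.exists_other S hK (c := c)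
  obtain ⟨P, hP, hPi⟩ := hc.exists_hall_centralizer S hK hdS hd1 {r}
  have hle : R ⊓ Subgroup.centralizer ({d} : Set G) ≤ Ec :=
    hc.mem_oddElts_sylow S hK (hc.inv_inf S hK hR.1 hdS).2.1 fun w hw =>
      hc.mem_centralizer_sylow_of_pair S hK hcS hdS hc1 hd1 hcd (hcen w hw.1)
        (Subgroup.mem_centralizer_singleton_iff.1 hw.2)
  have h1 : Nat.card ↥P * r ∣ Nat.card ↥P := PiNum.dvd_of_hall hP
    (PiNum.mul hP.2.1 fun p hp hpd => (Nat.prime_dvd_prime_iff_eq hp hr).1 hpd) (by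
      rw [← hc.card_mul_kIdx S hK hdS]
      refine Nat.mul_dvd_mul ((hfull d hdS hd1 P hPi (hP.1.trans (oddElts_le _))).trans
        (Subgroup.card_dvd_of_le hle)) ?_
      rwa [hc.kIdx_eq S hK hzS hdS hz1 hd1])
  have h2 := Nat.le_of_dvd Nat.card_pos h1
  have := Nat.card_pos (α := ↥P)
  nlinarith

end Crit

end CfsgLib.PiHom
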