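import Cfsg.Agent.Lib.PiHom.KleinIota
import Cfsg.Agent.Lib.CharCorr.Solvable

/-!
# Klein four case: the kernel of the centraliser of an involution

Every prime of `|O(C(c)) : O(C(S))|` is `Iota`, the elements of `O(C(c))` inverted by another
involution of `S` form an abelian subgroup, which is a TI-subgroup with normaliser `C(c)`.
-/

set_option autoImplicit false
set_option linter.style.haveILetI false
set_option linter.unusedSectionVars false

namespace CfsgLib.PiHom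

open CfsgLib.OddOrder (oPrime SylowOf)
open CfsgLib.Involutions

universe u

variable {π : Set ℕ} {G : Type u} [Group G] [Finite G]

/-- the elements of the odd core of `C(c)` inverted by the other involutions of `S` -/
def kern {G : Type u} [Group G] (S : Subgroup G) (c : G) : Subgroup G :=
  Subgroup.closure {w : G | w ∈ oddElts (Subgroup.centralizer ({c} : Set G)) ∧
    ∀ d ∈ S, d ≠ 1 → c ≠ d → d * w * d = w⁻¹}

omit [Finite G] in
theorem commute_of_inverted_fixed {T : Subgroup G} {s w t : G} (hs : s * s = 1)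
    (hT : ∀ v ∈ T, s * v * s = v) (hw : s * w * s = w⁻¹) (hodd : Odd (orderOf w))
    (hn : w ∈ Subgroup.normalizer (T : Set G)) (ht : t ∈ T) : w * t = t * w := by
  refine commute_of_conj_eq hodd ?_
  have hsi := inv_eq_of_mul_eq_one_right hs
  have h1 := hT _ ((Subgroup.mem_normalizer_iff.1 hn t).1 ht)
  calc w⁻¹ * t * w = (s * w * s) * (s * t * s) * (s * w * s)⁻¹ := by rw [hT t ht, hw, inv_inv]
    _ = s * w * (s * s) * t * s * (s⁻¹ * w⁻¹ * s⁻¹) := by group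
    _ = s * (w * t * w⁻¹) * s⁻¹ := by rw [hs]; group
    _ = w * t * w⁻¹ := by rw [hsi]; exact h1

omit [Finite G] in
theorem commute_of_inverted_inverted {T : Subgroup G} {s w t : G} (hs : s * s = 1)
    (hT : ∀ v ∈ T, s * v * s = v⁻¹) (hw : s * w * s = w⁻¹) (hodd : Odd (orderOf w))
    (hn : w ∈ Subgroup.normalizer (T : Set G)) (ht : t ∈ T) : w * t = t * w := by
  refine commute_of_conj_eq hodd (inv_injective ?_)
  have hsi := inv_eq_of_mul_eq_one_right hs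
  have h1 := hT _ ((Subgroup.mem_normalizer_iff.1 hn t).1 ht)
  calc (w⁻¹ * t * w)⁻¹ = (s * w * s) * (s * t * s) * (s * w * s)⁻¹ := by rw [hT t ht, hw]; group
    _ = s * w * (s * s) * t * s * (s⁻¹ * w⁻¹ * s⁻¹) := by group
    _ = s * (w * t * w⁻¹) * s⁻¹ := by rw [hs]; group
    _ = (w * t * w⁻¹)⁻¹ := by rw [hsi]; exact h1

omit [Finite G] in
theorem conj_zpowers_mem {g w v : G} (hg : g ∈ Subgroup.normalizer (Subgroup.zpowers w : Set G))
    (hv : v ∈ Subgroup.zpowers w) : g * v * g⁻¹ ∈ Subgroup.zpowers w :=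
  (Subgroup.mem_normalizer_iff.1 hg v).1 hv

namespace Crit

variable (hc : Crit π G) (S : Sylow 2 G) (hK : IsKleinFour ↥(S : Subgroup G))
include hc hK

local notation "Oc[" c "]" => oddElts (Subgroup.centralizer ({c} : Set G))
local notation "Ec" => oddElts (Subgroup.centralizer ((S : Subgroup G) : Set G))
local notation "Cc[" c "]" => Subgroup.centralizer ({c} : Set G)

theorem inv_zpowers {σ : Set ℕ} {c d w : G} (hcS : c ∈ (S : Subgroup G))
    (hdS : d ∈ (S : Subgroup G)) (hc1 : c ≠ 1) (hd1 : d ≠ 1) (hcd : c ≠ d) (hwc : w * c = c * w)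
    (hwd : d * w * d = w⁻¹) (hodd : Odd (orderOf w)) (hσ : PiNum σ (orderOf w)) :
    Inv (S : Subgroup G) σ (Subgroup.zpowers w) := by
  refine ⟨fun s hs => ?_, by rwa [Nat.card_zpowers], by rwa [Nat.card_zpowers]⟩
  refine zpowers_inv_invariant ?_ (sq_eq_one S hK hs)
  have hcw : c * w * c = w := (sq_conj_eq_iff (sq_eq_one S hK hcS)).2 hwc
  rcases hc.cases_of_mem S hK hcS hdS hc1 hd1 hcd hs with rfl | rfl | rfl | rfl
  · exact Or.inl (by simp)
  · exact Or.inl hcw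
  · exact Or.inr hwd
  · refine Or.inr ?_
    have h : c * w⁻¹ * c = w⁻¹ := by
      have := congrArg (·⁻¹) hcw
      simpa [mul_inv_rev, inv_eq_of_mul_eq_one_right (sq_eq_one S hK hcS), mul_assoc] using this
    calc c * d * w * (c * d) = c * d * w * (d * c) := by rw [comm_of_mem S hK hcS hdS]
      _ = c * (d * w * d) * c := by group
      _ = w⁻¹ := by rw [hwd, h]

theorem zpowers_le_centralizer {c w : G} (h : w * c = c * w) : Subgroup.zpowers w ≤ Cc[c] :=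
  Subgroup.zpowers_le.2 (Subgroup.mem_centralizer_singleton_iff.2 h)

theorem zpowers_ne_bot' {w : G} (hw : w ≠ 1) : Subgroup.zpowers w ≠ ⊥ :=
  fun h => hw (Subgroup.zpowers_eq_bot.1 h)

theorem normalizer_zpowers_ne_top {w : G} (hw : w ≠ 1) (hodd : Odd (orderOf w)) :
    Subgroup.normalizer (Subgroup.zpowers w : Set G) ≠ ⊤ :=
  hc.normalizer_ne_top (fun h => hw (Subgroup.zpowers_eq_bot.1 h))
    (hc.ne_top_of_odd S hK (by rwa [Nat.card_zpowers]))

theorem exists_meet {X : Subgroup G} (hX : Odd (Nat.card ↥X))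
    (hSX : (S : Subgroup G) ≤ Subgroup.normalizer (X : Set G)) (hne : X ≠ ⊥) :
    ∃ c ∈ (S : Subgroup G), c ≠ 1 ∧ X ⊓ Cc[c] ≠ ⊥ := by
  by_contra hcon
  push Not at hcon
  exact hne (le_bot_iff.1 (hc.le_of_gen S hK hX hSX fun e he he1 => (hcon e he he1).le))

theorem hall_of_full {r : ℕ} {X : Subgroup G} {c : G} (hcS : c ∈ (S : Subgroup G)) (hc1 : c ≠ 1)
    (hX : Inv (S : Subgroup G) {r} X) (hf : Full (S : Subgroup G) r X c) :
    Cfsg.IsPiHallOf {r} (X ⊓ Cc[c]) Oc[c] := by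
  obtain ⟨P, hP, hPi⟩ := hc.exists_hall_centralizer S hK hcS hc1 {r}
  have hXi := hc.inv_inf S hK hX hcS
  have hle := hc.le_oddElts_of_le S hK hXi.2.1 (inf_le_right : X ⊓ Cc[c] ≤ Cc[c])
  have hcard : Nat.card ↥(X ⊓ Cc[c] : Subgroup G) = Nat.card ↥P :=
    Nat.dvd_antisymm (hXi.2.2.dvd_of_hall hP (Subgroup.card_dvd_of_le hle))
      (hf P hPi (hP.1.trans (oddElts_le _)))
  refine ⟨hle, hXi.2.2, fun p hp hpi => ?_⟩
  have h3 := Subgroup.relIndex_mul_relIndex ⊥ _ _ bot_le hle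
  have h4 := Subgroup.relIndex_mul_relIndex ⊥ P _ bot_le hP.1
  rw [Subgroup.relIndex_bot_left, Subgroup.relIndex_bot_left] at h3 h4
  rw [hcard, ← h4] at h3
  rw [mul_left_cancel₀ Nat.card_pos.ne' h3]
  exact hP.2.2 p hp hpi

/-- Every maximal invariant `r`-subgroup is conjugate to the full one. -/
theorem special_conj {r : ℕ} [Fact r.Prime] {R R' : Subgroup G}
    (hR : Maximal (Inv (S : Subgroup G) {r}) R)
    (hfull : ∀ c ∈ (S : Subgroup G), c ≠ 1 → Full (S : Subgroup G) r R c)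
    (hR' : Maximal (Inv (S : Subgroup G) {r}) R') (hne : R' ≠ ⊥) :
    ∃ e ∈ Ec, conjBy e R' = R := by
  obtain ⟨c, hcS, hc1, hcne⟩ := hc.exists_meet S hK hR'.1.2.1 hR'.1.1 hne
  have hO := odd_oddElts_centralizer S hK hcS hc1
  have hSO := sylow_le_normalizer_oddElts S hK hcS
  have hi := hc.inv_inf S hK hR'.1 hcS
  obtain ⟨P, hP, hSP, hleP⟩ := hc.exists_invHall S hK {r} hO hSO
    (hc.le_oddElts_of_le S hK hi.2.1 inf_le_right) hi.1 hi.2.2
  obtain ⟨e, he, -, heq⟩ := hc.invHall_conj S hK {r} hO hSO hP hSP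
    (hc.hall_of_full S hK hcS hc1 hR.1 (hfull c hcS hc1)) (hc.inv_inf S hK hR.1 hcS).1
  have hmeet : conjBy e R' ⊓ R ≠ ⊥ := fun h0 => by
    have h1 : conjBy e (R' ⊓ Cc[c]) ≤ ⊥ := h0 ▸ le_inf (conjBy_mono e inf_le_left)
      ((conjBy_mono e hleP).trans (heq.le.trans inf_le_left))
    have h2 := card_conjBy e (R' ⊓ Cc[c])
    rw [le_bot_iff.1 h1, Subgroup.card_bot] at h2
    exact hcne (Subgroup.card_eq_one.1 h2.symm)
  obtain ⟨e₁, he₁, h₁⟩ := hc.conj_of_meet S hK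
    (hc.maximal_conj S hK hR' (hc.mem_normalizer_of_mem_oddElts S hK he)) hR hmeet
  exact ⟨e₁ * e, mul_mem he₁ he, by rw [conjBy_mul, h₁]⟩

/-- A normal `q`-part sits over the involution of any invariant `q`-subgroup. -/
theorem normal_le_centralizer {q : ℕ} (hq : Iota (S : Subgroup G) q) {H T Y : Subgroup G}
    (hHodd : Odd (Nat.card ↥H)) (hSH : (S : Subgroup G) ≤ Subgroup.normalizer (H : Set G))
    (hT : Inv (S : Subgroup G) {q} T) (hTH : T ≤ H) (hHT : H ≤ Subgroup.normalizer (T : Set G))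
    (hY : Inv (S : Subgroup G) {q} Y) (hYH : Y ≤ H) (hYne : Y ≠ ⊥) {c : G}
    (hcS : c ∈ (S : Subgroup G)) (hc1 : c ≠ 1) (hYc : Y ≤ Cc[c]) : T ≤ Cc[c] := by
  obtain ⟨Q, hQ, hSQ, hYQ⟩ := hc.exists_invHall S hK {q} hHodd hSH hYH hY.1 hY.2.2
  obtain ⟨Q', hQ', hSQ', hTQ'⟩ := hc.exists_invHall S hK {q} hHodd hSH hTH hT.1 hT.2.2
  obtain ⟨e, -, heH, heq⟩ := hc.invHall_conj S hK {q} hHodd hSH hQ' hSQ' hQ hSQ
  have h1 : T ≤ Q := by
    rw [← conjBy_eq_iff.2 (hHT heH), ← heq]; exact conjBy_mono e hTQ'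
  exact h1.trans (hc.iota_le S hK hq (hc.inv_of_hall S hK hHodd hQ hSQ) hcS hc1
    fun h0 => hYne (le_bot_iff.1 (h0 ▸ le_inf hYQ hYc)))

theorem oPrime_inv {σ τ : Set ℕ} {p : ℕ} [Fact p.Prime] {H : Subgroup G}
    (hH : Inv (S : Subgroup G) σ H) (hστ : ∀ l ∈ σ, l ≠ p → l ∈ τ) :
    Inv (S : Subgroup G) τ (oPrime p H) := by
  refine ⟨fun s hs => mem_normalizer_of_conjBy_le ?_,
    hH.2.1.of_dvd_nat (Subgroup.card_dvd_of_le (OddOrder.oPrime_le H)), fun l hl hd => ?_⟩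
  · refine OddOrder.le_oPrime ((conjBy_mono s (OddOrder.oPrime_le H)).trans
      (conjBy_eq_iff.2 (hH.1 hs)).le) (fun x hx => ?_) (by rw [card_conjBy]; exact OddOrder.oPrime_coprime H)
    refine mem_normalizer_of_conjBy_le ?_
    have hx' : s⁻¹ * x * s ∈ H := by
      have := (Subgroup.mem_normalizer_iff.1 (inv_mem (hH.1 hs)) x).1 hx
      rwa [inv_inv] at this
    rw [← conjBy_mul, show x * s = s * (s⁻¹ * x * s) by group, conjBy_mul,
      conjBy_eq_iff.2 (OddOrder.oPrime_normal H hx')]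
  · refine hστ l (hH.2.2 l hl (hd.trans (Subgroup.card_dvd_of_le (OddOrder.oPrime_le H)))) ?_
    rintro rfl
    exact hl.ne_one (Nat.eq_one_of_dvd_coprimes (OddOrder.oPrime_coprime (p := l) H) hd dvd_rfl)

section Bad

variable {q r : ℕ} [Fact q.Prime] [hr : Fact r.Prime] (hqr : q ≠ r) (hq : Iota (S : Subgroup G) q)
  (hr2 : r ≠ 2) {R : Subgroup G} (hR : Maximal (Inv (S : Subgroup G) {r}) R)
  (hfull : ∀ c ∈ (S : Subgroup G), c ≠ 1 → Full (S : Subgroup G) r R c)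
include hqr hq hr2 hR hfull

/-- A maximal invariant `{q, r}`-subgroup has a non-trivial normal `q`-subgroup. -/
theorem exists_normal_iota {H Y : Subgroup G} (hH : Maximal (Inv (S : Subgroup G) {q, r}) H)
    (hY : Inv (S : Subgroup G) {q} Y) (hYH : Y ≤ H) (hYne : Y ≠ ⊥) {c : G}
    (hcS : c ∈ (S : Subgroup G)) (hc1 : c ≠ 1) (hYc : Y ≤ Cc[c]) :
    ∃ T, Inv (S : Subgroup G) {q} T ∧ T ≠ ⊥ ∧ T ≤ H ∧ H ≤ Subgroup.normalizer (T : Set G) ∧
      T ≤ Cc[c] := by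
  haveI : Group.IsSolvable ↥H := CfsgLib.PF.oddSolvable _ hH.1.2.1
  by_cases hT : oPrime r H = ⊥
  swap
  · have hTi : Inv (S : Subgroup G) {q} (oPrime r H) := hc.oPrime_inv S hK hH.1 fun l hl hlr =>
      (Set.mem_insert_iff.1 hl).resolve_right hlr
    exact ⟨_, hTi, hT, OddOrder.oPrime_le H, OddOrder.oPrime_normal H,
      hc.normal_le_centralizer S hK hq hH.1.2.1 hH.1.1 hTi (OddOrder.oPrime_le H)
        (OddOrder.oPrime_normal H) hY hYH hYne hcS hc1 hYc⟩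
  exfalso
  obtain ⟨R', hR', hSR', -⟩ := hc.exists_invHall S hK {r} hH.1.2.1 hH.1.1
    (bot_le : (⊥ : Subgroup G) ≤ _) (fun _ _ => mem_normalizer_bot _)
    (by rw [Subgroup.card_bot]; exact piNum_one)
  have hR'i := hc.inv_of_hall S hK hH.1.2.1 hR' hSR'
  have hR'p : IsPGroup r ↥R' := isPGroup_of_piNum hr.out hR'i.2.2
  have hsyl : SylowOf r R' H := ⟨hR'.1, hR'p, fun Q hQ hQp hle => by
    obtain ⟨k, hk⟩ := IsPGroup.iff_card.1 hQp
    exact (Subgroup.eq_of_le_of_card_ge hle (Nat.le_of_dvd Nat.card_pos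
      (PiNum.dvd_of_hall hR' (fun p hp hd => by
        rw [hk] at hd; exact (Nat.prime_dvd_prime_iff_eq hp hr.out).1 (hp.dvd_of_dvd_pow hd))
        (Subgroup.card_dvd_of_le hQ)))).symm⟩
  have hR'ne : R' ≠ ⊥ := fun h0 => by
    have h1 : ¬ r ∣ Nat.card ↥H := fun hd => hr.out.ne_one (Nat.dvd_one.1 (by
      have := PiNum.dvd_of_hall hR' (fun p hp hpd => (Nat.prime_dvd_prime_iff_eq hp hr.out).1 hpd) hd
      rwa [h0, Subgroup.card_bot] at this))
    have h2 := OddOrder.le_oPrime (p := r) (le_refl H) Subgroup.le_normalizer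
      ((Nat.coprime_comm).1 (hr.out.coprime_iff_not_dvd.2 h1))
    rw [hT] at h2
    exact hYne (le_bot_iff.1 (hYH.trans h2))
  set Z := PLocal.zj 0 R'
  have hfac := OddOrder.le_sup_normalizer_zj hH.1.2.1 hr2 hsyl
  rw [hT, bot_sup_eq] at hfac
  have hHU : H ≤ Subgroup.normalizer (Z : Set G) := hfac.trans inf_le_right
  set U := Subgroup.normalizer (Z : Set G) with hUdef
  have hZne : Z ≠ ⊥ := OddOrder.zj_ne_bot hR'p hR'ne
  have hU : U ≠ ⊤ := hc.normalizer_ne_top hZne (hc.ne_top_of_odd S hK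
    (hR'i.2.1.of_dvd_nat (Subgroup.card_dvd_of_le (PLocal.zj_le 0 R'))))
  have hNU := PLocal.normalizer_le_normalizer_zj 0 R'
  have hSU : (S : Subgroup G) ≤ U := hR'i.1.trans hNU
  -- `R'` is maximal
  have hR'max : Maximal (Inv (S : Subgroup G) {r}) R' := by
    refine ⟨hR'i, fun R₁ hR₁ hle => ?_⟩
    by_contra hnot
    have hlt := lt_of_le_not_ge hle hnot
    have hgr := CfsgLib.OddOrder.Transitivity.normalizer_grows (isPGroup_of_piNum hr.out hR₁.2.2) hlt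
    set N := Subgroup.normalizer (R' : Set G) ⊓ R₁
    have hN : Inv (S : Subgroup G) {r} N := ⟨fun s hs => mem_normalizer_of_conjBy_le
        (conjBy_le.2 fun w hw => ⟨Subgroup.mul_mem _ (Subgroup.mul_mem _ (hR'i.1 hs) hw.1)
          (Subgroup.inv_mem _ (hR'i.1 hs)), (Subgroup.mem_normalizer_iff.1 (hR₁.1 hs) w).1 hw.2⟩),
      hR₁.2.1.of_dvd_nat (Subgroup.card_dvd_of_le inf_le_right),
      hR₁.2.2.dvd (Subgroup.card_dvd_of_le inf_le_right)⟩
    have hX := hc.odd_oPart S hK hU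
    obtain ⟨Hh, hHh, hSHh, hleH⟩ := hc.exists_invHall S hK {q, r} hX
      (hSU.trans (hc.le_normalizer_oPart S hU hSU))
      (hc.le_oPart S hK hU hSU hHU hH.1.2.1 hH.1.1) hH.1.1 hH.1.2.2
    have heq : Hh ≤ H := hH.2 (hc.inv_of_hall S hK hX hHh hSHh) hleH
    have h1 : Nat.card ↥N ∣ Nat.card ↥H :=
      (PiNum.dvd_of_hall hHh (fun p hp hd => Set.mem_insert_of_mem q (hN.2.2 p hp hd))
        (Subgroup.card_dvd_of_le (hc.le_oPart S hK hU hSU (inf_le_left.trans hNU) hN.2.1 hN.1))).trans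
        (Subgroup.card_dvd_of_le heq)
    have h2 := Nat.le_of_dvd Nat.card_pos (hN.2.2.dvd_of_hall hR' h1)
    omega
  obtain ⟨e, he, heR⟩ := hc.special_conj S hK hR hfull hR'max hR'ne
  obtain ⟨d, hdS, hd1, hcd⟩ := hc.exists_other S hK (c := c)
  obtain ⟨n, hn, hnc, -, -⟩ := hc.exists_shift S hK hcS hdS hc1 hd1 hcd
  have hnR := hc.maximal_conj S hK hR hn
  obtain ⟨e₂, he₂, he₂R⟩ := hc.special_conj S hK hR hfull hnR (fun h0 => by
    have h2 := card_conjBy n R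
    rw [h0, Subgroup.card_bot, ← heR, card_conjBy] at h2
    exact hR'ne (Subgroup.card_eq_one.1 h2.symm))
  set n' := e⁻¹ * e₂ * n * e with hn'
  have hn'R : n' ∈ Subgroup.normalizer (R' : Set G) := conjBy_eq_iff.1 (by
    rw [hn', conjBy_mul, heR, conjBy_mul, conjBy_mul, he₂R, ← heR, conjBy_inv_cancel])
  have hfix := fun {v : G} {g : G} (hv : v ∈ (S : Subgroup G)) (hg : g ∈ Ec) =>
    hc.conj_fixed_of_mem_oddElts S hK hv hg
  have hn'c : n' * c * n'⁻¹ = d :=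
    calc n' * c * n'⁻¹ = e⁻¹ * (e₂ * (n * (e * c * e⁻¹) * n⁻¹) * e₂⁻¹) * e⁻¹⁻¹ := by rw [hn']; group
      _ = d := by rw [hfix hcS he, hnc, hfix hdS he₂, hfix hdS (inv_mem he)]
  have hn'N : n' ∈ Subgroup.normalizer ((S : Subgroup G) : Set G) :=
    mul_mem (mul_mem (mul_mem (inv_mem (hc.mem_normalizer_of_mem_oddElts S hK he))
      (hc.mem_normalizer_of_mem_oddElts S hK he₂)) hn) (hc.mem_normalizer_of_mem_oddElts S hK he)
  refine hYne ?_
  have h0 := hc.iota_lambda S hK hq hU hSU hdS hcS hd1 hc1 hcd.symm (hc.inv_conj S hK hY hn'N)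
    (conjBy_le.2 fun w hw => Subgroup.mul_mem _ (Subgroup.mul_mem _ (hNU hn'R) (hYH.trans hHU hw))
      (Subgroup.inv_mem _ (hNU hn'R)))
    (conjBy_le.2 fun w hw => hn'c ▸ conj_mem_centralizer (hYc hw)) hY (hYH.trans hHU) hYc
    (fun h => by
      have h2 := card_conjBy n' Y
      rw [h, Subgroup.card_bot] at h2
      exact hYne (Subgroup.card_eq_one.1 h2.symm))
  exact h0

variable (hqd : ∀ c : G, c ∈ (S : Subgroup G) → c ≠ 1 →
  q ∣ Nat.card ↥(oddElts (Subgroup.centralizer ({c} : Set G))))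
include hqd

/-- An inverted element of a centraliser commutes with a `q`-subgroup there. -/
theorem exists_commuting {c d j : G} (hcS : c ∈ (S : Subgroup G)) (hdS : d ∈ (S : Subgroup G))
    (hc1 : c ≠ 1) (hd1 : d ≠ 1) (hcd : c ≠ d) (hjc : j * c = c * j) (hjd : d * j * d = j⁻¹)
    (hodd : Odd (orderOf j)) (hσ : PiNum {q, r} (orderOf j)) :
    ∃ T, Inv (S : Subgroup G) {q} T ∧ T ≠ ⊥ ∧ T ≤ Cc[c] ∧ ∀ t ∈ T, j * t = t * j := by
  have hji := hc.inv_zpowers S hK hcS hdS hc1 hd1 hcd hjc hjd hodd hσ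
  have hO := odd_oddElts_centralizer S hK hcS hc1
  obtain ⟨H₂, hH₂, hSH₂, hjH₂⟩ := hc.exists_invHall S hK {q, r} hO
    (sylow_le_normalizer_oddElts S hK hcS)
    (hc.le_oddElts_of_le S hK hji.2.1 (hc.zpowers_le_centralizer S hK hjc)) hji.1 hji.2.2
  have hH₂i := hc.inv_of_hall S hK hO hH₂ hSH₂
  obtain ⟨Y, hY, hSY, -⟩ := hc.exists_invHall S hK {q} hH₂i.2.1 hSH₂
    (bot_le : (⊥ : Subgroup G) ≤ _) (fun _ _ => mem_normalizer_bot _)
    (by rw [Subgroup.card_bot]; exact piNum_one)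
  have hqnum : ∀ {σ : Set ℕ}, q ∈ σ → PiNum σ q := fun {σ} hσq p hp hpd => by
    rwa [(Nat.prime_dvd_prime_iff_eq hp Fact.out).1 hpd]
  have hYne : Y ≠ ⊥ := fun h0 => by
    have h1 := PiNum.dvd_of_hall hY (hqnum rfl)
      (PiNum.dvd_of_hall hH₂ (hqnum (Set.mem_insert _ _)) (hqd c hcS hc1))
    rw [h0, Subgroup.card_bot] at h1
    exact (Fact.out : q.Prime).ne_one (Nat.dvd_one.1 h1)
  obtain ⟨H, hle, hH⟩ := hc.exists_maximal S hK hH₂i
  obtain ⟨T, hT, hTne, -, hHT, hTc⟩ := hc.exists_normal_iota S hK hqr hq hr2 hR hfull hH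
    (hc.inv_of_hall S hK hH₂i.2.1 hY hSY) (hY.1.trans hle) hYne hcS hc1
    (hY.1.trans (hH₂.1.trans (oddElts_le _)))
  exact ⟨T, hT, hTne, hTc, fun t ht => commute_of_inverted_inverted (sq_eq_one S hK hdS)
    (fun v hv => hc.iota_inverted S hK hq hT hcS hdS hc1 hd1 hcd hTc hv) hjd hodd
    (hHT (hle (hjH₂ (Subgroup.mem_zpowers j)))) ht⟩

/-- An invariant `{q, r}`-subgroup with a `q`-part over `c` lies over `c`. -/
theorem bad_le {H Y : Subgroup G} (hH : Inv (S : Subgroup G) {q, r} H)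
    (hY : Inv (S : Subgroup G) {q} Y) (hYH : Y ≤ H) (hYne : Y ≠ ⊥) {c : G}
    (hcS : c ∈ (S : Subgroup G)) (hc1 : c ≠ 1) (hYc : Y ≤ Cc[c]) : H ≤ Cc[c] := by
  obtain ⟨H₀, hle, hH₀⟩ := hc.exists_maximal S hK hH
  obtain ⟨T, hT, hTne, -, hHT, hTc⟩ := hc.exists_normal_iota S hK hqr hq hr2 hR hfull hH₀ hY
    (hYH.trans hle) hYne hcS hc1 hYc
  refine hle.trans (hc.le_of_gen S hK hH₀.1.2.1 hH₀.1.1 fun d hdS hd1 => ?_)
  by_cases hcd : c = d
  · rw [← hcd]; exact inf_le_right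
  have hc2 := sq_eq_one S hK hcS
  have hi := hc.inv_inf S hK hH₀.1 hdS
  refine fun w hw => Subgroup.mem_centralizer_singleton_iff.2 (commute_of_no_inverted hi.2.1 hc2
    (fun v hv => conj_mem_of_le_normalizer hi.1 hcS hc2 hv) (fun v hv hvc => by_contra fun hv1 => ?_) hw)
  have hodd := RankOneInvol.odd_orderOf_of_mem hH₀.1.2.1 hv.1
  have hvT : ∀ t ∈ T, v * t = t * v := fun t ht => commute_of_inverted_fixed hc2
    (fun s hs => (sq_conj_eq_iff hc2).2 (Subgroup.mem_centralizer_singleton_iff.1 (hTc hs))) hvc hodd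
    (hHT hv.1) ht
  obtain ⟨n, hn, hnd, hnc, -⟩ := hc.exists_shift S hK hdS hcS hd1 hc1 (Ne.symm hcd)
  set j := n * v * n⁻¹ with hj
  have hjc : j * c = c * j := by
    rw [← hnd]
    exact Subgroup.mem_centralizer_singleton_iff.1 (conj_mem_centralizer hv.2)
  have hjb : (d * c) * j * (d * c) = j⁻¹ := by
    rw [← hnc, hj,
      show n * c * n⁻¹ * (n * v * n⁻¹) * (n * c * n⁻¹) = n * (c * v * c) * n⁻¹ by group, hvc]
    group
  have hjodd : Odd (orderOf j) := RankOneInvol.odd_orderOf_conj hodd n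
  have hjσ : PiNum {q, r} (orderOf j) := by
    rw [hj, orderOf_conj_eq]
    refine hH₀.1.2.2.dvd ?_
    have := orderOf_dvd_natCard (⟨v, hv.1⟩ : ↥H₀)
    rwa [Subgroup.orderOf_mk] at this
  have hb1 : d * c ≠ 1 := hc.mul_ne_one_of_ne S hK hdS (Ne.symm hcd)
  have hcb : c ≠ d * c := fun h => hd1 (mul_right_cancel (b := c) (by rw [one_mul]; exact h.symm))
  obtain ⟨T₂, hT₂, hT₂ne, hT₂c, hjT₂⟩ := hc.exists_commuting S hK hqr hq hr2 hR hfull hqd hcS
    (mul_mem hdS hcS) hc1 hb1 hcb hjc hjb hjodd hjσ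
  have hj1 : j ≠ 1 := fun h => hv1 (conj_eq_one_iff.1 h)
  have hSU := (hc.inv_zpowers S hK hcS (mul_mem hdS hcS) hc1 hb1 hcb hjc hjb hjodd hjσ).1
  have hcomm : ∀ g, j * g = g * j → g ∈ Subgroup.normalizer (Subgroup.zpowers j : Set G) :=
    fun g hg => Subgroup.centralizer_le_normalizer _ (by
      rw [Subgroup.zpowers_eq_closure, Subgroup.centralizer_closure]
      exact Subgroup.mem_centralizer_singleton_iff.2 hg.symm)
  refine hTne ?_
  have h0 := hc.iota_lambda S hK hq (hc.normalizer_zpowers_ne_top S hK hj1 hjodd) hSU hcS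
    (mul_mem hdS hcS) hc1 hb1 hcb hT₂ (fun t ht => hcomm t (hjT₂ t ht)) hT₂c
    (hc.inv_conj S hK hT hn) (conjBy_le.2 fun t ht => hcomm _ (by
      rw [hj, show n * v * n⁻¹ * (n * t * n⁻¹) = n * (v * t) * n⁻¹ by group, hvT t ht]; group))
    (conjBy_le.2 fun t ht => hnc ▸ conj_mem_centralizer (hTc ht)) hT₂ne
  have h2 := card_conjBy n T
  rw [h0, Subgroup.card_bot] at h2
  exact Subgroup.card_eq_one.1 h2.symm

end Bad

/-- Every prime of the index is `Iota`. -/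
theorem iota_of_dvd {z : G} (hzS : z ∈ (S : Subgroup G)) (hz1 : z ≠ 1) {r : ℕ} (hr : r.Prime)
    (hrf : r ∣ kIdx (S : Subgroup G) z) : Iota (S : Subgroup G) r := by
  by_contra hnι
  haveI := Fact.mk hr
  obtain ⟨q, hqp, hqf, hq⟩ := hc.exists_iota S hK hzS hz1
  haveI := Fact.mk hqp
  have hqr : q ≠ r := fun h => hnι (h ▸ hq)
  obtain ⟨hr2, -, -, hrd⟩ := hc.kIdx_prime S hK hr hzS hz1 hrf
  obtain ⟨-, -, -, hqd⟩ := hc.kIdx_prime S hK hqp hzS hz1 hqf
  obtain ⟨R, hR, hfull⟩ := hc.exists_special S hK hrd hnι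
  have hRp : IsPGroup r ↥R := isPGroup_of_piNum hr hR.1.2.2
  have hnle : ∀ c ∈ (S : Subgroup G), c ≠ 1 →
      ¬ R ⊓ Cc[c] ≤ Subgroup.centralizer ((S : Subgroup G) : Set G) := fun c hcS hc1 =>
    hc.hall_not_le S hK hr hcS (hc.hall_of_full S hK hcS hc1 hR.1 (hfull c hcS hc1))
      (hc.inv_inf S hK hR.1 hcS).2.1 (by rwa [hc.kIdx_eq S hK hzS hcS hz1 hc1])
  obtain ⟨d, hdS, hd1, hzd⟩ := hc.exists_other S hK (c := z)
  set Rz := R ⊓ Cc[z]
  have hRzi := hc.inv_inf S hK hR.1 hzS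
  obtain ⟨j, hjR, hjd, hj1⟩ := hc.exists_inverted_of_not_le S hK hRzi.2.1 hRzi.1 hzS hdS hz1 hd1 hzd
    inf_le_right (hnle z hzS hz1)
  have hlt : Rz < R := lt_of_le_of_ne inf_le_left fun h => hnle d hdS hd1 fun w hw =>
    hc.mem_centralizer_sylow_of_pair S hK hzS hdS hz1 hd1 hzd
      (Subgroup.mem_centralizer_singleton_iff.1 (inf_eq_left.1 h hw.1))
      (Subgroup.mem_centralizer_singleton_iff.1 hw.2)
  have hgr := CfsgLib.OddOrder.Transitivity.normalizer_grows hRp hlt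
  set N := Subgroup.normalizer (Rz : Set G) ⊓ R
  have hSN : (S : Subgroup G) ≤ Subgroup.normalizer (N : Set G) := fun s hs =>
    mem_normalizer_of_conjBy_le (conjBy_le.2 fun w hw =>
      ⟨Subgroup.mul_mem _ (Subgroup.mul_mem _ (hRzi.1 hs) hw.1) (Subgroup.inv_mem _ (hRzi.1 hs)),
        (Subgroup.mem_normalizer_iff.1 (hR.1.1 hs) w).1 hw.2⟩)
  have hNodd : Odd (Nat.card ↥N) := hR.1.2.1.of_dvd_nat (Subgroup.card_dvd_of_le inf_le_right)
  have hz2 := sq_eq_one S hK hzS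
  obtain ⟨e, heS, he1, i, hiN, hie, hzi, hi1⟩ : ∃ e ∈ (S : Subgroup G), e ≠ 1 ∧ ∃ i ∈ N,
      i * e = e * i ∧ z * i * z = i⁻¹ ∧ i ≠ 1 := by
    by_contra hcon
    push Not at hcon
    have hle : N ≤ Rz := le_inf inf_le_right (hc.le_of_gen S hK hNodd hSN fun e he he1 w hw => by
      refine Subgroup.mem_centralizer_singleton_iff.2 (commute_of_no_inverted
        (X := N ⊓ Cc[e]) (hNodd.of_dvd_nat (Subgroup.card_dvd_of_le inf_le_left)) hz2 (fun v hv => ?_)
        (fun v hv hvz => hcon e he he1 v hv.1 (Subgroup.mem_centralizer_singleton_iff.1 hv.2) hvz) hw)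
      refine ⟨conj_mem_of_le_normalizer hSN hzS hz2 hv.1, ?_⟩
      exact Subgroup.mul_mem _ (Subgroup.mul_mem _ (sylow_le_centralizer S hK he hzS) hv.2)
        (sylow_le_centralizer S hK he hzS))
    have := Subgroup.card_le_of_le hle
    omega
  have hez : e ≠ z := fun h => hi1 (RankOneInvol.eq_one_of_sq_of_odd
    (RankOneInvol.odd_orderOf_of_mem hNodd hiN) (by
      have h1 : i = i⁻¹ := by rw [← hzi, (sq_conj_eq_iff hz2).2 (h ▸ hie)]
      nth_rw 1 [h1]; exact inv_mul_cancel i))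
  have hoddi := RankOneInvol.odd_orderOf_of_mem hNodd hiN
  have hij : i * j = j * i := commute_of_inverted_fixed (T := R ⊓ Cc[z]) hz2
    (fun v hv => (sq_conj_eq_iff hz2).2 (Subgroup.mem_centralizer_singleton_iff.1 hv.2)) hzi hoddi
    hiN.1 hjR
  have hjz := Subgroup.mem_centralizer_singleton_iff.1 hjR.2
  have hjodd := RankOneInvol.odd_orderOf_of_mem hRzi.2.1 hjR
  have hrnum : ∀ {w : G}, w ∈ R → PiNum {r} (orderOf w) := fun {w} hw => hR.1.2.2.dvd (by
    have := orderOf_dvd_natCard (⟨w, hw⟩ : ↥R)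
    rwa [Subgroup.orderOf_mk] at this)
  obtain ⟨T, hT, hTne, hTz, hjT⟩ := hc.exists_commuting S hK hqr hq hr2 hR hfull hqd hzS hdS hz1 hd1
    hzd hjz hjd hjodd (fun p hp hd => Set.mem_insert_of_mem q (hrnum hjR.1 p hp hd))
  set U := Subgroup.normalizer (Subgroup.zpowers j : Set G)
  have hU : U ≠ ⊤ := hc.normalizer_zpowers_ne_top S hK hj1 hjodd
  have hSU : (S : Subgroup G) ≤ U :=
    (hc.inv_zpowers S hK hzS hdS hz1 hd1 hzd hjz hjd hjodd (hrnum hjR.1)).1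
  have hcomm : ∀ g, j * g = g * j → g ∈ U := fun g hg => Subgroup.centralizer_le_normalizer _ (by
      rw [Subgroup.zpowers_eq_closure, Subgroup.centralizer_closure]
      exact Subgroup.mem_centralizer_singleton_iff.2 hg.symm)
  have hii : Inv (S : Subgroup G) {q, r} (Subgroup.zpowers i) :=
    hc.inv_zpowers S hK heS hzS he1 hz1 hez hie hzi hoddi
      fun p hp hd => Set.mem_insert_of_mem q (hrnum hiN.2 p hp hd)
  have hX := hc.odd_oPart S hK hU
  have hSX := hSU.trans (hc.le_normalizer_oPart S hU hSU)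
  obtain ⟨H₁, hH₁, hSH₁, hTH₁⟩ := hc.exists_invHall S hK {q, r} hX hSX
    (hc.le_oPart S hK hU hSU (fun t ht => hcomm t (hjT t ht)) hT.2.1 hT.1) hT.1
    (fun p hp hd => Set.mem_insert_iff.2 (Or.inl (hT.2.2 p hp hd)))
  obtain ⟨H₂, hH₂, hSH₂, hiH₂⟩ := hc.exists_invHall S hK {q, r} hX hSX
    (hc.le_oPart S hK hU hSU (Subgroup.zpowers_le.2 (hcomm i hij.symm)) hii.2.1 hii.1) hii.1 hii.2.2
  obtain ⟨g, hg, -, hgeq⟩ := hc.invHall_conj S hK {q, r} hX hSX hH₂ hSH₂ hH₁ hSH₁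
  have h1 : g * i * g⁻¹ ∈ Cc[z] := hc.bad_le S hK hqr hq hr2 hR hfull hqd
    (hc.inv_of_hall S hK hX hH₁ hSH₁) hT hTH₁ hTne hzS hz1 hTz
    (hgeq ▸ conj_mem_conjBy (hiH₂ (Subgroup.mem_zpowers i)))
  have h2 : i * z = z * i := by
    have h3 := conj_mem_centralizer (g := g⁻¹) h1
    have h4 : g⁻¹ * z * g⁻¹⁻¹ = z := hc.conj_fixed_of_mem_oddElts S hK hzS (inv_mem hg)
    rw [h4, show g⁻¹ * (g * i * g⁻¹) * g⁻¹⁻¹ = i by group] at h3
    exact Subgroup.mem_centralizer_singleton_iff.1 h3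
  refine hi1 (RankOneInvol.eq_one_of_sq_of_odd hoddi ?_)
  have h5 : i = i⁻¹ := by rw [← hzi, (sq_conj_eq_iff hz2).2 h2]
  nth_rw 1 [h5]; exact inv_mul_cancel i

/-- The kernel is an abelian Hall subgroup, the set of inverted elements. -/
theorem kern_spec {c : G} (hcS : c ∈ (S : Subgroup G)) (hc1 : c ≠ 1) :
    (∀ d ∈ (S : Subgroup G), d ≠ 1 → c ≠ d → ∀ w, w ∈ kern (S : Subgroup G) c ↔
      w ∈ Oc[c] ∧ d * w * d = w⁻¹) ∧
    Nat.card ↥(kern (S : Subgroup G) c) = kIdx (S : Subgroup G) c ∧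
    (∀ v ∈ kern (S : Subgroup G) c, ∀ w ∈ kern (S : Subgroup G) c, v * w = w * v) := by
  classical
  set f := kIdx (S : Subgroup G) c
  set σ : Set ℕ := {p | p.Prime ∧ p ∣ f}
  obtain ⟨H, hH, hHi⟩ := hc.exists_hall_centralizer S hK hcS hc1 σ
  have hHO : H ≤ Oc[c] := hH.1
  have hfσ : PiNum σ f := fun p hp hpd => ⟨hp, hpd⟩
  have hfE : f.Coprime (Nat.card ↥Ec) :=
    Nat.coprime_of_dvd fun p hp hpf hpE => (hc.iota_of_dvd S hK hcS hc1 hp hpf).1 hpE
  have hcardO := hc.card_mul_kIdx S hK hcS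
  have hHf : Nat.card ↥H = f := by
    refine Nat.dvd_antisymm ?_ (hfσ.dvd_of_hall hH ⟨_, by rw [mul_comm f]; exact hcardO.symm⟩)
    refine (Nat.coprime_of_dvd fun p hp hp1 hp2 => ?_ : (Nat.card ↥H).Coprime
      (Nat.card ↥Ec)).dvd_of_dvd_mul_left (hcardO ▸ Subgroup.card_dvd_of_le hHO)
    exact (hc.iota_of_dvd S hK hcS hc1 hp (hH.2.1 p hp hp1).2).1 hp2
  have hinv : ∀ d ∈ (S : Subgroup G), d ≠ 1 → c ≠ d → ∀ w ∈ H, d * w * d = w⁻¹ := by
    intro d hdS hd1 hcd w hw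
    have hd2 := sq_eq_one S hK hdS
    obtain ⟨y, v, hy, hyf, -, hvi, rfl⟩ := RankOneInvol.exists_fixed_mul_inverted hHi.2.1 hd2
      (fun t ht => conj_mem_of_le_normalizer hHi.1 hdS hd2 ht) hw
    suffices hy1 : y = 1 by rw [hy1, one_mul, hvi]
    have hyE : y ∈ Ec := mem_oddElts_of (hc.mem_centralizer_sylow_of_pair S hK hcS hdS hc1 hd1 hcd
        (Subgroup.mem_centralizer_singleton_iff.1 (oddElts_le _ (hHO hy)))
        ((sq_conj_eq_iff hd2).1 hyf)) (RankOneInvol.odd_orderOf_of_mem hHi.2.1 hy)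
    rw [← Subgroup.mem_bot, ← Subgroup.inf_eq_bot_of_coprime (H := H) (K := Ec) (by rw [hHf]; exact hfE)]
    exact ⟨hy, hyE⟩
  have hset : ∀ d ∈ (S : Subgroup G), d ≠ 1 → c ≠ d → ∀ w, w ∈ H ↔ w ∈ Oc[c] ∧ d * w * d = w⁻¹ := by
    intro d hdS hd1 hcd
    have hd2 := sq_eq_one S hK hdS
    have hSO := sylow_le_normalizer_oddElts S hK hcS
    have hcount := LivWag.card_eq_inverted_mul (odd_oddElts_centralizer S hK hcS hc1) hd2
      (fun w hw => conj_mem_of_le_normalizer hSO hdS hd2 hw)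
    have hE : (Oc[c] ⊓ Subgroup.centralizer {d} : Subgroup G) = Ec := by
      refine le_antisymm (fun w hw => mem_oddElts_of ?_ ((mem_oddElts_centralizer S hK hcS hc1).1 hw.1).2)
        (fun w hw => ⟨hc.oddElts_sylow_le S hK hcS hw, Subgroup.mem_centralizer_singleton_iff.2
          (Subgroup.mem_centralizer_iff.1 (oddElts_le _ hw) d hdS).symm⟩)
      exact hc.mem_centralizer_sylow_of_pair S hK hcS hdS hc1 hd1 hcd
        (Subgroup.mem_centralizer_singleton_iff.1 (oddElts_le _ hw.1))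
        (Subgroup.mem_centralizer_singleton_iff.1 hw.2)
    rw [hE] at hcount
    have hcount' : f = Nat.card {x : G // x ∈ Oc[c] ∧ d * x * d = x⁻¹} :=
      Nat.eq_of_mul_eq_mul_right (Nat.card_pos (α := ↥Ec)) (by linarith [hcount, hcardO])
    have hI : (H : Set G) = {x : G | x ∈ Oc[c] ∧ d * x * d = x⁻¹} := by
      refine Set.eq_of_subset_of_ncard_le (fun w hw => ⟨hHO hw, hinv d hdS hd1 hcd w hw⟩) ?_
      rw [← Nat.card_coe_set_eq, ← Nat.card_coe_set_eq, SetLike.coe_sort_coe, hHf]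
      exact hcount'.ge
    exact fun w => by rw [← SetLike.mem_coe, hI]; rfl
  obtain ⟨d₀, hd₀S, hd₀1, hcd₀⟩ := hc.exists_other S hK (c := c)
  have hkern : kern (S : Subgroup G) c = H := by
    refine le_antisymm ((Subgroup.closure_le _).2 fun w hw =>
      (hset d₀ hd₀S hd₀1 hcd₀ w).2 ⟨hw.1, hw.2 d₀ hd₀S hd₀1 hcd₀⟩) fun w hw => ?_
    exact Subgroup.subset_closure ⟨hHO hw, fun d hdS hd1 hcd => hinv d hdS hd1 hcd w hw⟩
  rw [hkern]
  refine ⟨hset, hHf, fun v hv w hw => ?_⟩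
  have hd2 := sq_eq_one S hK hd₀S
  refine inv_injective ?_
  rw [← hinv d₀ hd₀S hd₀1 hcd₀ _ (mul_mem hv hw), mul_inv_rev w, ← hinv d₀ hd₀S hd₀1 hcd₀ v hv,
    ← hinv d₀ hd₀S hd₀1 hcd₀ w hw]
  calc d₀ * (v * w) * d₀ = d₀ * v * (d₀ * d₀) * w * d₀ := by rw [hd2]; group
    _ = d₀ * v * d₀ * (d₀ * w * d₀) := by group

theorem mem_kern {c d w : G} (hcS : c ∈ (S : Subgroup G)) (hdS : d ∈ (S : Subgroup G)) (hc1 : c ≠ 1)
    (hd1 : d ≠ 1) (hcd : c ≠ d) :
    w ∈ kern (S : Subgroup G) c ↔ w ∈ Oc[c] ∧ d * w * d = w⁻¹ :=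
  (hc.kern_spec S hK hcS hc1).1 d hdS hd1 hcd w

theorem kern_le {c : G} (hcS : c ∈ (S : Subgroup G)) (hc1 : c ≠ 1) :
    kern (S : Subgroup G) c ≤ Oc[c] := fun w hw => by
  obtain ⟨d, hdS, hd1, hcd⟩ := hc.exists_other S hK (c := c)
  exact ((hc.mem_kern S hK hcS hdS hc1 hd1 hcd).1 hw).1

theorem odd_kern {c : G} (hcS : c ∈ (S : Subgroup G)) (hc1 : c ≠ 1) :
    Odd (Nat.card ↥(kern (S : Subgroup G) c)) :=
  (odd_oddElts_centralizer S hK hcS hc1).of_dvd_nat (Subgroup.card_dvd_of_le (hc.kern_le S hK hcS hc1))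

/-- `O(C(c))` is the product of `O(C(S))` and the kernel. -/
theorem kern_decomp {c o : G} (hcS : c ∈ (S : Subgroup G)) (hc1 : c ≠ 1) (ho : o ∈ Oc[c]) :
    ∃ e ∈ Ec, ∃ v ∈ kern (S : Subgroup G) c, o = e * v := by
  obtain ⟨d, hdS, hd1, hcd⟩ := hc.exists_other S hK (c := c)
  have hd2 := sq_eq_one S hK hdS
  obtain ⟨y, v, hy, hyf, hv, hvi, e⟩ := RankOneInvol.exists_fixed_mul_inverted
    (odd_oddElts_centralizer S hK hcS hc1) hd2
    (fun t ht => conj_mem_of_le_normalizer (sylow_le_normalizer_oddElts S hK hcS) hdS hd2 ht) ho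
  exact ⟨y, mem_oddElts_of (hc.mem_centralizer_sylow_of_pair S hK hcS hdS hc1 hd1 hcd
      (Subgroup.mem_centralizer_singleton_iff.1 (oddElts_le _ hy)) ((sq_conj_eq_iff hd2).1 hyf))
      ((mem_oddElts_centralizer S hK hcS hc1).1 hy).2,
    v, (hc.mem_kern S hK hcS hdS hc1 hd1 hcd).2 ⟨hv, hvi⟩, e⟩

theorem kern_normal {c g w : G} (hcS : c ∈ (S : Subgroup G)) (hc1 : c ≠ 1) (hg : g ∈ Cc[c])
    (hw : w ∈ kern (S : Subgroup G) c) : g * w * g⁻¹ ∈ kern (S : Subgroup G) c := by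
  obtain ⟨o, ho, s, hs, rfl⟩ := centralizer_eq_mul S hK hcS hc1 hg
  obtain ⟨d, hdS, hd1, hcd⟩ := hc.exists_other S hK (c := c)
  have key : ∀ g, g * d = d * g → g * c = c * g → ∀ w ∈ kern (S : Subgroup G) c,
      g * w * g⁻¹ ∈ kern (S : Subgroup G) c := fun g hgd hgc w hw => by
    obtain ⟨h1, h2⟩ := (hc.mem_kern S hK hcS hdS hc1 hd1 hcd).1 hw
    refine (hc.mem_kern S hK hcS hdS hc1 hd1 hcd).2 ⟨conj_mem_oddElts
      (Subgroup.le_normalizer (Subgroup.mem_centralizer_singleton_iff.2 hgc)) h1, ?_⟩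
    have e : g⁻¹ * d = d * g⁻¹ := (Commute.inv_left hgd).eq
    calc d * (g * w * g⁻¹) * d = d * g * w * (g⁻¹ * d) := by group
      _ = g * d * w * (d * g⁻¹) := by rw [← hgd, e]
      _ = g * (d * w * d) * g⁻¹ := by group
      _ = (g * w * g⁻¹)⁻¹ := by rw [h2]; group
  obtain ⟨e, he, v, hv, rfl⟩ := hc.kern_decomp S hK hcS hc1 ho
  have h1 := key s (comm_of_mem S hK hs hdS) (comm_of_mem S hK hs hcS) w hw
  rw [show e * v * s * w * (e * v * s)⁻¹ = e * (v * (s * w * s⁻¹) * v⁻¹) * e⁻¹ by group,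
    (hc.kern_spec S hK hcS hc1).2.2 v hv _ h1, mul_inv_cancel_right]
  exact key e (Subgroup.mem_centralizer_iff.1 (oddElts_le _ he) d hdS).symm
    (Subgroup.mem_centralizer_iff.1 (oddElts_le _ he) c hcS).symm _ h1

theorem kern_prime {c w : G} (hcS : c ∈ (S : Subgroup G)) (hc1 : c ≠ 1)
    (hw : w ∈ kern (S : Subgroup G) c) (hw1 : w ≠ 1) :
    ∃ k r, r.Prime ∧ orderOf (w ^ k) = r ∧ r ∣ kIdx (S : Subgroup G) c := by
  obtain ⟨r, hr, hrd⟩ := Nat.exists_prime_and_dvd (fun h => hw1 (orderOf_eq_one_iff.1 h))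
  obtain ⟨m, hm⟩ := hrd
  have hm0 : m ≠ 0 := fun h0 => by
    have := orderOf_pos w; rw [hm, h0, mul_zero] at this; omega
  refine ⟨m, r, hr, ?_, ?_⟩
  · rw [orderOf_pow' _ hm0, Nat.gcd_eq_right ⟨r, by rw [hm]; ring⟩, hm,
      Nat.mul_div_cancel _ (Nat.pos_of_ne_zero hm0)]
  · have h1 := orderOf_dvd_natCard (⟨w, hw⟩ : ↥(kern (S : Subgroup G) c))
    rw [Subgroup.orderOf_mk, (hc.kern_spec S hK hcS hc1).2.1] at h1
    exact (hm ▸ dvd_mul_right r m).trans h1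

/-- No proper subgroup meets the kernels of two involutions. -/
theorem two_kern {U : Subgroup G} (hU : U ≠ ⊤) (hSU : (S : Subgroup G) ≤ U) {c d y i : G}
    (hcS : c ∈ (S : Subgroup G)) (hdS : d ∈ (S : Subgroup G)) (hc1 : c ≠ 1) (hd1 : d ≠ 1)
    (hcd : c ≠ d) {q r : ℕ} [hqp : Fact q.Prime] [hrp : Fact r.Prime]
    (hy : y ∈ kern (S : Subgroup G) c) (hyU : y ∈ U) (hyq : orderOf y = q)
    (hi : i ∈ kern (S : Subgroup G) d) (hiU : i ∈ U) (hir : orderOf i = r) : False := by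
  obtain ⟨hyO, hyd⟩ := (hc.mem_kern S hK hcS hdS hc1 hd1 hcd).1 hy
  obtain ⟨hiO, hic⟩ := (hc.mem_kern S hK hdS hcS hd1 hc1 hcd.symm).1 hi
  have hyodd := ((mem_oddElts_centralizer S hK hcS hc1).1 hyO).2
  have hiodd := ((mem_oddElts_centralizer S hK hdS hd1).1 hiO).2
  have hyc := Subgroup.mem_centralizer_singleton_iff.1 (oddElts_le _ hyO)
  have hid := Subgroup.mem_centralizer_singleton_iff.1 (oddElts_le _ hiO)
  have hnum : ∀ {σ : Set ℕ} {p : ℕ} [Fact p.Prime], p ∈ σ → PiNum σ p := fun {σ p} _ hp l hl hld => by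
    rwa [(Nat.prime_dvd_prime_iff_eq hl Fact.out).1 hld]
  have hy1 : y ≠ 1 := fun h => hqp.out.ne_one (by rw [← hyq, h, orderOf_one])
  have hi1 : i ≠ 1 := fun h => hrp.out.ne_one (by rw [← hir, h, orderOf_one])
  have hyi : Inv (S : Subgroup G) {q} (Subgroup.zpowers y) :=
    hc.inv_zpowers S hK hcS hdS hc1 hd1 hcd hyc hyd hyodd (hyq.symm ▸ hnum rfl)
  have hii : Inv (S : Subgroup G) {r} (Subgroup.zpowers i) :=
    hc.inv_zpowers S hK hdS hcS hd1 hc1 hcd.symm hid hic hiodd (hir.symm ▸ hnum rfl)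
  have hq : Iota (S : Subgroup G) q := hc.iota_of_dvd S hK hcS hc1 hqp.out (by
    rw [← hyq, ← (hc.kern_spec S hK hcS hc1).2.1]
    simpa using orderOf_dvd_natCard (⟨y, hy⟩ : ↥(kern (S : Subgroup G) c)))
  have hr : Iota (S : Subgroup G) r := hc.iota_of_dvd S hK hdS hd1 hrp.out (by
    rw [← hir, ← (hc.kern_spec S hK hdS hd1).2.1]
    simpa using orderOf_dvd_natCard (⟨i, hi⟩ : ↥(kern (S : Subgroup G) d)))
  by_cases hqr : q = r
  · subst hqr
    exact hc.zpowers_ne_bot' S hK hi1 (hc.iota_lambda S hK hq hU hSU hcS hdS hc1 hd1 hcd hyi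
      (Subgroup.zpowers_le.2 hyU) (hc.zpowers_le_centralizer S hK hyc) hii
      (Subgroup.zpowers_le.2 hiU) (hc.zpowers_le_centralizer S hK hid) (hc.zpowers_ne_bot' S hK hy1))
  have hX := hc.odd_oPart S hK hU
  have hSX := hSU.trans (hc.le_normalizer_oPart S hU hSU)
  obtain ⟨H₁, hH₁, hSH₁, hyH₁⟩ := hc.exists_invHall S hK {q, r} hX hSX
    (hc.le_oPart S hK hU hSU (Subgroup.zpowers_le.2 hyU) hyi.2.1 hyi.1) hyi.1
    (fun p hp hd => Set.mem_insert_iff.2 (Or.inl (hyi.2.2 p hp hd)))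
  obtain ⟨H₂, hH₂, hSH₂, hiH₂⟩ := hc.exists_invHall S hK {q, r} hX hSX
    (hc.le_oPart S hK hU hSU (Subgroup.zpowers_le.2 hiU) hii.2.1 hii.1) hii.1
    (fun p hp hd => Set.mem_insert_of_mem q (hii.2.2 p hp hd))
  obtain ⟨e, he, -, heq⟩ := hc.invHall_conj S hK {q, r} hX hSX hH₂ hSH₂ hH₁ hSH₁
  have hH₁i := hc.inv_of_hall S hK hX hH₁ hSH₁
  set i' := e * i * e⁻¹ with hi'
  have hi'H : i' ∈ H₁ := heq ▸ conj_mem_conjBy (hiH₂ (Subgroup.mem_zpowers i))
  have hfc := hc.conj_fixed_of_mem_oddElts S hK hcS he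
  have hi'c : c * i' * c = i'⁻¹ := by
    rw [hi', ← hfc, show e * c * e⁻¹ * (e * i * e⁻¹) * (e * c * e⁻¹) = e * (c * i * c) * e⁻¹ by group,
      hic]
    group
  have hi'd : i' ∈ Cc[d] := hc.conj_mem_centralizer_of_oddElts S hK hdS he (oddElts_le _ hiO)
  have hi'odd : Odd (orderOf i') := RankOneInvol.odd_orderOf_conj hiodd e
  have hi'i : Inv (S : Subgroup G) {r} (Subgroup.zpowers i') :=
    hc.inv_zpowers S hK hdS hcS hd1 hc1 hcd.symm (Subgroup.mem_centralizer_singleton_iff.1 hi'd) hi'c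
      hi'odd (by rw [hi', orderOf_conj_eq, hir]; exact hnum rfl)
  have hi'1 : i' ≠ 1 := fun h => hi1 (conj_eq_one_iff.1 h)
  -- a commuting pair
  obtain ⟨t, w, ht, htd, ht1, htq, hwd, hwc, hw1, hwo, htw⟩ : ∃ t w : G, t ∈ Cc[c] ∧
      d * t * d = t⁻¹ ∧ t ≠ 1 ∧ PiNum {q} (orderOf t) ∧ w ∈ Cc[d] ∧ c * w * c = w⁻¹ ∧ w ≠ 1 ∧
      Odd (orderOf w) ∧ t * w = w * t := by
    by_cases hT : oPrime r H₁ = ⊥
    swap
    · have hTi : Inv (S : Subgroup G) {q} (oPrime r H₁) := hc.oPrime_inv S hK hH₁i fun l hl hlr =>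
        (Set.mem_insert_iff.1 hl).resolve_right hlr
      have hTc := hc.normal_le_centralizer S hK hq hH₁i.2.1 hSH₁ hTi (OddOrder.oPrime_le _)
        (OddOrder.oPrime_normal _) hyi hyH₁ (hc.zpowers_ne_bot' S hK hy1) hcS hc1
        (hc.zpowers_le_centralizer S hK hyc)
      obtain ⟨t, ht, ht1⟩ := Subgroup.bot_or_exists_ne_one (oPrime r H₁) |>.resolve_left hT
      refine ⟨t, i', hTc ht, hc.iota_inverted S hK hq hTi hcS hdS hc1 hd1 hcd hTc ht, ht1,
        hTi.2.2.dvd ?_, hi'd, hi'c, hi'1, hi'odd, (commute_of_inverted_fixed (sq_eq_one S hK hcS)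
          (fun v hv => (sq_conj_eq_iff (sq_eq_one S hK hcS)).2
            (Subgroup.mem_centralizer_singleton_iff.1 (hTc hv))) hi'c hi'odd
          (OddOrder.oPrime_normal _ hi'H) ht).symm⟩
      simpa using orderOf_dvd_natCard (⟨t, ht⟩ : ↥(oPrime r H₁))
    by_cases hT' : oPrime q H₁ = ⊥
    · exfalso
      haveI : Nontrivial ↥H₁ := ⟨⟨y, hyH₁ (Subgroup.mem_zpowers y)⟩, 1, fun h => hy1 (congrArg Subtype.val h)⟩
      obtain ⟨p, A, hp, hA, hAp, hAne⟩ := CharCorr.exists_normal_pGroup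
        (CfsgLib.PF.oddSolvable _ hH₁i.2.1 : Group.IsSolvable ↥H₁)
      haveI := Fact.mk hp
      obtain ⟨k, hk⟩ := (IsPGroup.iff_card (p := p)).1 hAp
      have hle : ∀ l, l.Prime → l ≠ p → A.map H₁.subtype ≤ oPrime l H₁ := fun l hl hlp =>
        OddOrder.le_oPrime (Subgroup.map_subtype_le A)
          ((Subgroup.normal_subgroupOf_iff_le_normalizer (Subgroup.map_subtype_le A)).1 (by
            rw [Subgroup.subgroupOf, Subgroup.comap_map_eq_self_of_injective H₁.subtype_injective]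
            exact hA))
          (by rw [Subgroup.card_map_of_injective H₁.subtype_injective, hk]
              exact Nat.Coprime.pow_left k ((Nat.coprime_primes hp hl).2 hlp.symm))
      refine hAne ((Subgroup.map_eq_bot_iff_of_injective A H₁.subtype_injective).1 (le_bot_iff.1 ?_))
      by_cases hpq : p = q
      · exact (hle r hrp.out (hpq ▸ Ne.symm hqr)).trans hT.le
      · exact (hle q hqp.out (Ne.symm hpq)).trans hT'.le
    · have hTi : Inv (S : Subgroup G) {r} (oPrime q H₁) := hc.oPrime_inv S hK hH₁i fun l hl hlq =>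
        ((Set.mem_insert_iff.1 hl).resolve_left hlq)
      have hTd := hc.normal_le_centralizer S hK hr hH₁i.2.1 hSH₁ hTi (OddOrder.oPrime_le _)
        (OddOrder.oPrime_normal _) hi'i (Subgroup.zpowers_le.2 hi'H) (hc.zpowers_ne_bot' S hK hi'1)
        hdS hd1 (Subgroup.zpowers_le.2 hi'd)
      obtain ⟨w, hw, hw1⟩ := Subgroup.bot_or_exists_ne_one (oPrime q H₁) |>.resolve_left hT'
      refine ⟨y, w, oddElts_le _ hyO, hyd, hy1, hyq.symm ▸ hnum rfl, hTd hw,
        hc.iota_inverted S hK hr hTi hdS hcS hd1 hc1 hcd.symm hTd hw, hw1,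
        RankOneInvol.odd_orderOf_of_mem hTi.2.1 hw, commute_of_inverted_fixed (sq_eq_one S hK hdS)
          (fun v hv => (sq_conj_eq_iff (sq_eq_one S hK hdS)).2
            (Subgroup.mem_centralizer_singleton_iff.1 (hTd hv))) hyd hyodd
          (OddOrder.oPrime_normal _ (hyH₁ (Subgroup.mem_zpowers y))) hw⟩
  -- move `w` over `c`
  have htodd : Odd (orderOf t) := by
    have hq2 : q ≠ 2 := fun h => by
      rw [hyq, h] at hyodd; exact absurd hyodd (by decide)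
    exact Nat.not_even_iff_odd.1 fun he => hq2 ((htq 2 Nat.prime_two he.two_dvd :) ▸ rfl)
  obtain ⟨n, hn, hnd, hnc, -⟩ := hc.exists_shift S hK hdS hcS hd1 hc1 hcd.symm
  set j := n * w * n⁻¹ with hj
  have hb1 : d * c ≠ 1 := hc.mul_ne_one_of_ne S hK hdS hcd.symm
  have hcb : c ≠ d * c := fun h => hd1 (mul_right_cancel (b := c) (by rw [one_mul]; exact h.symm))
  have hjc : j * c = c * j := by
    rw [← hnd]; exact Subgroup.mem_centralizer_singleton_iff.1 (conj_mem_centralizer hwd)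
  have hjb : (d * c) * j * (d * c) = j⁻¹ := by
    rw [← hnc, hj,
      show n * c * n⁻¹ * (n * w * n⁻¹) * (n * c * n⁻¹) = n * (c * w * c) * n⁻¹ by group, hwc]
    group
  have hjodd : Odd (orderOf j) := RankOneInvol.odd_orderOf_conj hwo n
  have hj1 : j ≠ 1 := fun h => hw1 (conj_eq_one_iff.1 h)
  have hjF : j ∈ kern (S : Subgroup G) c := (hc.mem_kern S hK hcS (mul_mem hdS hcS) hc1 hb1 hcb).2
    ⟨mem_oddElts_of (Subgroup.mem_centralizer_singleton_iff.2 hjc) hjodd, hjb⟩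
  have htF : t ∈ kern (S : Subgroup G) c :=
    (hc.mem_kern S hK hcS hdS hc1 hd1 hcd).2 ⟨mem_oddElts_of ht htodd, htd⟩
  have hcomm : ∀ g, j * g = g * j → g ∈ Subgroup.normalizer (Subgroup.zpowers j : Set G) :=
    fun g hg => Subgroup.centralizer_le_normalizer _ (by
      rw [Subgroup.zpowers_eq_closure, Subgroup.centralizer_closure]
      exact Subgroup.mem_centralizer_singleton_iff.2 hg.symm)
  have hti : Inv (S : Subgroup G) {q} (Subgroup.zpowers t) :=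
    hc.inv_zpowers S hK hcS hdS hc1 hd1 hcd (Subgroup.mem_centralizer_singleton_iff.1 ht) htd htodd htq
  have hSU' : (S : Subgroup G) ≤ Subgroup.normalizer (Subgroup.zpowers j : Set G) :=
    (hc.inv_zpowers (σ := Set.univ) S hK hcS (mul_mem hdS hcS) hc1 hb1 hcb hjc hjb hjodd
      fun _ _ _ => Set.mem_univ _).1
  have h0 := hc.iota_lambda S hK hq (hc.normalizer_zpowers_ne_top S hK hj1 hjodd) hSU' hcS
    (mul_mem hdS hcS) hc1 hb1 hcb hti
    (Subgroup.zpowers_le.2 (hcomm t ((hc.kern_spec S hK hcS hc1).2.2 j hjF t htF)))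
    (Subgroup.zpowers_le.2 ht) (hc.inv_conj S hK hti hn)
    (conjBy_le.2 fun v hv => hcomm _ (by
      have h1 : Commute v w := by
        obtain ⟨k, rfl⟩ := Subgroup.mem_zpowers_iff.1 hv
        exact (show Commute t w from htw).zpow_left k
      rw [hj, show n * w * n⁻¹ * (n * v * n⁻¹) = n * (w * v) * n⁻¹ by group, ← h1.eq]; group))
    (conjBy_le.2 fun v hv => hnc ▸ conj_mem_centralizer (Subgroup.zpowers_le.2 ht hv))
    (hc.zpowers_ne_bot' S hK ht1)
  have h2 := card_conjBy n (Subgroup.zpowers t)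
  rw [h0, Subgroup.card_bot] at h2
  exact hc.zpowers_ne_bot' S hK ht1 (Subgroup.card_eq_one.1 h2.symm)

/-- The normaliser of a prime-order element of the kernel. -/
theorem normalizer_kern_le {c y : G} (hcS : c ∈ (S : Subgroup G)) (hc1 : c ≠ 1)
    (hy : y ∈ kern (S : Subgroup G) c) {q : ℕ} [hqp : Fact q.Prime] (hyq : orderOf y = q) :
    Subgroup.normalizer (Subgroup.zpowers y : Set G) ≤ Cc[c] := by
  haveI : Fact (Nat.Prime 2) := ⟨Nat.prime_two⟩
  obtain ⟨d, hdS, hd1, hcd⟩ := hc.exists_other S hK (c := c)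
  obtain ⟨hyO, hyd⟩ := (hc.mem_kern S hK hcS hdS hc1 hd1 hcd).1 hy
  have hyc := Subgroup.mem_centralizer_singleton_iff.1 (oddElts_le _ hyO)
  have hyodd := ((mem_oddElts_centralizer S hK hcS hc1).1 hyO).2
  have hy1 : y ≠ 1 := fun h => hqp.out.ne_one (by rw [← hyq, h, orderOf_one])
  set U := Subgroup.normalizer (Subgroup.zpowers y : Set G)
  have hU : U ≠ ⊤ := hc.normalizer_zpowers_ne_top S hK hy1 hyodd
  have hSU : (S : Subgroup G) ≤ U := (hc.inv_zpowers (σ := Set.univ) S hK hcS hdS hc1 hd1 hcd hyc hyd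
    hyodd fun _ _ _ => Set.mem_univ _).1
  have hX := hc.odd_oPart S hK hU
  have hSX := hSU.trans (hc.le_normalizer_oPart S hU hSU)
  have hXc : oPart π (S : Subgroup G) U ≤ Cc[c] := hc.le_of_gen S hK hX hSX fun e he he1 => by
    by_cases hce : c = e
    · rw [← hce]; exact inf_le_right
    intro w hw
    have hc2 := sq_eq_one S hK hcS
    refine Subgroup.mem_centralizer_singleton_iff.2 (commute_of_no_inverted
      (X := oPart π (S : Subgroup G) U ⊓ Cc[e]) (hX.of_dvd_nat (Subgroup.card_dvd_of_le inf_le_left))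
      hc2 (fun v hv => ⟨conj_mem_of_le_normalizer hSX hcS hc2 hv.1, Subgroup.mul_mem _
        (Subgroup.mul_mem _ (sylow_le_centralizer S hK he hcS) hv.2) (sylow_le_centralizer S hK he hcS)⟩)
      (fun v hv hvc => by_contra fun hv1 => ?_) hw)
    have hvF : v ∈ kern (S : Subgroup G) e := (hc.mem_kern S hK he hcS he1 hc1 (Ne.symm hce)).2
      ⟨mem_oddElts_of hv.2 (RankOneInvol.odd_orderOf_of_mem hX hv.1), hvc⟩
    obtain ⟨k, r, hr, hord, -⟩ := hc.kern_prime S hK he he1 hvF hv1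
    haveI := Fact.mk hr
    exact hc.two_kern S hK hU hSU hcS he hc1 he1 hce hy (Subgroup.le_normalizer (Subgroup.mem_zpowers y))
      hyq (pow_mem hvF k) (pow_mem (oPart_le _ _ _ hv.1) k) hord
  intro u hu
  obtain ⟨k, hk, n, hnU, hnS, rfl⟩ := hc.exists_mul_normalizer hU (OddOrder.sylowOf_of_sylow S hSU) hu
  refine mul_mem (hXc (le_sup_left (a := core π U) hk)) (Subgroup.mem_centralizer_singleton_iff.2 ?_)
  refine conj_fix_iff.1 (by_contra fun hne => hy1 ?_)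
  set c' := n * c * n⁻¹
  have hc'S : c' ∈ (S : Subgroup G) := (Subgroup.mem_normalizer_iff.1 hnS c).1 hcS
  have hc'1 : c' ≠ 1 := fun h => hc1 (conj_eq_one_iff.1 h)
  obtain ⟨j, hj⟩ := Subgroup.mem_zpowers_iff.1 (conj_zpowers_mem hnU (Subgroup.mem_zpowers y))
  have h1 : (n * y * n⁻¹) * c = c * (n * y * n⁻¹) := by
    rw [← hj]; exact ((show Commute y c from hyc).zpow_left j).eq
  have h2 := Subgroup.mem_centralizer_iff.1 (hc.mem_centralizer_sylow_of_pair S hK hcS hc'S hc1 hc'1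
    (Ne.symm hne) h1 (Subgroup.mem_centralizer_singleton_iff.1 (conj_mem_centralizer
      (Subgroup.mem_centralizer_singleton_iff.2 hyc)))) d hdS
  have h3 : d * (n * y * n⁻¹) * d = (n * y * n⁻¹)⁻¹ := by
    have hd2 := sq_eq_one S hK hdS
    have hdi : d⁻¹ = d := inv_eq_of_mul_eq_one_right hd2
    rw [← hj]
    nth_rw 2 [← hdi]
    rw [← conj_zpow, hdi, hyd, inv_zpow]
  have h4 : n * y * n⁻¹ = (n * y * n⁻¹)⁻¹ := by
    calc n * y * n⁻¹ = (n * y * n⁻¹) * (d * d) := by rw [sq_eq_one S hK hdS, mul_one]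
      _ = d * (n * y * n⁻¹) * d := by rw [← mul_assoc, ← h2]
      _ = _ := h3
  exact conj_eq_one_iff.1 (RankOneInvol.eq_one_of_sq_of_odd (RankOneInvol.odd_orderOf_conj hyodd n)
    (by nth_rw 1 [h4]; exact inv_mul_cancel _))

/-- The kernel is a TI-subgroup with normaliser `C(c)`. -/
theorem kern_ti {c y g : G} (hcS : c ∈ (S : Subgroup G)) (hc1 : c ≠ 1)
    (hy : y ∈ kern (S : Subgroup G) c) (hy1 : y ≠ 1) (hgy : g * y * g⁻¹ ∈ kern (S : Subgroup G) c) :
    g ∈ Cc[c] := by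
  obtain ⟨k, q, hq, hord, -⟩ := hc.kern_prime S hK hcS hc1 hy hy1
  haveI := Fact.mk hq
  set y' := y ^ k
  have hgy' : g * y' * g⁻¹ ∈ kern (S : Subgroup G) c := by rw [← conj_pow]; exact pow_mem hgy k
  have hy'F : y' ∈ kern (S : Subgroup G) c := pow_mem hy k
  have hy'1 : y' ≠ 1 := fun h => hq.ne_one (by rw [← hord, h, orderOf_one])
  have hy'odd : Odd (orderOf y') := RankOneInvol.odd_orderOf_of_mem (hc.odd_kern S hK hcS hc1) hy'F
  set z' := g⁻¹ * c * g with hz'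
  have hz'y : z' * y' = y' * z' := by
    have h := Subgroup.mem_centralizer_singleton_iff.1 (oddElts_le _ (hc.kern_le S hK hcS hc1 hgy'))
    calc z' * y' = g⁻¹ * (c * (g * y' * g⁻¹)) * g := by rw [hz']; group
      _ = g⁻¹ * ((g * y' * g⁻¹) * c) * g := by rw [h]
      _ = y' * z' := by rw [hz']; group
  have hz'C : z' ∈ Cc[c] := hc.normalizer_kern_le S hK hcS hc1 hy'F hord
    (Subgroup.centralizer_le_normalizer _ (by
      rw [Subgroup.zpowers_eq_closure, Subgroup.centralizer_closure]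
      exact Subgroup.mem_centralizer_singleton_iff.2 hz'y))
  obtain ⟨o, ho, s, hs, hos⟩ := centralizer_eq_mul S hK hcS hc1 hz'C
  have hs2 := sq_eq_one S hK hs
  have hoodd := ((mem_oddElts_centralizer S hK hcS hc1).1 ho).2
  have hsi : s⁻¹ = s := inv_eq_of_mul_eq_one_right hs2
  have hsy : o * (s * y' * s) * o⁻¹ = y' := by
    calc o * (s * y' * s) * o⁻¹ = o * s * y' * (o * s)⁻¹ := by rw [mul_inv_rev, hsi]; group
      _ = z' * y' * z'⁻¹ := by rw [hos]
      _ = y' := by rw [hz'y, mul_inv_cancel_right]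
  have hs' : s = 1 ∨ s = c := by
    by_contra hcon
    push Not at hcon
    rw [((hc.mem_kern S hK hcS hs hc1 hcon.1 (Ne.symm hcon.2)).1 hy'F).2] at hsy
    refine hy'1 (inv_eq_one.1 (RankOneInvol.eq_one_of_conj_eq_inv (x := y'⁻¹) hoodd
      (by rwa [orderOf_inv]) ?_))
    rw [inv_inv]; exact hsy
  have hoc : s * o * s = o := by
    rcases hs' with rfl | rfl
    · simp
    · exact (sq_conj_eq_iff hs2).2 (Subgroup.mem_centralizer_singleton_iff.1 (oddElts_le _ ho))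
  have hz2 : z' * z' = 1 := by
    rw [hz', show g⁻¹ * c * g * (g⁻¹ * c * g) = g⁻¹ * (c * c) * g by group, sq_eq_one S hK hcS]; group
  have ho1 : o = 1 := RankOneInvol.eq_one_of_sq_of_odd hoodd (by
    calc o * o = o * (s * o * s) := by rw [hoc]
      _ = o * s * (o * s) := by group
      _ = 1 := by rw [← hos]; exact hz2)
  rw [ho1, one_mul] at hos
  have hz'c : z' = c := by
    rcases hs' with rfl | rfl
    · exfalso; apply hc1
      calc c = g * z' * g⁻¹ := by rw [hz']; group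
        _ = 1 := by rw [hos]; group
    · exact hos
  refine Subgroup.mem_centralizer_singleton_iff.2 ?_
  calc g * c = g * z' := by rw [hz'c]
    _ = c * g := by rw [hz']; group

end Crit

end CfsgLib.PiHom
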