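import Cfsg.Agent.Lib.PiHom.UnitaryCentral
import Cfsg.Agent.Lib.Involutions.KleinBlock
import Cfsg.Agent.S3745

/-!
# Klein four Sylow 2-subgroup: the odd elements of the local subgroups

`oddElts (C(c))` is the normal 2-complement of the centraliser of an involution `c` of `S`,
`oddElts (C(S))` is the normal complement of `S` in `C(S)`, and for a proper subgroup `U`
containing `S` every `S`-invariant odd subgroup of `U` lies in `oPart π S U`.
-/

set_option autoImplicit false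
set_option linter.style.haveILetI false
set_option linter.unusedSectionVars false

namespace CfsgLib.PiHom

open CfsgLib.OddOrder (SylowOf)
open CfsgLib.Involutions

universe u

variable {π : Set ℕ} {G : Type u} [Group G] [Finite G]

/-- the group generated by the elements of odd order of `U` -/
def oddElts {G : Type u} [Group G] (U : Subgroup G) : Subgroup G :=
  Subgroup.closure {x : G | x ∈ U ∧ Odd (orderOf x)}

/-- the odd part of a subgroup containing `S` -/
def oPart {G : Type u} [Group G] (π : Set ℕ) (S U : Subgroup G) : Subgroup G :=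
  core π U ⊔ (oddElts (Subgroup.centralizer (S : Set G)) ⊓ U)

omit [Finite G] in
theorem oddElts_le (U : Subgroup G) : oddElts U ≤ U := (Subgroup.closure_le _).2 fun _ hx => hx.1

omit [Finite G] in
theorem mem_oddElts_of {U : Subgroup G} {x : G} (hx : x ∈ U) (h : Odd (orderOf x)) :
    x ∈ oddElts U := Subgroup.subset_closure ⟨hx, h⟩

omit [Finite G] in
theorem conj_mem_oddElts {U : Subgroup G} {g x : G} (hg : g ∈ Subgroup.normalizer (U : Set G))
    (hx : x ∈ oddElts U) : g * x * g⁻¹ ∈ oddElts U := by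
  induction hx using Subgroup.closure_induction with
  | mem y hy =>
    exact mem_oddElts_of ((Subgroup.mem_normalizer_iff.1 hg y).1 hy.1)
      (RankOneInvol.odd_orderOf_conj hy.2 g)
  | one => simp
  | mul a b _ _ ha hb =>
    rw [show g * (a * b) * g⁻¹ = (g * a * g⁻¹) * (g * b * g⁻¹) by group]
    exact mul_mem ha hb
  | inv a _ ha =>
    rw [show g * a⁻¹ * g⁻¹ = (g * a * g⁻¹)⁻¹ by group]
    exact inv_mem ha

omit [Finite G] in
theorem oPart_le (π : Set ℕ) (S U : Subgroup G) : oPart π S U ≤ U :=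
  sup_le (core_le U) inf_le_right

theorem odd_card_of_forall {X : Subgroup G} (h : ∀ x ∈ X, Odd (orderOf x)) :
    Odd (Nat.card ↥X) := by
  refine Nat.not_even_iff_odd.1 fun he => ?_
  haveI : Fact (Nat.Prime 2) := ⟨Nat.prime_two⟩
  obtain ⟨y, hy⟩ := exists_prime_orderOf_dvd_card' 2 he.two_dvd
  have h1 := h y y.2
  rw [Subgroup.orderOf_coe, hy] at h1
  exact absurd h1 (by decide)

omit [Finite G] in
theorem mem_of_mul_sq {O : Subgroup G} {o s y : G} (hs : s ∈ Subgroup.normalizer (O : Set G))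
    (hs2 : s * s = 1) (ho : o ∈ O) (hy : y = o * s) (hodd : Odd (orderOf y)) : y ∈ O := by
  obtain ⟨k, hk⟩ := RankOneInvol.exists_pow_sq_eq hodd
  rw [← hk, ← (Commute.refl y).mul_pow]
  refine pow_mem ?_ k
  have hsi : s⁻¹ = s := inv_eq_of_mul_eq_one_right hs2
  have h := (Subgroup.mem_normalizer_iff.1 hs o).1 ho
  rw [hsi] at h
  rw [hy, show o * s * (o * s) = o * (s * o * s) by group]
  exact mul_mem ho h

omit [Finite G] in
theorem exists_mul_pow_eq {O : Subgroup G} {k n : G} (hn : n ∈ Subgroup.normalizer (O : Set G))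
    (hk : k ∈ O) : ∀ m : ℕ, ∃ k' ∈ O, (k * n) ^ m = k' * n ^ m
  | 0 => ⟨1, one_mem _, by simp⟩
  | m + 1 => by
    obtain ⟨k', hk', e⟩ := exists_mul_pow_eq hn hk m
    refine ⟨k' * (n ^ m * k * (n ^ m)⁻¹),
      mul_mem hk' ((Subgroup.mem_normalizer_iff.1 (pow_mem hn m) k).1 hk), ?_⟩
    rw [pow_succ, e, pow_succ]
    group

omit [Finite G] in
theorem mul_conj_mem_core {U : Subgroup G} {c k : G} (hc : c ∈ U) (hc2 : c * c = 1)
    (hk : k ∈ core π U) : k⁻¹ * c * k * c ∈ core π U := by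
  have h := conj_mem_core (Subgroup.le_normalizer hc) hk
  rw [inv_eq_of_mul_eq_one_right hc2] at h
  rw [show k⁻¹ * c * k * c = k⁻¹ * (c * k * c) by group]
  exact mul_mem (inv_mem hk) h

/-- An involution with no inverted element in an odd subgroup centralises it. -/
theorem commute_of_no_inverted {X : Subgroup G} (hX : Odd (Nat.card ↥X)) {c : G} (hc2 : c * c = 1)
    (hn : ∀ w ∈ X, c * w * c ∈ X) (h : ∀ w ∈ X, c * w * c = w⁻¹ → w = 1) {w : G} (hw : w ∈ X) :
    w * c = c * w := by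
  obtain ⟨y, v, -, hy, hv, hv', rfl⟩ := RankOneInvol.exists_fixed_mul_inverted hX hc2 hn hw
  rw [h v hv hv', mul_one]
  calc y * c = c * y * c * c := by rw [hy]
    _ = c * y := by rw [mul_assoc _ c c, hc2, mul_one]

omit [Finite G] in
theorem conj_mem_of_le_normalizer {T X : Subgroup G} (hT : T ≤ Subgroup.normalizer (X : Set G))
    {c : G} (hc : c ∈ T) (hc2 : c * c = 1) {w : G} (hw : w ∈ X) : c * w * c ∈ X := by
  have h := (Subgroup.mem_normalizer_iff.1 (hT hc) w).1 hw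
  rwa [inv_eq_of_mul_eq_one_right hc2] at h

omit [Finite G] in
theorem sq_conj_eq_iff {c w : G} (hc2 : c * c = 1) : c * w * c = w ↔ w * c = c * w := by
  constructor
  · intro h
    calc w * c = c * w * c * c := by rw [h]
      _ = c * w := by rw [mul_assoc _ c c, hc2, mul_one]
  · intro h
    rw [← h, mul_assoc, hc2, mul_one]

namespace Crit

variable (hc : Crit π G) (S : Sylow 2 G) (hK : IsKleinFour ↥(S : Subgroup G))
include hK

theorem sq_eq_one {c : G} (hcS : c ∈ (S : Subgroup G)) : c * c = 1 := klein_mul_self S hK hcS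

theorem comm_of_mem {c d : G} (hcS : c ∈ (S : Subgroup G)) (hdS : d ∈ (S : Subgroup G)) :
    c * d = d * c :=
  congrArg Subtype.val ((klein_comm S hK).is_comm.comm (⟨c, hcS⟩ : ↥(S : Subgroup G)) ⟨d, hdS⟩)

theorem zInv_eq : zInv (S : Subgroup G) = (S : Subgroup G) :=
  le_antisymm (zInv_le _) fun c hcS =>
    ⟨hcS, klein_mul_self S hK hcS, fun _ hs => comm_of_mem S hK hs hcS⟩

theorem mem_zInv_klein {c : G} (hcS : c ∈ (S : Subgroup G)) : c ∈ zInv (S : Subgroup G) := by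
  rwa [zInv_eq S hK]

theorem sylow_le_centralizer {c : G} (hcS : c ∈ (S : Subgroup G)) :
    (S : Subgroup G) ≤ Subgroup.centralizer ({c} : Set G) :=
  fun _ hs => Subgroup.mem_centralizer_singleton_iff.2 (comm_of_mem S hK hs hcS)

theorem sylow_le_centralizer_self :
    (S : Subgroup G) ≤ Subgroup.centralizer ((S : Subgroup G) : Set G) :=
  fun _ hs => Subgroup.mem_centralizer_iff.2 fun _ ht => comm_of_mem S hK ht hs

theorem mem_oddElts_centralizer {c : G} (hcS : c ∈ (S : Subgroup G)) (hc1 : c ≠ 1) {x : G} :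
    x ∈ oddElts (Subgroup.centralizer ({c} : Set G)) ↔
      x ∈ Subgroup.centralizer ({c} : Set G) ∧ Odd (orderOf x) := by
  refine ⟨fun hx => ?_, fun h => mem_oddElts_of h.1 h.2⟩
  letI := Fintype.ofFinite G
  obtain ⟨N, -, -, hN⟩ := klein_centralizer_complement S hK (klein_orderOf S hK hcS hc1)
  obtain ⟨y, hy, rfl⟩ := (Subgroup.closure_le (K := N.map (Subgroup.centralizer ({c} : Set G)).subtype)).2
    (fun y hy => ⟨⟨y, hy.1⟩, (hN _).2 (by rw [Subgroup.orderOf_mk]; exact hy.2), rfl⟩) hx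
  exact ⟨y.2, by rw [Subgroup.coe_subtype, Subgroup.orderOf_coe]; exact (hN y).1 hy⟩

theorem odd_oddElts_centralizer {c : G} (hcS : c ∈ (S : Subgroup G)) (hc1 : c ≠ 1) :
    Odd (Nat.card ↥(oddElts (Subgroup.centralizer ({c} : Set G)))) :=
  odd_card_of_forall fun _ hx => ((mem_oddElts_centralizer S hK hcS hc1).1 hx).2

theorem four_mul_card_oddElts {c : G} (hcS : c ∈ (S : Subgroup G)) (hc1 : c ≠ 1) :
    4 * Nat.card ↥(oddElts (Subgroup.centralizer ({c} : Set G))) =
      Nat.card ↥(Subgroup.centralizer ({c} : Set G)) := by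
  letI := Fintype.ofFinite G
  obtain ⟨N, -, hcard, hN⟩ := klein_centralizer_complement S hK (klein_orderOf S hK hcS hc1)
  rw [← hcard]
  congr 1
  rw [← Subgroup.card_map_of_injective (K := N) (Subgroup.centralizer ({c} : Set G)).subtype_injective]
  congr 2
  ext x
  rw [mem_oddElts_centralizer S hK hcS hc1]
  constructor
  · rintro ⟨hx, ho⟩
    exact ⟨⟨x, hx⟩, (hN _).2 (by rw [Subgroup.orderOf_mk]; exact ho), rfl⟩
  · rintro ⟨y, hy, rfl⟩
    exact ⟨y.2, by rw [Subgroup.coe_subtype, Subgroup.orderOf_coe]; exact (hN y).1 hy⟩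

theorem sylow_le_normalizer_oddElts {c : G} (hcS : c ∈ (S : Subgroup G)) :
    (S : Subgroup G) ≤ Subgroup.normalizer (oddElts (Subgroup.centralizer ({c} : Set G)) : Set G) :=
  fun _ hs => mem_normalizer_of_conjBy_le (conjBy_le.2 fun _ hy =>
    conj_mem_oddElts (Subgroup.le_normalizer (sylow_le_centralizer S hK hcS hs)) hy)

theorem centralizer_eq_mul {c g : G} (hcS : c ∈ (S : Subgroup G)) (hc1 : c ≠ 1)
    (hg : g ∈ Subgroup.centralizer ({c} : Set G)) :
    ∃ o ∈ oddElts (Subgroup.centralizer ({c} : Set G)), ∃ s ∈ (S : Subgroup G), g = o * s := by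
  set C := Subgroup.centralizer ({c} : Set G)
  set O := oddElts C
  have hn := sylow_le_normalizer_oddElts S hK hcS
  have hle : O ⊔ (S : Subgroup G) ≤ C := sup_le (oddElts_le C) (sylow_le_centralizer S hK hcS)
  have hco : Nat.Coprime (Nat.card ↥O) (Nat.card ↥(S : Subgroup G)) := by
    rw [hK.card_four, show 4 = 2 ^ 2 from rfl]
    exact Nat.Coprime.pow_right 2 (Nat.coprime_two_right.2 (odd_oddElts_centralizer S hK hcS hc1))
  have heq : O ⊔ (S : Subgroup G) = C := by
    refine Subgroup.eq_of_le_of_card_ge hle ?_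
    rw [← four_mul_card_oddElts S hK hcS hc1, ← hK.card_four, mul_comm]
    exact Nat.le_of_dvd Nat.card_pos (hco.mul_dvd_of_dvd_of_dvd
      (Subgroup.card_dvd_of_le le_sup_left) (Subgroup.card_dvd_of_le le_sup_right))
  have h1 : g ∈ ((O ⊔ (S : Subgroup G) : Subgroup G) : Set G) := by rw [heq]; exact hg
  rw [Subgroup.coe_mul_of_right_le_normalizer_left O (S : Subgroup G) hn] at h1
  obtain ⟨o, ho, s, hs, e⟩ := h1
  exact ⟨o, ho, s, hs, e.symm⟩

include hc in
theorem mem_oddElts_centralizer_sylow {x : G} :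
    x ∈ oddElts (Subgroup.centralizer ((S : Subgroup G) : Set G)) ↔
      x ∈ Subgroup.centralizer ((S : Subgroup G) : Set G) ∧ Odd (orderOf x) := by
  refine ⟨fun hx => ⟨oddElts_le _ hx, ?_⟩, fun h => mem_oddElts_of h.1 h.2⟩
  obtain ⟨c, -, hc', -, hc1, -, -⟩ := hc.exists_zInv_pair S
  refine ((mem_oddElts_centralizer S hK hc'.1 hc1).1 ?_).2
  refine (Subgroup.closure_le (K := oddElts (Subgroup.centralizer ({c} : Set G)))).2
    (fun y hy => mem_oddElts_of ?_ hy.2) hx
  exact Subgroup.mem_centralizer_singleton_iff.2 (Subgroup.mem_centralizer_iff.1 hy.1 c hc'.1).symm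

include hc in
theorem odd_oddElts_centralizer_sylow :
    Odd (Nat.card ↥(oddElts (Subgroup.centralizer ((S : Subgroup G) : Set G)))) :=
  odd_card_of_forall fun _ hx => ((hc.mem_oddElts_centralizer_sylow S hK).1 hx).2

/-- The fixer is the complement times `S`. -/
theorem fixer_decomp {n : G} (hn : n ∈ fixer (S : Subgroup G)) :
    ∃ e ∈ oddElts (Subgroup.centralizer ((S : Subgroup G) : Set G)), ∃ s ∈ (S : Subgroup G),
      n = e * s := by
  have hcen : n ∈ Subgroup.centralizer ((S : Subgroup G) : Set G) := by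
    have := hn.2
    rwa [zInv_eq S hK] at this
  obtain ⟨⟨c, hcS⟩, hc1⟩ : ∃ c : ↥(S : Subgroup G), c ≠ 1 := by
    have : 1 < Nat.card ↥(S : Subgroup G) := by rw [hK.card_four]; omega
    haveI := Finite.one_lt_card_iff_nontrivial.1 this
    exact exists_ne _
  replace hc1 : c ≠ 1 := fun h => hc1 (Subtype.ext h)
  obtain ⟨o, ho, s, hs, rfl⟩ := centralizer_eq_mul S hK hcS hc1
    (Subgroup.mem_centralizer_singleton_iff.2 (Subgroup.mem_centralizer_iff.1 hcen c hcS).symm)
  refine ⟨o, mem_oddElts_of ?_ ((mem_oddElts_centralizer S hK hcS hc1).1 ho).2, s, hs, rfl⟩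
  have := mul_mem hcen (inv_mem (sylow_le_centralizer_self S hK hs))
  rwa [mul_inv_cancel_right] at this

include hc

theorem ne_top_of_odd {X : Subgroup G} (hX : Odd (Nat.card ↥X)) : X ≠ ⊤ := fun h => by
  rw [h, Subgroup.card_top] at hX
  exact Nat.not_even_iff_odd.2 hX (even_iff_two_dvd.2 hc.two_dvd)

theorem odd_oPart {U : Subgroup G} (hU : U ≠ ⊤) :
    Odd (Nat.card ↥(oPart π (S : Subgroup G) U)) :=
  ((hc.odd_core hU).mul (Odd.of_dvd_nat (hc.odd_oddElts_centralizer_sylow S hK)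
    (Subgroup.card_dvd_of_le inf_le_left))).of_dvd_nat
    (Structure.card_sup_dvd_mul
      (inf_le_right.trans (Subgroup.le_normalizer.trans (le_normalizer_core U))))

theorem isSolvable_oPart {U : Subgroup G} (hU : U ≠ ⊤) :
    Group.IsSolvable ↥(oPart π (S : Subgroup G) U) :=
  CfsgLib.PF.oddSolvable _ (hc.odd_oPart S hK hU)

omit hK in
theorem le_normalizer_oPart {U : Subgroup G} (hU : U ≠ ⊤) (hSU : (S : Subgroup G) ≤ U) :
    U ≤ Subgroup.normalizer (oPart π (S : Subgroup G) U : Set G) := by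
  haveI : Fact (Nat.Prime 2) := ⟨Nat.prime_two⟩
  intro u hu
  obtain ⟨k, hk, n, hnU, hnS, rfl⟩ := hc.exists_mul_normalizer hU (OddOrder.sylowOf_of_sylow S hSU) hu
  refine mul_mem (Subgroup.le_normalizer (le_sup_left (a := core π U) hk)) ?_
  refine mem_normalizer_of_conjBy_le ?_
  rw [conjBy, Subgroup.map_le_iff_le_comap, oPart]
  refine sup_le (fun y hy => ?_) (fun y hy => ?_) <;>
    simp only [Subgroup.mem_comap, MulEquiv.coe_toMonoidHom, MulAut.conj_apply]
  · exact le_sup_left (a := core π U) (conj_mem_core (Subgroup.le_normalizer hnU) hy)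
  · exact le_sup_right (a := core π U) ⟨conj_mem_oddElts
      (normalizer_le_normalizer_centralizer _ hnS) hy.1, U.mul_mem (U.mul_mem hnU hy.2) (U.inv_mem hnU)⟩

/-- A fixed element of odd order of a proper subgroup lies in the odd part. -/
theorem mem_oPart_of_commute {U : Subgroup G} (hU : U ≠ ⊤) (hSU : (S : Subgroup G) ≤ U) {c y : G}
    (hcS : c ∈ (S : Subgroup G)) (hc1 : c ≠ 1) (hy : y ∈ U) (hyc : y * c = c * y)
    (hodd : Odd (orderOf y)) : y ∈ oPart π (S : Subgroup G) U := by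
  haveI : Fact (Nat.Prime 2) := ⟨Nat.prime_two⟩
  obtain ⟨k, hk, n, hnU, hnS, hykn⟩ := hc.exists_mul_normalizer hU (OddOrder.sylowOf_of_sylow S hSU) hy
  have hc2 := sq_eq_one S hK hcS
  have hfix : n * c * n⁻¹ = c := by
    have h1 : n * c * n⁻¹ = k⁻¹ * c * k := by
      rw [show n = k⁻¹ * y by rw [hykn]; group,
        show k⁻¹ * y * c * (k⁻¹ * y)⁻¹ = k⁻¹ * (y * c) * y⁻¹ * k by group, hyc]
      group
    have h2 : k⁻¹ * c * k * c ∈ (S : Subgroup G) := by
      rw [← h1]; exact mul_mem ((Subgroup.mem_normalizer_iff.1 hnS c).1 hcS) hcS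
    have h3 : k⁻¹ * c * k * c = 1 := by
      rw [← Subgroup.mem_bot, ← inf_eq_bot_of_odd S.isPGroup' (hc.odd_core hU)]
      exact ⟨mul_conj_mem_core (hSU hcS) hc2 hk, h2⟩
    rw [h1, eq_inv_of_mul_eq_one_left h3, inv_eq_of_mul_eq_one_right hc2]
  obtain ⟨e, he, s, hs, rfl⟩ := fixer_decomp S hK
    (hc.mem_fixer_of_fix S hnS (mem_zInv_klein S hK hcS) hc1 hfix)
  have heU : e ∈ U := by
    have := mul_mem hnU (inv_mem (hSU hs))
    rwa [mul_inv_cancel_right] at this
  refine mem_of_mul_sq (hc.le_normalizer_oPart S hU hSU (hSU hs)) (sq_eq_one S hK hs)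
    (o := k * e) (mul_mem (le_sup_left (a := core π U) hk) (le_sup_right (a := core π U) ⟨he, heU⟩))
    (by rw [hykn]; group) hodd

/-- An `S`-invariant subgroup of odd order lies in the odd part. -/
theorem le_oPart {U X : Subgroup G} (hU : U ≠ ⊤) (hSU : (S : Subgroup G) ≤ U) (hXU : X ≤ U)
    (hX : Odd (Nat.card ↥X)) (hSX : (S : Subgroup G) ≤ Subgroup.normalizer (X : Set G)) :
    X ≤ oPart π (S : Subgroup G) U := by
  obtain ⟨c, d, hc', hd', hc1, hd1, hcd⟩ := hc.exists_zInv_pair S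
  have key : ∀ e ∈ (S : Subgroup G), e ≠ 1 → ∀ w ∈ X, e * w * e = w →
      w ∈ oPart π (S : Subgroup G) U := fun e he he1 w hw hfix =>
    hc.mem_oPart_of_commute S hK hU hSU he he1 (hXU hw) ((sq_conj_eq_iff (sq_eq_one S hK he)).1 hfix)
      (RankOneInvol.odd_orderOf_of_mem hX hw)
  refine RankOneInvol.le_of_fourGroup_fixed hX hc'.2.1 hd'.2.1 (zInv_comm hc' hd')
    (fun w hw => conj_mem_of_le_normalizer hSX hc'.1 hc'.2.1 hw)
    (fun w hw => conj_mem_of_le_normalizer hSX hd'.1 hd'.2.1 hw)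
    (key c hc'.1 hc1) (key d hd'.1 hd1) (key (c * d) (mul_mem hc'.1 hd'.1) fun h => hcd ?_)
  rw [← inv_eq_of_mul_eq_one_right h, inv_eq_of_mul_eq_one_right hc'.2.1]

theorem mem_oPart_of_coprime {U : Subgroup G} (hU : U ≠ ⊤) (hSU : (S : Subgroup G) ≤ U) {u : G}
    (hu : u ∈ U) (ho : (orderOf u).Coprime 6) : u ∈ oPart π (S : Subgroup G) U := by
  haveI : Fact (Nat.Prime 2) := ⟨Nat.prime_two⟩
  obtain ⟨k, hk, n, hnU, hnS, hukn⟩ := hc.exists_mul_normalizer hU (OddOrder.sylowOf_of_sylow S hSU) hu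
  set O := oPart π (S : Subgroup G) U
  obtain ⟨k', hk', e6⟩ := exists_mul_pow_eq (hc.le_normalizer_oPart S hU hSU hnU)
    (le_sup_left (a := core π U) hk) 6
  obtain ⟨e, he, s, hs, e3⟩ := fixer_decomp S hK (hc.cube_mem_fixer S hnS)
  have hn6 : n ^ 6 ∈ O := by
    have hcomm : Commute e s :=
      (Subgroup.mem_centralizer_iff.1 ((hc.mem_oddElts_centralizer_sylow S hK).1 he).1 s hs).symm
    have h1 : n ^ 6 = e ^ 2 := by
      rw [show n ^ 6 = (n ^ 3) ^ 2 by rw [← pow_mul], e3, hcomm.mul_pow, pow_two s, sq_eq_one S hK hs,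
        mul_one]
    refine le_sup_right (a := core π U) ⟨?_, pow_mem hnU 6⟩
    rw [h1]; exact pow_mem he 2
  have hu6 : u ^ 6 ∈ O := by rw [hukn, e6]; exact mul_mem hk' hn6
  obtain ⟨m, hm⟩ := exists_pow_eq_self_of_coprime ho.symm
  rw [← hm]; exact pow_mem hu6 m

/-- Invariant Hall subgroups of an odd subgroup. -/
theorem exists_invHall {X Y : Subgroup G} (σ : Set ℕ) (hX : Odd (Nat.card ↥X))
    (hSX : (S : Subgroup G) ≤ Subgroup.normalizer (X : Set G)) (hY : Y ≤ X)
    (hSY : (S : Subgroup G) ≤ Subgroup.normalizer (Y : Set G)) (hYσ : PiNum σ (Nat.card ↥Y)) :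
    ∃ H, Cfsg.IsPiHallOf σ H X ∧ (S : Subgroup G) ≤ Subgroup.normalizer (H : Set G) ∧ Y ≤ H := by
  refine (Cfsg.Agent.S3745.result (S : Subgroup G) X hSX ?_ (CfsgLib.PF.oddSolvable _ hX) σ).2.2 Y hY hSY hYσ
  rw [hK.card_four, show 4 = 2 ^ 2 from rfl]
  exact Nat.Coprime.pow_left 2 (Nat.coprime_two_left.2 hX)

theorem invHall_conj {X H₁ H₂ : Subgroup G} (σ : Set ℕ) (hX : Odd (Nat.card ↥X))
    (hSX : (S : Subgroup G) ≤ Subgroup.normalizer (X : Set G))
    (h₁ : Cfsg.IsPiHallOf σ H₁ X) (hA₁ : (S : Subgroup G) ≤ Subgroup.normalizer (H₁ : Set G))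
    (h₂ : Cfsg.IsPiHallOf σ H₂ X) (hA₂ : (S : Subgroup G) ≤ Subgroup.normalizer (H₂ : Set G)) :
    ∃ e ∈ oddElts (Subgroup.centralizer ((S : Subgroup G) : Set G)), e ∈ X ∧ conjBy e H₁ = H₂ := by
  obtain ⟨e, ⟨heX, heC⟩, h⟩ := (Cfsg.Agent.S3745.result (S : Subgroup G) X hSX (by
    rw [hK.card_four, show 4 = 2 ^ 2 from rfl]
    exact Nat.Coprime.pow_left 2 (Nat.coprime_two_left.2 hX)) (CfsgLib.PF.oddSolvable _ hX) σ).2.1
    H₁ H₂ h₁ hA₁ h₂ hA₂
  exact ⟨e, mem_oddElts_of heC (RankOneInvol.odd_orderOf_of_mem hX heX), heX, h.symm⟩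

/-- A normaliser element moving `c` to `d` and `d` to `c * d`. -/
theorem exists_shift {c d : G} (hcS : c ∈ (S : Subgroup G)) (hdS : d ∈ (S : Subgroup G))
    (hc1 : c ≠ 1) (hd1 : d ≠ 1) (hcd : c ≠ d) :
    ∃ n ∈ Subgroup.normalizer ((S : Subgroup G) : Set G), n * c * n⁻¹ = d ∧
      n * d * n⁻¹ = c * d ∧ n * (c * d) * n⁻¹ = c := by
  have hcz := mem_zInv_klein S hK hcS
  have hdz := mem_zInv_klein S hK hdS
  obtain ⟨x, hx, hcyc⟩ := hc.exists_cycle S
  have main : ∀ n ∈ Subgroup.normalizer ((S : Subgroup G) : Set G), n * c * n⁻¹ = d →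
      n * d * n⁻¹ = c * d ∧ n * (c * d) * n⁻¹ = c := fun n hn hnc => by
    have hcyc' : ∀ a ∈ zInv (S : Subgroup G), a ≠ 1 → n * a * n⁻¹ ≠ a := fun a ha ha1 h =>
      hcd ((hc.fix_all S hn ha ha1 h hcz).symm.trans hnc)
    have := hc.cycle_apply S hn hcyc' hcz hc1
    rwa [hnc] at this
  rcases zInv_cases (hc.card_zInv S) hcz hc1 hdz hd1 hcd (conj_mem_zInv hx hcz) with h | h | h | h
  · exact absurd (conj_eq_one_iff.1 h) hc1
  · exact absurd h (hcyc c hcz hc1)
  · exact ⟨x, hx, h, main x hx h⟩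
  · have h2 : x ^ 2 * c * (x ^ 2)⁻¹ = d := by
      obtain ⟨h1, -⟩ := hc.cycle_apply S hx hcyc hcz hc1
      rw [h] at h1
      rw [show x ^ 2 * c * (x ^ 2)⁻¹ = x * (x * c * x⁻¹) * x⁻¹ by rw [pow_two]; group, h, h1,
        ← mul_assoc, hcz.2.1, one_mul]
    exact ⟨x ^ 2, pow_mem hx 2, h2, main _ (pow_mem hx 2) h2⟩

theorem three_mem : 3 ∈ π := by
  haveI : Fact (Nat.Prime 2) := ⟨Nat.prime_two⟩
  by_contra h3
  obtain ⟨x, hx, hcyc⟩ := hc.exists_cycle S
  obtain ⟨e, m, hm, hem⟩ := Nat.exists_eq_pow_mul_and_not_dvd (orderOf_pos x).ne' 3 (by norm_num)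
  have hxm : x ^ m ∈ fixer (S : Subgroup G) := by
    refine ⟨pow_mem hx m, ?_⟩
    rw [zInv_eq S hK]
    refine hc.mem_centralizer_of_primeTo (piNum_of_isPGroup hc.two_mem S.isPGroup') (pow_mem hx m) ?_
    intro r hr hrd
    have h1 : orderOf (x ^ m) ∣ 3 ^ e :=
      orderOf_dvd_of_pow_eq_one (by rw [← pow_mul, mul_comm, ← hem, pow_orderOf_eq_one])
    rw [(Nat.prime_dvd_prime_iff_eq hr Nat.prime_three).1 (hr.dvd_of_dvd_pow (hrd.trans h1))]
    exact h3
  have hx3 := hc.cube_mem_fixer S hx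
  have hxF : x ∈ fixer (S : Subgroup G) := by
    have h3j : ∀ j : ℕ, x ^ (3 * j) ∈ fixer (S : Subgroup G) := fun j => by
      rw [pow_mul]; exact pow_mem hx3 j
    rcases (show m % 3 = 1 ∨ m % 3 = 2 by omega) with h | h
    · have h1 := mul_mem (inv_mem (h3j (m / 3))) hxm
      rwa [show x ^ m = x ^ (3 * (m / 3)) * x by rw [← pow_succ]; congr 1; omega,
        inv_mul_cancel_left] at h1
    · have h1 := mul_mem (inv_mem (h3j (m / 3))) hxm
      rw [show x ^ m = x ^ (3 * (m / 3)) * x ^ 2 by rw [← pow_add]; congr 1; omega,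
        inv_mul_cancel_left] at h1
      have h2 := mul_mem hx3 (inv_mem h1)
      rwa [show x ^ 3 = x * x ^ 2 from pow_succ' x 2, mul_inv_cancel_right] at h2
  obtain ⟨c, -, hc', -, hc1, -, -⟩ := hc.exists_zInv_pair S
  exact hcyc c hc' hc1 (fixer_fix S hxF hc')

/-- A prime dividing the order of an inverted element lies outside π. -/
theorem not_mem_of_inverted {c w : G} (hcS : c ∈ (S : Subgroup G)) (hc1 : c ≠ 1)
    (hodd : Odd (orderOf w)) (h : c * w * c = w⁻¹) {p : ℕ} (hp : p.Prime) (hd : p ∣ orderOf w) :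
    p ∉ π := fun hpi => by
  obtain ⟨m, hm⟩ := hd
  have hm0 : m ≠ 0 := fun h0 => by have := orderOf_pos w; rw [hm, h0, mul_zero] at this; omega
  have hord : orderOf (w ^ m) = p := by
    rw [orderOf_pow' _ hm0, Nat.gcd_eq_right ⟨p, by rw [hm]; ring⟩, hm,
      Nat.mul_div_cancel _ (Nat.pos_of_ne_zero hm0)]
  have h1 := hc.eq_one_of_inverted (klein_orderOf S hK hcS hc1) (y := w ^ m)
    (fun r hr hrd => by
      rw [hord] at hrd
      rw [(Nat.prime_dvd_prime_iff_eq hr hp).1 hrd]; exact hpi)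
    (by rw [hord]; exact hodd.of_dvd_nat ⟨m, hm⟩)
    (by rw [← conj_pow, inv_eq_of_mul_eq_one_right (sq_eq_one S hK hcS), h, inv_pow])
  rw [h1, orderOf_one] at hord
  exact hp.ne_one hord.symm

theorem exists_oddElts_not_le :
    ∃ c ∈ (S : Subgroup G), c ≠ 1 ∧ ¬ oddElts (Subgroup.centralizer ({c} : Set G)) ≤
      Subgroup.centralizer ((S : Subgroup G) : Set G) := by
  obtain ⟨a, ha, ha1, hnle⟩ := hc.exists_core_not_le S
  refine ⟨a, ha.1, ha1, fun h => hnle fun k hk => ?_⟩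
  rw [zInv_eq S hK]
  refine Subgroup.centralizer_le_normalizer _ (h (mem_oddElts_of (core_le _ hk) ?_))
  exact RankOneInvol.odd_orderOf_of_mem (hc.odd_core (hc.centralizer_ne_top ha1)) hk

end Crit

end CfsgLib.PiHom
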