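import Cfsg.Agent.Lib.PiHom.KleinKernel
import Cfsg.Agent.Lib.Characters.LinearTwist

/-!
# The retraction of `O(C(z))` on `O(C(S))` and the action of `N(S)`

`O(C(z)) = O(C(S)) F_z` with `F_z` normal; linear characters of `O(C(S))` extend through the
retraction. The fusion of `O(C(S))` is controlled by an odd complement of `S` in `N(S)`.
-/

set_option autoImplicit false
set_option linter.style.haveILetI false
set_option linter.unusedSectionVars false

namespace CfsgLib.PiHom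

open CfsgLib.Involutions

universe u

variable {π : Set ℕ} {G : Type u} [Group G] [Finite G]

/-- conjugation by `n` on a subgroup it normalises -/
def conjEnd (X : Subgroup G) (n : G) (hn : n ∈ Subgroup.normalizer (X : Set G)) : ↥X →* ↥X :=
  MonoidHom.mk' (fun e => ⟨n * (e : G) * n⁻¹, (Subgroup.mem_normalizer_iff.1 hn e).1 e.2⟩)
    fun a b => Subtype.ext (by simp only [Subgroup.coe_mul]; group)

omit [Finite G] in
@[simp] theorem coe_conjEnd (X : Subgroup G) (n : G) (hn : n ∈ Subgroup.normalizer (X : Set G))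
    (e : ↥X) : ((conjEnd X n hn e : ↥X) : G) = n * (e : G) * n⁻¹ := rfl

theorem exists_hom_ne_one_of_solvable {X : Type*} [Group X] [Finite X] (hs : Group.IsSolvable X)
    (hX : Nontrivial X) : ∃ l : X →* ℂˣ, l ≠ 1 := by
  haveI := hs
  have hne : commutator X ≠ ⊤ := (Group.IsSolvable.commutator_lt_top_of_nontrivial X).ne
  obtain ⟨x, hx⟩ : ∃ x, x ∉ commutator X := by
    by_contra h
    push Not at h
    exact hne (top_le_iff.1 fun x _ => h x)
  have h1 : Abelianization.of x ≠ 1 := fun e => hx ((QuotientGroup.eq_one_iff x).mp e)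
  obtain ⟨f, hf⟩ :=
    CommGroup.exists_apply_ne_one_of_hasEnoughRootsOfUnity (Abelianization X) ℂ h1
  exact ⟨f.comp Abelianization.of, fun e => hf (by simpa using DFunLike.congr_fun e x)⟩

namespace Crit

variable (hc : Crit π G) (S : Sylow 2 G) (hK : IsKleinFour ↥(S : Subgroup G))
include hc hK

local notation "Oc[" c "]" => oddElts (Subgroup.centralizer ({c} : Set G))
local notation "Ec" => oddElts (Subgroup.centralizer ((S : Subgroup G) : Set G))
local notation "Cc[" c "]" => Subgroup.centralizer ({c} : Set G)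

theorem kern_coprime {c : G} (hcS : c ∈ (S : Subgroup G)) (hc1 : c ≠ 1) :
    (Nat.card ↥(kern (S : Subgroup G) c)).Coprime (Nat.card ↥Ec) :=
  Nat.coprime_of_dvd fun p hp hpf hpE =>
    (hc.iota_of_dvd S hK hcS hc1 hp ((hc.kern_spec S hK hcS hc1).2.1 ▸ hpf)).1 hpE

theorem eq_one_of_mem_kern {c w : G} (hcS : c ∈ (S : Subgroup G)) (hc1 : c ≠ 1) (hw : w ∈ Ec)
    (hwF : w ∈ kern (S : Subgroup G) c) : w = 1 := by
  obtain ⟨d, hdS, hd1, hcd⟩ := hc.exists_other S hK (c := c)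
  have h1 := ((hc.mem_kern S hK hcS hdS hc1 hd1 hcd).1 hwF).2
  rw [(sq_conj_eq_iff (sq_eq_one S hK hdS)).2
    (Subgroup.mem_centralizer_iff.1 (oddElts_le _ hw) d hdS).symm] at h1
  exact RankOneInvol.eq_one_of_sq_of_odd ((hc.mem_oddElts_centralizer_sylow S hK).1 hw).2
    (by nth_rw 2 [h1]; exact mul_inv_cancel w)

theorem decomp_unique {c y e e' : G} (hcS : c ∈ (S : Subgroup G)) (hc1 : c ≠ 1) (he : e ∈ Ec)
    (he' : e' ∈ Ec) (h : e⁻¹ * y ∈ kern (S : Subgroup G) c) (h' : e'⁻¹ * y ∈ kern (S : Subgroup G) c) :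
    e = e' := by
  refine (inv_mul_eq_one.1 (hc.eq_one_of_mem_kern S hK hcS hc1 (mul_mem (inv_mem he) he') ?_))
  rw [show e⁻¹ * e' = (e⁻¹ * y) * (e'⁻¹ * y)⁻¹ by group]
  exact mul_mem h (inv_mem h')

/-- The retraction. -/
theorem exists_proj {c : G} (hcS : c ∈ (S : Subgroup G)) (hc1 : c ≠ 1) :
    ∃ p : ↥Oc[c] →* ↥Ec, ∀ y, ((p y : ↥Ec) : G)⁻¹ * (y : G) ∈ kern (S : Subgroup G) c := by
  choose f hf g hg h using fun y : ↥Oc[c] => hc.kern_decomp S hK hcS hc1 y.2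
  have hp : ∀ y, (f y)⁻¹ * (y : G) ∈ kern (S : Subgroup G) c := fun y => by
    rw [h y, inv_mul_cancel_left]; exact hg y
  refine ⟨MonoidHom.mk' (fun y => (⟨f y, hf y⟩ : ↥Ec)) fun a b => Subtype.ext ?_, hp⟩
  refine hc.decomp_unique S hK hcS hc1 (hf _) (mul_mem (hf a) (hf b)) (hp _) ?_
  show (f a * f b)⁻¹ * ((a : G) * (b : G)) ∈ kern (S : Subgroup G) c
  rw [show (f a * f b)⁻¹ * ((a : G) * (b : G)) =
    (f b)⁻¹ * ((f a)⁻¹ * (a : G)) * (f b)⁻¹⁻¹ * ((f b)⁻¹ * (b : G)) by group]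
  exact mul_mem (hc.kern_normal S hK hcS hc1
    (oddElts_le _ (inv_mem (hc.oddElts_sylow_le S hK hcS (hf b)))) (hp a)) (hp b)

/-- The retraction only moves by conjugation in `O(C(S))` under `C(c)`. -/
theorem proj_conj {c : G} (hcS : c ∈ (S : Subgroup G)) (hc1 : c ≠ 1) {p : ↥Oc[c] →* ↥Ec}
    (hp : ∀ y, ((p y : ↥Ec) : G)⁻¹ * (y : G) ∈ kern (S : Subgroup G) c) {h : G} (hh : h ∈ Cc[c])
    {y y' : ↥Oc[c]} (e : h * (y : G) * h⁻¹ = (y' : G)) (l : ↥Ec →* ℂˣ) : l (p y') = l (p y) := by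
  obtain ⟨o, ho, s, hs, rfl⟩ := centralizer_eq_mul S hK hcS hc1 hh
  have hsc : s ∈ Cc[c] := sylow_le_centralizer S hK hcS hs
  have hsy : s * (y : G) * s⁻¹ ∈ Oc[c] := conj_mem_oddElts (Subgroup.le_normalizer hsc) y.2
  have h1 : p ⟨_, hsy⟩ = p y := by
    refine Subtype.ext (hc.decomp_unique S hK hcS hc1 (p ⟨_, hsy⟩).2 (p y).2 (hp ⟨_, hsy⟩) ?_)
    have hcomm := Subgroup.mem_centralizer_iff.1 (oddElts_le _ (p y).2) s hs
    have h2 := hc.kern_normal S hK hcS hc1 hsc (hp y)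
    rwa [show s * (((p y : ↥Ec) : G)⁻¹ * (y : G)) * s⁻¹ =
      (s * ((p y : ↥Ec) : G) * s⁻¹)⁻¹ * (s * (y : G) * s⁻¹) by group, hcomm, mul_inv_cancel_right] at h2
  have h3 : y' = ⟨o, ho⟩ * ⟨_, hsy⟩ * (⟨o, ho⟩ : ↥Oc[c])⁻¹ := Subtype.ext (by
    rw [← e, Subgroup.coe_mul, Subgroup.coe_mul, Subgroup.coe_inv]; group)
  rw [h3]
  simp only [map_mul, map_inv, h1, mul_inv_cancel_comm]

theorem proj_self {c : G} (hcS : c ∈ (S : Subgroup G)) (hc1 : c ≠ 1) {p : ↥Oc[c] →* ↥Ec}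
    (hp : ∀ y, ((p y : ↥Ec) : G)⁻¹ * (y : G) ∈ kern (S : Subgroup G) c) {e v : G} (he : e ∈ Ec)
    (hv : v ∈ kern (S : Subgroup G) c) (hy : e * v ∈ Oc[c]) : p ⟨e * v, hy⟩ = ⟨e, he⟩ :=
  Subtype.ext (hc.decomp_unique S hK hcS hc1 (p _).2 he (hp _) (by rwa [inv_mul_cancel_left]))

theorem normalizer_le_normalizer_oddElts :
    Subgroup.normalizer ((S : Subgroup G) : Set G) ≤ Subgroup.normalizer (Ec : Set G) := fun n hn =>
  mem_normalizer_of_conjBy_le (conjBy_le.2 fun _ hw =>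
    conj_mem_oddElts (normalizer_le_normalizer_centralizer _ hn) hw)

/-- A complement of `S` in its normaliser. -/
theorem exists_normalizer_complement : ∃ N : Subgroup G,
    N ≤ Subgroup.normalizer ((S : Subgroup G) : Set G) ∧ Odd (Nat.card ↥N) ∧
      ∀ n ∈ Subgroup.normalizer ((S : Subgroup G) : Set G), ∃ n₁ ∈ N, ∃ s ∈ (S : Subgroup G),
        n = n₁ * s := by
  haveI : Fact (Nat.Prime 2) := ⟨Nat.prime_two⟩
  set R := Subgroup.normalizer ((S : Subgroup G) : Set G) with hR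
  have hSR : (S : Subgroup G) ≤ R := Subgroup.le_normalizer
  set S' := (S : Subgroup G).subgroupOf R with hS'
  haveI : S'.Normal := Subgroup.normal_subgroupOf_of_le_normalizer le_rfl
  have hidx : Odd S'.index := Nat.not_even_iff_odd.1 fun he =>
    S.not_dvd_index (he.two_dvd.trans (Subgroup.relIndex_dvd_index_of_le hSR))
  have hcS : Nat.card ↥S' = 2 ^ 2 := by
    rw [hS', Nat.card_congr (Subgroup.subgroupOfEquivOfLe hSR).toEquiv, hK.card_four]; rfl
  obtain ⟨D, hD⟩ := Subgroup.exists_right_complement'_of_coprime (N := S')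
    (by rw [hcS]; exact Nat.Coprime.pow_left 2 (Nat.coprime_two_left.2 hidx))
  have hDc : Nat.card ↥D = S'.index := by
    have h1 := hD.card_mul_card
    rw [← S'.card_mul_index] at h1
    exact mul_left_cancel₀ Nat.card_pos.ne' h1
  refine ⟨D.map R.subtype, Subgroup.map_subtype_le D, ?_, fun r hr => ?_⟩
  · rw [Subgroup.card_map_of_injective R.subtype_injective, hDc]; exact hidx
  · obtain ⟨⟨d, s⟩, hsd, -⟩ := hD.symm.existsUnique ⟨r, hr⟩
    exact ⟨((d : ↥R) : G), ⟨d, d.2, rfl⟩, ((s : ↥R) : G), s.2, (congrArg Subtype.val hsd).symm⟩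

/-- Fusion in `O(C(S))` is controlled by the complement. -/
theorem conj_control {N : Subgroup G}
    (hN : ∀ n ∈ Subgroup.normalizer ((S : Subgroup G) : Set G), ∃ n₁ ∈ N, ∃ s ∈ (S : Subgroup G),
      n = n₁ * s)
    {e g : G} (he : e ∈ Ec) (hge : g * e * g⁻¹ ∈ Ec) : ∃ n ∈ N, n * e * n⁻¹ = g * e * g⁻¹ := by
  haveI : Fact (Nat.Prime 2) := ⟨Nat.prime_two⟩
  set U := Cc[g * e * g⁻¹] with hU
  have hSU : (S : Subgroup G) ≤ U := fun s hs => Subgroup.mem_centralizer_singleton_iff.2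
    (Subgroup.mem_centralizer_iff.1 (oddElts_le _ hge) s hs)
  have hSU' : conjBy g (S : Subgroup G) ≤ U := conjBy_le.2 fun s hs => conj_mem_centralizer
    (Subgroup.mem_centralizer_singleton_iff.2 (Subgroup.mem_centralizer_iff.1 (oddElts_le _ he) s hs))
  obtain ⟨Q, hQ⟩ := ((S.isPGroup'.map (MulAut.conj g).toMonoidHom).comap_of_injective U.subtype
    U.subtype_injective).exists_le_sylow
  obtain ⟨w, hw⟩ := MulAction.exists_smul_eq ↥U (S.subtype hSU) Q
  have hle : conjBy g (S : Subgroup G) ≤ conjBy (w : G) (S : Subgroup G) := fun x hx => by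
    have h1 : (⟨x, hSU' hx⟩ : ↥U) ∈ Q := hQ hx
    rw [← hw] at h1
    obtain ⟨t, ht, htx⟩ := (Subgroup.mem_map.1 (show (⟨x, hSU' hx⟩ : ↥U) ∈
      ((S.subtype hSU : Sylow 2 ↥U) : Subgroup ↥U).map (MulAut.conj w).toMonoidHom from h1))
    exact mem_conjBy.2 ⟨(t : G), ht, congrArg Subtype.val htx⟩
  have heq : conjBy g (S : Subgroup G) = conjBy (w : G) (S : Subgroup G) :=
    Subgroup.eq_of_le_of_card_ge hle (by rw [card_conjBy, card_conjBy])
  have hn : (w : G)⁻¹ * g ∈ Subgroup.normalizer ((S : Subgroup G) : Set G) := conjBy_eq_iff.1 (by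
    rw [conjBy_mul, heq, conjBy_inv_cancel])
  obtain ⟨n₁, hn₁, s, hs, hns⟩ := hN _ hn
  refine ⟨n₁, hn₁, ?_⟩
  have hse : s * e * s⁻¹ = e := by
    rw [Subgroup.mem_centralizer_iff.1 (oddElts_le _ he) s hs, mul_inv_cancel_right]
  have hwe := Subgroup.mem_centralizer_singleton_iff.1 w.2
  calc n₁ * e * n₁⁻¹ = n₁ * (s * e * s⁻¹) * n₁⁻¹ := by rw [hse]
    _ = (n₁ * s) * e * (n₁ * s)⁻¹ := by group
    _ = (w : G)⁻¹ * (g * e * g⁻¹) * (w : G) := by rw [← hns]; group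
    _ = g * e * g⁻¹ := by rw [mul_assoc, ← hwe, inv_mul_cancel_left]

/-- The elements of `N(S)` act on linear characters of `O(C(S))` as powers of a cycle. -/
theorem twist_cases {z x : G} (hzS : z ∈ (S : Subgroup G)) (hz1 : z ≠ 1)
    (hx : x ∈ Subgroup.normalizer ((S : Subgroup G) : Set G)) (hxz : x * z * x⁻¹ ≠ z)
    (hxz2 : x * (x * z * x⁻¹) * x⁻¹ ≠ z) {n : G}
    (hn : n ∈ Subgroup.normalizer ((S : Subgroup G) : Set G)) :
    ∃ k : Fin 3, ∀ (l : ↥Ec →* ℂˣ) (e : ↥Ec),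
      l (conjEnd Ec n (hc.normalizer_le_normalizer_oddElts S hK hn) e) =
        l (conjEnd Ec (x ^ (k : ℕ)) (hc.normalizer_le_normalizer_oddElts S hK (pow_mem hx k)) e) := by
  have hconj : ∀ {g : G}, g ∈ Subgroup.normalizer ((S : Subgroup G) : Set G) →
      g * z * g⁻¹ ∈ (S : Subgroup G) ∧ g * z * g⁻¹ ≠ 1 := fun hg =>
    ⟨(Subgroup.mem_normalizer_iff.1 hg z).1 hzS, fun h => hz1 (conj_eq_one_iff.1 h)⟩
  obtain ⟨k, hk⟩ : ∃ k : Fin 3, n * z * n⁻¹ = x ^ (k : ℕ) * z * (x ^ (k : ℕ))⁻¹ := by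
    obtain ⟨hz'S, hz'1⟩ := hconj hx
    rcases hc.cases_of_mem S hK hzS hz'S hz1 hz'1 (Ne.symm hxz) (hconj hn).1 with h | h | h | h
    · exact absurd h (hconj hn).2
    · exact ⟨0, by simpa using h⟩
    · exact ⟨1, by simpa using h⟩
    · refine ⟨2, h.trans ?_⟩
      obtain ⟨h2S, h2ne⟩ := hconj (mul_mem hx hx)
      have e2 : x * x * z * (x * x)⁻¹ = x * (x * z * x⁻¹) * x⁻¹ := by group
      rcases hc.cases_of_mem S hK hzS hz'S hz1 hz'1 (Ne.symm hxz) h2S with h' | h' | h' | h'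
      · exact absurd h' h2ne
      · exact absurd (e2 ▸ h') hxz2
      · exfalso
        refine hxz ?_
        have := congrArg (fun t => x⁻¹ * t * x) h'
        simpa [mul_assoc] using this
      · simpa [pow_two] using h'.symm
  refine ⟨k, fun l e => ?_⟩
  set m := (x ^ (k : ℕ))⁻¹ * n with hm
  have hmN : m ∈ Subgroup.normalizer ((S : Subgroup G) : Set G) := mul_mem (inv_mem (pow_mem hx k)) hn
  have hfix : m * z * m⁻¹ = z := by
    rw [hm, show (x ^ (k : ℕ))⁻¹ * n * z * ((x ^ (k : ℕ))⁻¹ * n)⁻¹ =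
      (x ^ (k : ℕ))⁻¹ * (n * z * n⁻¹) * (x ^ (k : ℕ)) by group, hk]
    group
  obtain ⟨e', he', s, hs, hes⟩ := Crit.fixer_decomp S hK
    (hc.mem_fixer_of_fix S hmN (mem_zInv_klein S hK hzS) hz1 hfix)
  have hse : s * (e : G) * s⁻¹ = e := by
    rw [Subgroup.mem_centralizer_iff.1 (oddElts_le _ e.2) s hs, mul_inv_cancel_right]
  have heq : conjEnd Ec n (hc.normalizer_le_normalizer_oddElts S hK hn) e =
      conjEnd Ec (x ^ (k : ℕ)) (hc.normalizer_le_normalizer_oddElts S hK (pow_mem hx k))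
        (⟨e', he'⟩ * e * (⟨e', he'⟩ : ↥Ec)⁻¹) := by
    refine Subtype.ext ?_
    simp only [coe_conjEnd, Subgroup.coe_mul, Subgroup.coe_inv]
    have hn' : n = x ^ (k : ℕ) * (e' * s) := by rw [← hes, hm]; group
    rw [hn', show x ^ (k : ℕ) * (e' * s) * (e : G) * (x ^ (k : ℕ) * (e' * s))⁻¹ =
      x ^ (k : ℕ) * (e' * (s * (e : G) * s⁻¹) * e'⁻¹) * (x ^ (k : ℕ))⁻¹ by group, hse]
  rw [heq]
  simp only [map_mul, map_inv, mul_inv_cancel_comm]

end Crit

end CfsgLib.PiHom
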