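import Cfsg.Agent.Lib.PiHom.KleinAvg
import Cfsg.Agent.Lib.PiHom.KleinProj

/-!
# Separation of the blocks meeting the section of an involution

If a character of `G` has a non-zero coefficient at the extension of a linear character `l` of
`O(C(S))` in the section of `z`, its values there factor through the retraction on `O(C(S))` and
are combinations of the three conjugates of `l`.
-/

set_option autoImplicit false
set_option linter.style.haveILetI false
set_option linter.unusedSectionVars false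

namespace CfsgLib.PiHom

open Cfsg CfsgLib.Characters CfsgLib.Blocks
open CfsgLib.Involutions
open scoped ComplexConjugate

universe u

variable {π : Set ℕ} {G : Type u} [Group G] [Fintype G]

open scoped Classical in
theorem inducedCentralChar_eq_sum (C : Subgroup G) (η : ↥C → ℂ) (g : G) :
    inducedCentralChar C η g =
      ∑ h ∈ Finset.univ.filter (fun h : ↥C => IsConj g (h : G)), η h / η 1 := by
  unfold inducedCentralChar
  rw [finsum_mem_eq_sum_of_inter_support_eq]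
  simp

open scoped Classical in
/-- The values on a 2-section as a combination of the characters of the blocks inducing. -/
theorem exists_expansion {M : Ideal AlgInt} (hM : IsPModular 2 M) {z : G} (hz : orderOf z = 2)
    (χ : IrrCharacter G) :
    ∃ (T : Finset (IrrCharacter ↥(Subgroup.centralizer ({z} : Set G))))
      (c : IrrCharacter ↥(Subgroup.centralizer ({z} : Set G)) → ℂ),
      (∀ y : ↥(Subgroup.centralizer ({z} : Set G)), ¬ 2 ∣ orderOf y →
        (χ : G → ℂ) (z * (y : G)) =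
          ∑ η ∈ T, c η * (η : ↥(Subgroup.centralizer ({z} : Set G)) → ℂ) y) ∧
      ∀ η ∈ T, ∀ η' ∈ T, ∀ g : G, MemLocalIdeal M
        (inducedCentralChar (Subgroup.centralizer ({z} : Set G))
            (η : ↥(Subgroup.centralizer ({z} : Set G)) → ℂ) g -
          inducedCentralChar (Subgroup.centralizer ({z} : Set G))
            (η' : ↥(Subgroup.centralizer ({z} : Set G)) → ℂ) g) := by
  haveI : Fact (Nat.Prime 2) := ⟨Nat.prime_two⟩
  set C := Subgroup.centralizer ({z} : Set G) with hC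
  set B := blockOf M (χ : G → ℂ) with hB
  have hBB : IsPBlock M B := isPBlock_blockOf χ
  let T : Set (IrrCharacter ↥C) := {η | IsInducedBlock M C (blockOf M (η : ↥C → ℂ)) B}
  have hTc : ∀ ξ η : IrrCharacter ↥C, ξ ∈ Tᶜ → SameBlock M (ξ : ↥C → ℂ) (η : ↥C → ℂ) → η ∈ Tᶜ := by
    intro ξ η hξ hs hη
    refine hξ ?_
    show IsInducedBlock M C (blockOf M (ξ : ↥C → ℂ)) B
    rw [blockOf_eq_of_sameBlock hM hs]
    exact hη
  refine ⟨Finset.univ.filter (· ∈ T),
    fun η => classInner (sectionFun z (χ : G → ℂ)) (η : ↥C → ℂ), fun y hy => ?_, fun η hη η' hη' g => ?_⟩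
  · have h0 : blockPart Tᶜ (sectionFun z (χ : G → ℂ)) y = 0 :=
      blockPart_union_eq_zero hM hTc fun ξ hξ =>
        blockPart_sectionFun_eq_zero hM ⟨1, by rw [hz]; rfl⟩ (isPBlock_blockOf ξ) hξ hy
    have hall : sectionFun z (χ : G → ℂ) y =
        blockPart T (sectionFun z (χ : G → ℂ)) y + blockPart Tᶜ (sectionFun z (χ : G → ℂ)) y := by
      conv_lhs => rw [classFunction_eq_sum (isClassFunction_sectionFun (irr_isClassFunction χ))]
      simp only [blockPart_eq_sum, Finset.sum_apply, Pi.smul_apply, smul_eq_mul, Set.mem_compl_iff]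
      exact (Finset.sum_filter_add_sum_filter_not _ _ _).symm
    rw [h0, add_zero, blockPart_eq_sum] at hall
    exact hall
  · have h1 := (Finset.mem_filter.1 hη).2.2.2 η (mem_blockOf_self hM η) χ (mem_blockOf_self hM χ) g
    have h2 := (Finset.mem_filter.1 hη').2.2.2 η' (mem_blockOf_self hM η') χ (mem_blockOf_self hM χ) g
    simpa using MemLocalIdeal.sub hM h1 h2

/-- Elements of the kernel do not change the value. -/
theorem irr_mul_mem_irrKer {H : Type*} [Group H] [Finite H] {η : IrrCharacter H} {v : H}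
    (hv : v ∈ Chars17.irrKer η) (h : H) : (η : H → ℂ) (h * v) = (η : H → ℂ) h := by
  obtain ⟨n, ρ, -, hη⟩ := η.2
  have h1 : ρ v = 1 := by
    refine (Chars17.character_eq_one_iff ρ v).1 ?_
    rw [hη]; exact Chars17.mem_irrKer.1 hv
  rw [← hη]
  simp [Representation.character, map_mul, h1]

theorem even_card_erase_one {X : Type*} [Group X] [Fintype X] [DecidableEq X] (hX : Odd (Nat.card X)) (s : Finset X)
    (hs : ∀ v ∈ s, v⁻¹ ∈ s) : Even (s.erase 1).card := by
  have h : ∑ v ∈ s.erase 1, (1 : ZMod 2) = 0 := by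
    refine Finset.sum_involution (fun v _ => v⁻¹) (fun v _ => by decide) (fun v hv _ hvv => ?_)
      (fun v hv => Finset.mem_erase.2 ⟨fun h => (Finset.mem_erase.1 hv).1 (inv_eq_one.1 h),
        hs v (Finset.mem_erase.1 hv).2⟩) fun v _ => inv_inv v
    have h2 : v * v = 1 := by nth_rw 1 [← hvv]; exact inv_mul_cancel v
    exact (Finset.mem_erase.1 hv).1
      (RankOneInvol.eq_one_of_sq_of_odd (hX.of_dvd_nat (orderOf_dvd_natCard v)) h2)
  rw [Finset.sum_const, nsmul_one, ZMod.natCast_eq_zero_iff] at h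
  exact even_iff_two_dvd.2 h

theorem memLocalRing_inv_odd {M : Ideal AlgInt} (hM : IsPModular 2 M) {d : ℕ} (hd : Odd d) :
    MemLocalRing M ((d : ℂ)⁻¹) :=
  inv_natCast_mem_lRing hM fun h => Nat.not_even_iff_odd.2 hd (even_iff_two_dvd.2 h)

namespace Crit

variable (hc : Crit π G) (S : Sylow 2 G) (hK : IsKleinFour ↥(S : Subgroup G))
include hc hK

local notation "Oc[" c "]" => oddElts (Subgroup.centralizer ({c} : Set G))
local notation "Ec" => oddElts (Subgroup.centralizer ((S : Subgroup G) : Set G))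
local notation "Cc[" c "]" => Subgroup.centralizer ({c} : Set G)

theorem oddNormal {z : G} (hzS : z ∈ (S : Subgroup G)) (hz1 : z ≠ 1) : OddNormal z Oc[z] :=
  ⟨klein_orderOf S hK hzS hz1, oddElts_le _, fun _ hg => mem_normalizer_of_conjBy_le
    (conjBy_le.2 fun _ hw => conj_mem_oddElts (Subgroup.le_normalizer hg) hw),
    fun _ hy => ((mem_oddElts_centralizer S hK hzS hz1).1 hy).2⟩

open scoped Classical in
theorem sum_decomp {z : G} (hzS : z ∈ (S : Subgroup G)) (hz1 : z ≠ 1) (f : ↥Oc[z] → ℂ) :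
    ∑ y : ↥Oc[z], f y = ∑ e : ↥Ec, ∑ v : ↥(kern (S : Subgroup G) z),
      f ⟨(e : G) * (v : G), mul_mem (hc.oddElts_sylow_le S hK hzS e.2) (hc.kern_le S hK hzS hz1 v.2)⟩ := by
  rw [← Fintype.sum_prod_type']
  symm
  refine Fintype.sum_bijective _ ⟨fun a b hab => ?_, fun y => ?_⟩ _ _ fun _ => rfl
  · have h : (a.1 : G) * (a.2 : G) = (b.1 : G) * (b.2 : G) := congrArg Subtype.val hab
    have h1 : a.1 = b.1 := Subtype.ext (hc.decomp_unique S hK hzS hz1 a.1.2 b.1.2
      (y := (a.1 : G) * (a.2 : G)) (by rw [inv_mul_cancel_left]; exact a.2.2)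
      (by rw [h, inv_mul_cancel_left]; exact b.2.2))
    refine Prod.ext h1 (Subtype.ext ?_)
    rw [h1] at h
    exact mul_left_cancel h
  · obtain ⟨e, he, v, hv, h⟩ := hc.kern_decomp S hK hzS hz1 y.2
    exact ⟨(⟨e, he⟩, ⟨v, hv⟩), Subtype.ext h.symm⟩

/-- the inclusion of `O(C(S))` in the centraliser -/
theorem mem_cent_of_Ec {z w : G} (hzS : z ∈ (S : Subgroup G)) (hw : w ∈ Ec) : w ∈ Cc[z] :=
  oddElts_le _ (hc.oddElts_sylow_le S hK hzS hw)

theorem mem_cent_of_kern {z w : G} (hzS : z ∈ (S : Subgroup G)) (hz1 : z ≠ 1)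
    (hw : w ∈ kern (S : Subgroup G) z) : w ∈ Cc[z] :=
  oddElts_le _ (hc.kern_le S hK hzS hz1 hw)

theorem kern_subgroupOf_normal {z : G} (hzS : z ∈ (S : Subgroup G)) (hz1 : z ≠ 1) :
    ((kern (S : Subgroup G) z).subgroupOf Cc[z]).Normal :=
  ⟨fun v hv g => by
    rw [Subgroup.mem_subgroupOf] at hv ⊢
    simpa using hc.kern_normal S hK hzS hz1 g.2 hv⟩

open scoped Classical in
/-- Outside the kernel the sums over cosets of the kernel vanish. -/
theorem sum_kern_eq_zero {z : G} (hzS : z ∈ (S : Subgroup G)) (hz1 : z ≠ 1)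
    {η : IrrCharacter ↥Cc[z]} (hη : ¬ (kern (S : Subgroup G) z).subgroupOf Cc[z] ≤ Chars17.irrKer η)
    (g : ↥Cc[z]) :
    ∑ v : ↥(kern (S : Subgroup G) z),
      (η : ↥Cc[z] → ℂ) (g * ⟨v, hc.mem_cent_of_kern S hK hzS hz1 v.2⟩) = 0 := by
  haveI := hc.kern_subgroupOf_normal S hK hzS hz1
  rw [← Chars17.sum_coset_eq_zero hη g]
  refine Fintype.sum_bijective
    (fun v : ↥(kern (S : Subgroup G) z) =>
      (⟨⟨v, hc.mem_cent_of_kern S hK hzS hz1 v.2⟩, v.2⟩ : ↥((kern (S : Subgroup G) z).subgroupOf Cc[z])))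
    ⟨fun a b h => Subtype.ext (congrArg (fun t : ↥((kern (S : Subgroup G) z).subgroupOf Cc[z]) =>
      ((t : ↥Cc[z]) : G)) h),
      fun w => ⟨⟨((w : ↥Cc[z]) : G), w.2⟩, rfl⟩⟩ _ _ fun _ => rfl

open scoped Classical in
/-- Characters trivial on the kernel restrict irreducibly to `O(C(S))`. -/
theorem res_irr {z : G} (hzS : z ∈ (S : Subgroup G)) (hz1 : z ≠ 1)
    {η : IrrCharacter ↥Cc[z]} (hη : (kern (S : Subgroup G) z).subgroupOf Cc[z] ≤ Chars17.irrKer η) :
    IsIrrCharacter ↥Ec (fun e : ↥Ec => (η : ↥Cc[z] → ℂ) ⟨e, hc.mem_cent_of_Ec S hK hzS e.2⟩) := by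
  let ι : ↥Ec →* ↥Cc[z] := MonoidHom.mk' (fun e => ⟨e, hc.mem_cent_of_Ec S hK hzS e.2⟩) fun _ _ => rfl
  refine Clifford.isIrr_of_norm_one (Clifford.isCharacter_pullback (irr_isCharacter η) ι) ?_
  have hnorm : classInner (η : ↥Cc[z] → ℂ) (η : ↥Cc[z] → ℂ) = 1 := classInner_irr_self η.2
  have hv1 : ∀ (g : ↥Cc[z]) (v : ↥Cc[z]), (v : G) ∈ kern (S : Subgroup G) z →
      (η : ↥Cc[z] → ℂ) (g * v) = (η : ↥Cc[z] → ℂ) g := fun g v hv => irr_mul_mem_irrKer (hη hv) g
  obtain ⟨n, ρ, hρ, hρη⟩ := η.2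
  haveI := hρ
  have hsc : ∀ (s : ↥(S : Subgroup G)) (g : ↥Cc[z]),
      (η : ↥Cc[z] → ℂ) (g * ⟨s, sylow_le_centralizer S hK hzS s.2⟩) *
        conj ((η : ↥Cc[z] → ℂ) (g * ⟨s, sylow_le_centralizer S hK hzS s.2⟩)) =
      (η : ↥Cc[z] → ℂ) g * conj ((η : ↥Cc[z] → ℂ) g) := by
    intro s g
    set t : ↥Cc[z] := ⟨s, sylow_le_centralizer S hK hzS s.2⟩
    have hρ1 : ∀ v : ↥Cc[z], (v : G) ∈ kern (S : Subgroup G) z → ρ v = 1 := fun v hv => by
      refine (Chars17.character_eq_one_iff ρ v).1 ?_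
      rw [hρη]; exact Chars17.mem_irrKer.1 (hη hv)
    obtain ⟨c, hc'⟩ := schur_scalar ρ (ρ t) fun g => by
      obtain ⟨o, ho, s', hs', hg⟩ := centralizer_eq_mul S hK hzS hz1 g.2
      obtain ⟨e, he, v, hv, rfl⟩ := hc.kern_decomp S hK hzS hz1 ho
      have hg' : g = ⟨e, hc.mem_cent_of_Ec S hK hzS he⟩ * ⟨v, hc.mem_cent_of_kern S hK hzS hz1 hv⟩ *
          ⟨s', sylow_le_centralizer S hK hzS hs'⟩ := Subtype.ext hg
      have h1 : t * ⟨e, hc.mem_cent_of_Ec S hK hzS he⟩ = ⟨e, hc.mem_cent_of_Ec S hK hzS he⟩ * t :=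
        Subtype.ext (Subgroup.mem_centralizer_iff.1 (oddElts_le _ he) s s.2)
      have h2 : t * ⟨s', sylow_le_centralizer S hK hzS hs'⟩ = ⟨s', sylow_le_centralizer S hK hzS hs'⟩ * t :=
        Subtype.ext (comm_of_mem S hK s.2 hs')
      rw [hg', map_mul, map_mul, hρ1 ⟨v, hc.mem_cent_of_kern S hK hzS hz1 hv⟩ hv, mul_one, ← mul_assoc, ← map_mul, h1, map_mul, mul_assoc,
        ← map_mul, h2, map_mul, mul_assoc]
    have h1 : (η : ↥Cc[z] → ℂ) (g * t) = c * (η : ↥Cc[z] → ℂ) g := by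
      rw [← hρη]
      simp [Representation.character, map_mul, hc']
    have h2 : c * c * (η : ↥Cc[z] → ℂ) 1 = (η : ↥Cc[z] → ℂ) 1 := by
      have ht : t * t = 1 := Subtype.ext (sq_eq_one S hK s.2)
      conv_rhs => rw [← ht]
      rw [← hρη]
      simp [Representation.character, map_mul, hc', smul_smul]
    have hcc : c * c = 1 := mul_right_cancel₀ (irr_one_ne_zero η) (by rw [h2, one_mul])
    rw [h1, map_mul]
    rcases mul_self_eq_one_iff.1 hcc with h | h <;> simp [h]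
  have hbij : Function.Bijective (fun a : (↥Ec × ↥(kern (S : Subgroup G) z)) × ↥(S : Subgroup G) =>
      (⟨a.1.1, hc.mem_cent_of_Ec S hK hzS a.1.1.2⟩ * ⟨a.1.2, hc.mem_cent_of_kern S hK hzS hz1 a.1.2.2⟩ *
        ⟨a.2, sylow_le_centralizer S hK hzS a.2.2⟩ : ↥Cc[z])) := by
    refine (Nat.bijective_iff_surjective_and_card _).2 ⟨fun g => ?_, ?_⟩
    · obtain ⟨o, ho, s', hs', hg⟩ := centralizer_eq_mul S hK hzS hz1 g.2
      obtain ⟨e, he, v, hv, rfl⟩ := hc.kern_decomp S hK hzS hz1 ho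
      exact ⟨((⟨e, he⟩, ⟨v, hv⟩), ⟨s', hs'⟩), Subtype.ext hg.symm⟩
    · rw [Nat.card_prod, Nat.card_prod, hK.card_four, (hc.kern_spec S hK hzS hz1).2.1,
        hc.card_mul_kIdx S hK hzS, ← four_mul_card_oddElts S hK hzS hz1, mul_comm]
  rw [classInner, ← Fintype.sum_bijective _ hbij _ _ (fun _ => rfl)] at hnorm
  have hsum : ∑ a : (↥Ec × ↥(kern (S : Subgroup G) z)) × ↥(S : Subgroup G),
      (η : ↥Cc[z] → ℂ) (⟨a.1.1, hc.mem_cent_of_Ec S hK hzS a.1.1.2⟩ *
          ⟨a.1.2, hc.mem_cent_of_kern S hK hzS hz1 a.1.2.2⟩ * ⟨a.2, sylow_le_centralizer S hK hzS a.2.2⟩) *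
        conj ((η : ↥Cc[z] → ℂ) (⟨a.1.1, hc.mem_cent_of_Ec S hK hzS a.1.1.2⟩ *
          ⟨a.1.2, hc.mem_cent_of_kern S hK hzS hz1 a.1.2.2⟩ * ⟨a.2, sylow_le_centralizer S hK hzS a.2.2⟩)) =
      ((Nat.card ↥(kern (S : Subgroup G) z) * Nat.card ↥(S : Subgroup G) : ℕ) : ℂ) *
        ∑ e : ↥Ec, (η : ↥Cc[z] → ℂ) (ι e) * conj ((η : ↥Cc[z] → ℂ) (ι e)) := by
    rw [Finset.mul_sum, Fintype.sum_prod_type, Fintype.sum_prod_type]
    refine Finset.sum_congr rfl fun e _ => ?_
    simp only [hsc, fun (v : ↥(kern (S : Subgroup G) z)) (g : ↥Cc[z]) =>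
      hv1 g ⟨v, hc.mem_cent_of_kern S hK hzS hz1 v.2⟩ v.2]
    refine (Finset.sum_congr rfl (g := fun _ => ∑ _s : ↥(S : Subgroup G),
      (η : ↥Cc[z] → ℂ) (ι e) * conj ((η : ↥Cc[z] → ℂ) (ι e))) fun v _ => ?_).trans ?_
    · rfl
    simp only [Finset.sum_const, Finset.card_univ, nsmul_eq_mul, ← Nat.card_eq_fintype_card, hK.card_four]
    push_cast
    ring
  rw [hsum] at hnorm
  rw [classInner]
  refine (Eq.trans ?_ hnorm)
  rw [← four_mul_card_oddElts S hK hzS hz1, ← hc.card_mul_kIdx S hK hzS,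
    ← (hc.kern_spec S hK hzS hz1).2.1, hK.card_four]
  have h1 := Nat.cast_ne_zero (R := ℂ).2 (Nat.card_pos (α := ↥(kern (S : Subgroup G) z))).ne'
  have h2 := Nat.cast_ne_zero (R := ℂ).2 (Nat.card_pos (α := ↥Ec)).ne'
  push_cast
  simp only [ι, MonoidHom.mk'_apply]
  field_simp

open scoped Classical in
/-- Separation. -/
theorem section_eq {M : Ideal AlgInt} (hM : IsPModular 2 M) {z x : G} (hzS : z ∈ (S : Subgroup G))
    (hz1 : z ≠ 1) (hx : x ∈ Subgroup.normalizer ((S : Subgroup G) : Set G)) (hxz : x * z * x⁻¹ ≠ z)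
    (hxz2 : x * (x * z * x⁻¹) * x⁻¹ ≠ z) {p : ↥Oc[z] →* ↥Ec}
    (hp : ∀ y, ((p y : ↥Ec) : G)⁻¹ * (y : G) ∈ kern (S : Subgroup G) z) (l : ↥Ec →* ℂˣ)
    (χ : IrrCharacter G) (hne : avg Oc[z] (l.comp p) z (χ : G → ℂ) ≠ 0) :
    (∀ y : ↥Oc[z], (χ : G → ℂ) (z * (y : G)) = (χ : G → ℂ) (z * ((p y : ↥Ec) : G))) ∧
      ∃ c : Fin 3 → ℂ, ∀ e : ↥Ec, (χ : G → ℂ) (z * (e : G)) = ∑ k : Fin 3, c k *
        (l (conjEnd Ec (x ^ (k : ℕ))
          (hc.normalizer_le_normalizer_oddElts S hK (pow_mem hx k)) e) : ℂ) := by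
  haveI : Fact (Nat.Prime 2) := ⟨Nat.prime_two⟩
  set F := kern (S : Subgroup G) z with hF
  have hO := hc.oddNormal S hK hzS hz1
  have hz2 := hO.ord
  obtain ⟨T, coef, hexp, hcong⟩ := exists_expansion hM hz2 χ
  let j : ↥Oc[z] → ↥Cc[z] := fun y => ⟨y, oddElts_le _ y.2⟩
  have hj : ∀ y, ¬ 2 ∣ orderOf (j y) := fun y h =>
    Nat.not_even_iff_odd.2 (hO.odd y y.2) (even_iff_two_dvd.2 (by rwa [← Subgroup.orderOf_coe] at h))
  have hpev : ∀ (e : ↥Ec) (v : ↥F) (h : (e : G) * (v : G) ∈ Oc[z]), p ⟨_, h⟩ = e := fun e v h =>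
    hc.proj_self S hK hzS hz1 hp e.2 v.2 h
  have hmemO : ∀ (e : ↥Ec) (v : ↥F), (e : G) * (v : G) ∈ Oc[z] := fun e v =>
    mul_mem (hc.oddElts_sylow_le S hK hzS e.2) (hc.kern_le S hK hzS hz1 v.2)
  -- an expanding character with non-zero coefficient
  obtain ⟨η₀, hη₀T, hη₀⟩ : ∃ η ∈ T,
      ∑ y : ↥Oc[z], conj ((l.comp p) y : ℂ) * (η : ↥Cc[z] → ℂ) (j y) ≠ 0 := by
    by_contra hcon
    push Not at hcon
    refine hne ?_
    rw [avg_eq, Finset.sum_congr rfl fun y _ => by rw [hexp (j y) (hj y), Finset.mul_sum],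
      Finset.sum_comm, Finset.sum_eq_zero, mul_zero]
    intro η hη
    rw [← mul_zero (coef η), ← hcon η hη, Finset.mul_sum]
    exact Finset.sum_congr rfl fun y _ => by ring
  have hker₀ : F.subgroupOf Cc[z] ≤ Chars17.irrKer η₀ := by
    by_contra hk
    refine hη₀ ?_
    rw [hc.sum_decomp S hK hzS hz1]
    refine Finset.sum_eq_zero fun e _ => ?_
    simp only [MonoidHom.comp_apply, hpev, ← Finset.mul_sum]
    rw [show (∑ v : ↥F, (η₀ : ↥Cc[z] → ℂ) (j ⟨_, hmemO e v⟩)) = 0 from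
      hc.sum_kern_eq_zero S hK hzS hz1 hk ⟨e, hc.mem_cent_of_Ec S hK hzS e.2⟩, mul_zero]
  -- all expanding characters are trivial on the kernel
  have hkerT : ∀ η ∈ T, F.subgroupOf Cc[z] ≤ Chars17.irrKer η := by
    intro η hη
    by_contra hk
    set R : Finset (ConjClasses G) :=
      (Finset.univ.filter fun v : ↥F => v ≠ 1).image fun v : ↥F => ConjClasses.mk (v : G)
    have hfib : ∀ h : ↥Cc[z], ConjClasses.mk (h : G) ∈ R ↔ (h : G) ∈ F ∧ (h : G) ≠ 1 := fun h => by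
      constructor
      · intro hh
        obtain ⟨v, hv, hvh⟩ := Finset.mem_image.1 hh
        obtain ⟨g, hg⟩ := isConj_iff.1 (ConjClasses.mk_eq_mk_iff_isConj.1 hvh)
        have hh1 : (h : G) ≠ 1 := fun e0 => (Finset.mem_filter.1 hv).2
          (Subtype.ext (conj_eq_one_iff.1 (hg.trans e0)))
        refine ⟨?_, hh1⟩
        have hod : orderOf (h : G) = orderOf (v : G) := by rw [← hg, orderOf_conj_eq]
        have hho : (h : G) ∈ Oc[z] := mem_oddElts_of h.2
          (by rw [hod]; exact RankOneInvol.odd_orderOf_of_mem (hc.odd_kern S hK hzS hz1) v.2)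
        have h1 : p ⟨_, hho⟩ = 1 := by
          refine orderOf_eq_one_iff.1 (Nat.eq_one_of_dvd_coprimes (hc.kern_coprime S hK hzS hz1)
            ?_ (orderOf_dvd_natCard _))
          refine (orderOf_map_dvd p ⟨_, hho⟩).trans ?_
          rw [Subgroup.orderOf_mk, hod, Subgroup.orderOf_coe]
          exact orderOf_dvd_natCard v
        have h2 := hp ⟨_, hho⟩
        rwa [h1, Subgroup.coe_one, inv_one, one_mul] at h2
      · rintro ⟨hh, hh1⟩
        exact Finset.mem_image.2 ⟨⟨h, hh⟩,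
          Finset.mem_filter.2 ⟨Finset.mem_univ _, fun e0 => hh1 (congrArg Subtype.val e0)⟩, rfl⟩
    have hsum : ∀ θ : IrrCharacter ↥Cc[z],
        ∑ c ∈ R, ∑ h ∈ Finset.univ.filter (fun h : ↥Cc[z] => ConjClasses.mk (h : G) = c),
          (θ : ↥Cc[z] → ℂ) h / (θ : ↥Cc[z] → ℂ) 1 =
        ((∑ v : ↥F, (θ : ↥Cc[z] → ℂ) ⟨v, hc.mem_cent_of_kern S hK hzS hz1 v.2⟩) -
          (θ : ↥Cc[z] → ℂ) 1) / (θ : ↥Cc[z] → ℂ) 1 := fun θ => by
      rw [← Finset.sum_biUnion (fun a _ b _ hab => Finset.disjoint_left.2 fun h ha hb =>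
        hab ((Finset.mem_filter.1 ha).2.symm.trans (Finset.mem_filter.1 hb).2)), ← Finset.sum_div]
      congr 1
      rw [← Finset.add_sum_erase _ _ (Finset.mem_univ (1 : ↥F))]
      simp only [Subgroup.coe_one]
      rw [show (⟨(1 : G), hc.mem_cent_of_kern S hK hzS hz1 (one_mem F)⟩ : ↥Cc[z]) = 1 from rfl,
        add_sub_cancel_left]
      refine (Finset.sum_bij (fun (v : ↥F) _ => (⟨v, hc.mem_cent_of_kern S hK hzS hz1 v.2⟩ : ↥Cc[z]))
        (fun v hv => ?_) (fun a _ b _ h => Subtype.ext (congrArg (fun t : ↥Cc[z] => (t : G)) h))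
        (fun h hh => ?_) fun _ _ => rfl).symm
      · exact Finset.mem_biUnion.2 ⟨_, (hfib ⟨v, hc.mem_cent_of_kern S hK hzS hz1 v.2⟩).2
          ⟨v.2, fun e0 => Finset.ne_of_mem_erase hv (Subtype.ext e0)⟩,
          Finset.mem_filter.2 ⟨Finset.mem_univ _, rfl⟩⟩
      · obtain ⟨c, hcR, hhc⟩ := Finset.mem_biUnion.1 hh
        obtain ⟨h1, h2⟩ := (hfib h).1 ((Finset.mem_filter.1 hhc).2 ▸ hcR)
        exact ⟨⟨h, h1⟩, Finset.mem_erase.2 ⟨fun e0 => h2 (congrArg Subtype.val e0), Finset.mem_univ _⟩,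
          rfl⟩
    have hdiff : MemLocalIdeal M
        (∑ c ∈ R, (∑ h ∈ Finset.univ.filter (fun h : ↥Cc[z] => ConjClasses.mk (h : G) = c),
            (η₀ : ↥Cc[z] → ℂ) h / (η₀ : ↥Cc[z] → ℂ) 1 -
          ∑ h ∈ Finset.univ.filter (fun h : ↥Cc[z] => ConjClasses.mk (h : G) = c),
            (η : ↥Cc[z] → ℂ) h / (η : ↥Cc[z] → ℂ) 1)) := by
      refine MemLocalIdeal.sum hM _ fun c _ => ?_
      obtain ⟨g, rfl⟩ := c.exists_rep
      have h1 := hcong η₀ hη₀T η hη g
      rw [inducedCentralChar_eq_sum, inducedCentralChar_eq_sum] at h1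
      convert h1 using 3 <;>
        exact Finset.filter_congr fun h _ => ConjClasses.mk_eq_mk_iff_isConj.trans isConj_comm
    rw [Finset.sum_sub_distrib, hsum, hsum] at hdiff
    have h0 : ∑ v : ↥F, (η₀ : ↥Cc[z] → ℂ) ⟨v, hc.mem_cent_of_kern S hK hzS hz1 v.2⟩ =
        (Nat.card ↥F : ℂ) * (η₀ : ↥Cc[z] → ℂ) 1 := by
      rw [Finset.sum_congr rfl (g := fun _ => (η₀ : ↥Cc[z] → ℂ) 1)
        (fun v _ => Chars17.mem_irrKer.1 (hker₀ v.2)), Finset.sum_const, Finset.card_univ,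
        ← Nat.card_eq_fintype_card, nsmul_eq_mul]
    have h1 : ∑ v : ↥F, (η : ↥Cc[z] → ℂ) ⟨v, hc.mem_cent_of_kern S hK hzS hz1 v.2⟩ = 0 := by
      simpa using hc.sum_kern_eq_zero S hK hzS hz1 hk 1
    have hd0 := irr_one_ne_zero η₀
    have hd1 := irr_one_ne_zero η
    rw [h0, h1, show ((Nat.card ↥F : ℂ) * (η₀ : ↥Cc[z] → ℂ) 1 - (η₀ : ↥Cc[z] → ℂ) 1) /
        (η₀ : ↥Cc[z] → ℂ) 1 - (0 - (η : ↥Cc[z] → ℂ) 1) / (η : ↥Cc[z] → ℂ) 1 = (Nat.card ↥F : ℂ) by
      field_simp; ring, memLocalIdeal_natCast_iff hM] at hdiff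
    exact Nat.not_even_iff_odd.2 (hc.odd_kern S hK hzS hz1) (even_iff_two_dvd.2 hdiff)
  -- factorisation
  have hfac : ∀ y : ↥Oc[z], (χ : G → ℂ) (z * (y : G)) = (χ : G → ℂ) (z * ((p y : ↥Ec) : G)) := by
    intro y
    have hpy := hc.oddElts_sylow_le S hK hzS (p y).2
    refine (hexp (j y) (hj y)).trans ((hexp (j ⟨_, hpy⟩) (hj _)).trans ?_).symm |>.trans rfl
    refine Finset.sum_congr rfl fun η hη => ?_
    congr 1
    have h1 := irr_mul_mem_irrKer (η := η)
      (v := ⟨((p y : ↥Ec) : G)⁻¹ * (y : G), hc.mem_cent_of_kern S hK hzS hz1 (hp y)⟩)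
      (hkerT η hη (hp y)) (j ⟨_, hpy⟩)
    rw [← h1]
    exact congrArg (η : ↥Cc[z] → ℂ) (Subtype.ext (mul_inv_cancel_left _ _))
  refine ⟨hfac, ?_⟩
  set N := (hc.exists_normalizer_complement S hK).choose
  obtain ⟨hNn, hNodd, hN⟩ := (hc.exists_normalizer_complement S hK).choose_spec
  let ψ : IrrCharacter ↥Cc[z] → ↥Ec → ℂ := fun η e =>
    (η : ↥Cc[z] → ℂ) ⟨e, hc.mem_cent_of_Ec S hK hzS e.2⟩
  have hψ : ∀ η ∈ T, IsIrrCharacter ↥Ec (ψ η) := fun η hη => hc.res_irr S hK hzS hz1 (hkerT η hη)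
  have hψv : ∀ η ∈ T, ∀ (e : ↥Ec) (v : ↥F), (η : ↥Cc[z] → ℂ) (j ⟨_, hmemO e v⟩) = ψ η e :=
    fun η hη e v => by
    show _ = (η : ↥Cc[z] → ℂ) ⟨e, hc.mem_cent_of_Ec S hK hzS e.2⟩
    rw [← irr_mul_mem_irrKer (η := η) (v := ⟨v, hc.mem_cent_of_kern S hK hzS hz1 v.2⟩)
      (hkerT η hη v.2) ⟨e, hc.mem_cent_of_Ec S hK hzS e.2⟩]
    rfl
  have hψ₀ : ψ η₀ = fun e => (l e : ℂ) := by
    by_contra hne'
    refine hη₀ ?_
    have h1 := classInner_irr_ne (hψ η₀ hη₀T) (isIrrCharacter_of_hom l) hne'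
    rw [classInner, mul_eq_zero] at h1
    rw [hc.sum_decomp S hK hzS hz1]
    simp only [MonoidHom.comp_apply, hpev, hψv η₀ hη₀T, Finset.sum_const, ← Finset.smul_sum]
    rw [Finset.sum_congr rfl fun e _ => mul_comm (conj (l e : ℂ)) (ψ η₀ e),
      h1.resolve_left (inv_ne_zero (Nat.cast_ne_zero.2 Nat.card_pos.ne')), smul_zero]
  -- the congruence on `O(C(S))`
  have hX : ∀ η ∈ T, ∀ g : ↥Ec, MemLocalIdeal M
      (∑ e ∈ Finset.univ.filter (fun e : ↥Ec => IsConj (g : G) (e : G)),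
        (ψ η e / ψ η 1 - (l e : ℂ))) := by
    intro η hη g
    have hd : ∀ θ ∈ T, Odd (charDegree (ψ θ)) := fun θ hθ =>
      (hc.odd_oddElts_centralizer_sylow S hK).of_dvd_nat (Chars17.irrDegree_dvd_card ⟨_, hψ θ hθ⟩)
    have hind : ∀ θ ∈ T, ∃ w : ℂ, IsIntegral ℤ w ∧
        inducedCentralChar Cc[z] (θ : ↥Cc[z] → ℂ) (g : G) =
          ∑ e ∈ Finset.univ.filter (fun e : ↥Ec => IsConj (g : G) (e : G)), ψ θ e / ψ θ 1 +
            2 * w * (charDegree (ψ θ) : ℂ)⁻¹ := by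
      intro θ hθ
      let A : ↥Ec → Finset ↥F := fun e =>
        Finset.univ.filter fun v : ↥F => IsConj (g : G) ((e : G) * (v : G))
      have hA : ∀ e, ∃ k : ℕ, (A e).card = (if IsConj (g : G) (e : G) then 1 else 0) + 2 * k := by
        intro e
        obtain ⟨d, hdS, hd1, hzd⟩ := hc.exists_other S hK (c := z)
        obtain ⟨k, hk⟩ := even_card_erase_one (hc.odd_kern S hK hzS hz1) (A e) fun v hv => by
          refine Finset.mem_filter.2 ⟨Finset.mem_univ _, (Finset.mem_filter.1 hv).2.trans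
            (isConj_iff.2 ⟨d, ?_⟩)⟩
          have hde : d * (e : G) * d⁻¹ = e := by
            rw [Subgroup.mem_centralizer_iff.1 (oddElts_le _ e.2) d hdS, mul_inv_cancel_right]
          have hdv := ((hc.mem_kern S hK hzS hdS hz1 hd1 hzd).1 v.2).2
          calc d * ((e : G) * (v : G)) * d⁻¹ = d * e * d⁻¹ * (d * (v : G) * d⁻¹) := by group
            _ = (e : G) * ((v⁻¹ : ↥F) : G) := by
              rw [hde, inv_eq_of_mul_eq_one_right (sq_eq_one S hK hdS), hdv, Subgroup.coe_inv]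
        refine ⟨k, ?_⟩
        have hmem : (1 : ↥F) ∈ A e ↔ IsConj (g : G) (e : G) := by simp [A]
        by_cases h : IsConj (g : G) (e : G)
        · rw [if_pos h, ← Finset.card_erase_add_one (hmem.2 h), hk]; omega
        · rw [Finset.erase_eq_of_notMem (fun h' => h (hmem.1 h'))] at hk
          rw [if_neg h, hk]; omega
      choose k hk using hA
      refine ⟨∑ e : ↥Ec, (k e : ℂ) * ψ θ e, IsIntegral.sum _ fun e _ =>
        (isIntegral_natCast _).mul (ClassCount.irr_isIntegral θ _), ?_⟩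
      have hθ1 : (θ : ↥Cc[z] → ℂ) 1 = ψ θ 1 := rfl
      have hdeg : (charDegree (ψ θ) : ℂ) = ψ θ 1 := Chars17.cast_irrDegree ⟨_, hψ θ hθ⟩
      rw [inducedCentralChar_eq_sum, hdeg, ← Finset.sum_div, ← Finset.sum_div, hθ1,
        ← div_eq_mul_inv, ← add_div]
      congr 1
      rw [Finset.sum_bij' (t := Finset.univ.filter (fun y : ↥Oc[z] => IsConj (g : G) (y : G)))
          (g := fun y => (θ : ↥Cc[z] → ℂ) (j y))
          (fun (h : ↥Cc[z]) hh => (⟨h, mem_oddElts_of h.2 (by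
            obtain ⟨w, hw⟩ := isConj_iff.1 (Finset.mem_filter.1 hh).2
            rw [← hw]
            exact RankOneInvol.odd_orderOf_conj (((hc.mem_oddElts_centralizer_sylow S hK).1 g.2).2) w)⟩ :
              ↥Oc[z]))
          (fun y _ => j y) (fun h hh => Finset.mem_filter.2 ⟨Finset.mem_univ _, (Finset.mem_filter.1 hh).2⟩)
          (fun y hy => Finset.mem_filter.2 ⟨Finset.mem_univ _, (Finset.mem_filter.1 hy).2⟩)
          (fun _ _ => rfl) (fun _ _ => rfl) fun _ _ => rfl,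
        Finset.sum_filter, hc.sum_decomp S hK hzS hz1]
      simp only [hψv θ hθ, ← Finset.sum_filter]
      rw [Finset.mul_sum, Finset.sum_filter, ← Finset.sum_add_distrib]
      refine Finset.sum_congr rfl fun e _ => ?_
      rw [Finset.sum_const, nsmul_eq_mul, show (Finset.univ.filter fun v : ↥F =>
        IsConj (g : G) ((e : G) * (v : G))) = A e from rfl, hk e]
      split_ifs <;> push_cast <;> ring
    obtain ⟨w, hw, hwe⟩ := hind η hη
    obtain ⟨w₀, hw₀, hw₀e⟩ := hind η₀ hη₀T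
    have h2 : ∀ θ ∈ T, ∀ w : ℂ, IsIntegral ℤ w →
        MemLocalIdeal M (2 * w * (charDegree (ψ θ) : ℂ)⁻¹) := fun θ hθ w hw =>
      MemLocalIdeal.mul_right hM
        (MemLocalIdeal.mul_right hM (memLocalIdeal_p hM) (memLocalRing_of_isIntegral hM hw))
        (memLocalRing_inv_odd hM (hd θ hθ))
    have h3 := MemLocalIdeal.sub hM (hcong η hη η₀ hη₀T (g : G))
      (MemLocalIdeal.sub hM (h2 η hη w hw) (h2 η₀ hη₀T w₀ hw₀))
    have hψsum : ∀ e : ↥Ec, ψ η₀ e / ψ η₀ 1 = (l e : ℂ) := fun e => by simp [hψ₀]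
    rw [hwe, hw₀e] at h3
    simp only [hψsum] at h3
    rw [Finset.sum_sub_distrib]
    convert h3 using 1
    ring
  have hNE : ∀ n : ↥N, (n : G) ∈ Subgroup.normalizer (Ec : Set G) := fun n =>
    hc.normalizer_le_normalizer_oddElts S hK (hNn n.2)
  -- each expanding character is a conjugate of `l`
  have htw : ∀ η ∈ T, ∃ k : Fin 3, ∀ e : ↥Ec, ψ η e = (l (conjEnd Ec (x ^ (k : ℕ))
      (hc.normalizer_le_normalizer_oddElts S hK (pow_mem hx k)) e) : ℂ) := by
    intro η hη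
    obtain ⟨n, hn⟩ : ∃ n : ↥N, ∑ e : ↥Ec, ψ η (conjEnd Ec n (hNE n) e) * conj (l e : ℂ) ≠ 0 := by
      by_contra hcon
      push Not at hcon
      have hfib : ∀ (g : ↥Ec) (f : ↥Ec → ℂ), ∑ n : ↥N, f (conjEnd Ec n (hNE n) g) =
          ((Finset.univ.filter fun n : ↥N => conjEnd Ec n (hNE n) g = g).card : ℂ) *
            ∑ e ∈ Finset.univ.filter (fun e : ↥Ec => IsConj (g : G) (e : G)), f e := by
        intro g f
        rw [Finset.mul_sum, ← Finset.sum_fiberwise_of_maps_to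
          (t := Finset.univ.filter (fun e : ↥Ec => IsConj (g : G) (e : G)))
          (g := fun n : ↥N => conjEnd Ec n (hNE n) g)
          (fun n _ => Finset.mem_filter.2 ⟨Finset.mem_univ _, isConj_iff.2 ⟨n, rfl⟩⟩)]
        refine Finset.sum_congr rfl fun e he => ?_
        rw [Finset.sum_congr rfl (g := fun _ => f e) fun n hn => by rw [(Finset.mem_filter.1 hn).2],
          Finset.sum_const, nsmul_eq_mul]
        congr 2
        obtain ⟨w, hw⟩ := isConj_iff.1 (Finset.mem_filter.1 he).2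
        obtain ⟨n₀, hn₀, hn₀e⟩ := hc.conj_control S hK hN (g := w) g.2 (hw ▸ e.2)
        rw [hw] at hn₀e
        refine Finset.card_bij' (fun n _ => (⟨n₀, hn₀⟩ : ↥N)⁻¹ * n) (fun n _ => ⟨n₀, hn₀⟩ * n)
          (fun n hn => ?_) (fun n hn => ?_) (fun n _ => mul_inv_cancel_left _ _)
          (fun n _ => inv_mul_cancel_left _ _)
        all_goals
          refine Finset.mem_filter.2 ⟨Finset.mem_univ _, Subtype.ext ?_⟩
          have h1 := congrArg Subtype.val (Finset.mem_filter.1 hn).2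
          simp only [coe_conjEnd, Subgroup.coe_mul, Subgroup.coe_inv] at h1 ⊢
        · rw [show n₀⁻¹ * (n : G) * g * (n₀⁻¹ * n)⁻¹ = n₀⁻¹ * ((n : G) * g * (n : G)⁻¹) * n₀ by group,
            h1, ← hn₀e]
          group
        · rw [show n₀ * (n : G) * g * (n₀ * n)⁻¹ = n₀ * ((n : G) * g * (n : G)⁻¹) * n₀⁻¹ by group, h1,
            hn₀e]
      let St : Subgroup ↥N :=
        { carrier := {n | ∀ e, l (conjEnd Ec n (hNE n) e) = l e}
          one_mem' := fun e => congrArg l (Subtype.ext (by simp))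
          mul_mem' := fun {a b} ha hb e => by
            rw [← hb e, ← ha (conjEnd Ec b (hNE b) e)]
            exact congrArg l (Subtype.ext (by simp [mul_assoc]))
          inv_mem' := fun {a} ha e => by
            refine (ha (conjEnd Ec _ (hNE a⁻¹) e)).symm.trans ?_
            exact congrArg l (Subtype.ext (by simp [mul_assoc])) }
      have hmem : MemLocalIdeal M (∑ g : ↥Ec, conj (l g : ℂ) *
          (((Finset.univ.filter fun n : ↥N => conjEnd Ec n (hNE n) g = g).card : ℂ) *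
            ∑ e ∈ Finset.univ.filter (fun e : ↥Ec => IsConj (g : G) (e : G)),
              (ψ η e / ψ η 1 - (l e : ℂ)))) :=
        MemLocalIdeal.sum hM _ fun g _ => MemLocalIdeal.mul_left hM
          (memLocalRing_of_isIntegral hM (by
            rw [conj_hom_apply]; exact ClassCount.irr_isIntegral ⟨_, isIrrCharacter_of_hom l⟩ _))
          (MemLocalIdeal.mul_left hM (memLocalRing_of_isIntegral hM (isIntegral_natCast _)) (hX η hη g))
      have heval : ∑ g : ↥Ec, conj (l g : ℂ) *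
          (((Finset.univ.filter fun n : ↥N => conjEnd Ec n (hNE n) g = g).card : ℂ) *
            ∑ e ∈ Finset.univ.filter (fun e : ↥Ec => IsConj (g : G) (e : G)),
              (ψ η e / ψ η 1 - (l e : ℂ))) = -((Nat.card ↥St * Nat.card ↥Ec : ℕ) : ℂ) := by
        rw [Finset.sum_congr rfl fun g _ => by rw [← hfib g (fun e => ψ η e / ψ η 1 - (l e : ℂ)),
          Finset.mul_sum], Finset.sum_comm]
        have h1 : ∀ n : ↥N, ∑ g : ↥Ec, conj (l g : ℂ) *
            (ψ η (conjEnd Ec n (hNE n) g) / ψ η 1 - (l (conjEnd Ec n (hNE n) g) : ℂ)) =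
            if n ∈ St then -(Nat.card ↥Ec : ℂ) else 0 := fun n => by
          simp only [mul_sub, Finset.sum_sub_distrib]
          have h2 := sum_hom_eq l (l.comp (conjEnd Ec n (hNE n)))
          simp only [MonoidHom.comp_apply] at h2
          rw [h2, Finset.sum_congr rfl fun g _ => by rw [mul_div_assoc', mul_comm],
            ← Finset.sum_div, hcon n, zero_div]
          have hiff : l.comp (conjEnd Ec n (hNE n)) = l ↔ n ∈ St :=
            ⟨fun h e => DFunLike.congr_fun h e, fun h => MonoidHom.ext h⟩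
          simp only [hiff]
          split_ifs <;> simp
        rw [Finset.sum_congr rfl fun n _ => h1 n, ← Finset.sum_filter, Finset.sum_const, nsmul_eq_mul,
          Nat.card_eq_fintype_card (α := ↥St), Fintype.card_subtype]
        push_cast
        ring
      rw [heval] at hmem
      have h3 := MemLocalIdeal.neg hM hmem
      rw [neg_neg, memLocalIdeal_natCast_iff hM] at h3
      exact Nat.not_even_iff_odd.2 ((hNodd.of_dvd_nat (Subgroup.card_subgroup_dvd_card St)).mul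
        (hc.odd_oddElts_centralizer_sylow S hK)) (even_iff_two_dvd.2 h3)
    have hsurj : Function.Surjective (conjEnd Ec n (hNE n)) :=
      Finite.injective_iff_surjective.1 fun a b hab =>
        Subtype.ext (mul_left_cancel (mul_right_cancel (congrArg Subtype.val hab)))
    have hirr := Clifford.isIrrCharacter_pullback (hψ η hη) (conjEnd Ec n (hNE n)) hsurj
    have heq : (fun e => ψ η (conjEnd Ec n (hNE n) e)) = fun e => (l e : ℂ) := by
      by_contra hne'
      have h1 := classInner_irr_ne hirr (isIrrCharacter_of_hom l) hne'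
      rw [classInner, mul_eq_zero] at h1
      exact hn (h1.resolve_left (inv_ne_zero (Nat.cast_ne_zero.2 Nat.card_pos.ne')))
    obtain ⟨k, hk⟩ := hc.twist_cases S hK hzS hz1 hx hxz hxz2 (inv_mem (hNn n.2))
    refine ⟨k, fun e => ?_⟩
    rw [← hk l e, ← congrFun heq]
    congr 1
    exact Subtype.ext (by simp [mul_assoc])
  choose kη hkη using htw
  refine ⟨fun k => ∑ η ∈ T.attach.filter (fun η => kη η.1 η.2 = k), coef η.1, fun e => ?_⟩
  rw [show (χ : G → ℂ) (z * (e : G)) = _ from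
      hexp (j ⟨e, hc.oddElts_sylow_le S hK hzS e.2⟩) (hj _),
    ← Finset.sum_attach, ← Finset.sum_fiberwise T.attach (fun η => kη η.1 η.2)]
  refine Finset.sum_congr rfl fun k _ => ?_
  rw [Finset.sum_mul]
  refine Finset.sum_congr rfl fun η hη => ?_
  rw [← (Finset.mem_filter.1 hη).2, ← hkη η.1 η.2 e]

end Crit

end CfsgLib.PiHom
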