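import Cfsg.Agent.Lib.PiHom.Count

/-!
# Moving subgroups through cores
-/

set_option autoImplicit false
set_option linter.style.haveILetI false

namespace CfsgLib.PiHom

open CfsgLib.OddOrder (SylowOf)
open scoped Pointwise

universe u

variable {G : Type u} [Group G] [Finite G]

omit [Finite G] in
/-- If `U = K W` then the index of `W` in `U` is its index in `K`. -/
theorem relIndex_eq_of_mul {U K W : Subgroup G} (hK : K ≤ U)
    (h : ∀ u ∈ U, ∃ k ∈ K, ∃ w ∈ W, u = k * w) : W.relIndex U = W.relIndex K := by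
  rw [Subgroup.relIndex, Subgroup.relIndex, Subgroup.index_eq_card, Subgroup.index_eq_card]
  let f : ↥K ⧸ W.subgroupOf K → ↥U ⧸ W.subgroupOf U :=
    Quotient.map' (Subgroup.inclusion hK) fun a b hab => by
      rw [QuotientGroup.leftRel_apply] at hab ⊢
      exact hab
  refine (Nat.card_congr (Equiv.ofBijective f ⟨?_, ?_⟩)).symm
  · intro a b
    induction a using QuotientGroup.induction_on with
    | _ a =>
      induction b using QuotientGroup.induction_on with
      | _ b => intro e; exact QuotientGroup.eq.2 (QuotientGroup.eq.1 e :)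
  · intro q
    induction q using QuotientGroup.induction_on with
    | _ u =>
      obtain ⟨k, hk, w, hw, e⟩ := h u u.2
      refine ⟨((⟨k, hk⟩ : ↥K) : ↥K ⧸ W.subgroupOf K), QuotientGroup.eq.2 ?_⟩
      rw [Subgroup.mem_subgroupOf]
      simp only [Subgroup.coe_mul, Subgroup.coe_inv, Subgroup.coe_inclusion, e,
        inv_mul_cancel_left]
      exact hw

omit [Finite G] in
/-- Conjugation of Sylow subgroups inside a subgroup. -/
theorem exists_conj_le_sylowOf [Finite G] {p : ℕ} [Fact p.Prime] {U T Z : Subgroup G}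
    (hT : SylowOf p T U) (hZ : Z ≤ U) (hZp : IsPGroup p ↥Z) : ∃ u ∈ U, conjBy u Z ≤ T := by
  obtain ⟨T', hT', hZT'⟩ := OddOrder.exists_sylowOf_ge hZ hZp
  obtain ⟨P, hP⟩ := hT.toSylow
  obtain ⟨P', hP'⟩ := hT'.toSylow
  obtain ⟨g, hg⟩ := MulAction.exists_smul_eq ↥U P' P
  refine ⟨g, g.2, (conjBy_mono _ hZT').trans (le_of_eq ?_)⟩
  rw [← hP, ← hg, ← hP', conjBy, Sylow.coe_subgroup_smul, Subgroup.map_map]
  rw [show (MulAut.conj g • (P' : Subgroup ↥U)) =
    (P' : Subgroup ↥U).map (MulAut.conj g).toMonoidHom from rfl, Subgroup.map_map]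
  congr 1

omit [Finite G] in
theorem conj_mem_core' {π : Set ℕ} {U : Subgroup G} {n k : G} (hn : n ∈ U) (hk : k ∈ core π U) :
    n⁻¹ * k * n ∈ core π U := by
  have h := conj_mem_core (g := n⁻¹) (inv_mem (Subgroup.le_normalizer hn)) hk
  rwa [inv_inv] at h

variable {π : Set ℕ}

namespace Crit

variable (hc : Crit π G)
include hc

/-- With `U = core U · W`, the π-Sylow subgroups of `W` are Sylow subgroups of `U`; a `p`-subgroup
of `U` is moved into `W` by the core. -/
theorem exists_core_conj {p : ℕ} [hp : Fact p.Prime] (hpi : p ∈ π) {U W : Subgroup G} (hU : U ≠ ⊤)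
    (hW : W ≤ U) (hdec : ∀ u ∈ U, ∃ k ∈ core π U, ∃ w ∈ W, u = k * w) {P Z : Subgroup G}
    (hP : SylowOf p P W) (hZ : Z ≤ U) (hZp : IsPGroup p ↥Z) :
    ∃ k ∈ core π U, ∃ w ∈ W, conjBy (w * k) Z ≤ P := by
  have hidx : ¬ p ∣ W.relIndex U := fun hd => by
    rw [relIndex_eq_of_mul (core_le U) hdec] at hd
    exact hc.primeTo_core hU p hp.out (hd.trans (Subgroup.relIndex_dvd_card _ _)) hpi
  have hPU : SylowOf p P U := by
    refine ⟨hP.1.trans hW, hP.2.1, fun Q hQ hQp hle => ?_⟩
    obtain ⟨T, hT⟩ := hP.toSylow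
    refine (Subgroup.eq_of_le_of_card_ge hle ?_).symm
    refine Nat.le_of_dvd Nat.card_pos ?_
    obtain ⟨k, hk⟩ := IsPGroup.iff_card.1 hQp
    have h1 : Nat.card ↥Q ∣ Nat.card ↥P * (T : Subgroup ↥W).index * W.relIndex U := by
      rw [← hT, Subgroup.card_map_of_injective W.subtype_injective, Subgroup.card_mul_index,
        mul_comm]
      have h2 := Subgroup.relIndex_mul_relIndex ⊥ W U bot_le hW
      rw [Subgroup.relIndex_bot_left, Subgroup.relIndex_bot_left] at h2
      rw [mul_comm, h2]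
      exact Subgroup.card_dvd_of_le hQ
    rw [hk, mul_assoc] at h1
    rw [hk]
    refine (Nat.Coprime.pow_left k ((hp.out.coprime_iff_not_dvd).2 fun hd => ?_)).dvd_of_dvd_mul_right h1
    exact (hp.out.dvd_mul.1 hd).elim T.not_dvd_index hidx
  obtain ⟨u, hu, huZ⟩ := exists_conj_le_sylowOf hPU hZ hZp
  obtain ⟨k, hk, w, hw, rfl⟩ := hdec u hu
  refine ⟨w⁻¹ * k * w, conj_mem_core' (hW hw) hk, w, hw, ?_⟩
  rwa [show w * (w⁻¹ * k * w) = k * w by group]

/-- Conjugation by a π'-element of a proper subgroup normalising `S` is invisible on `S`. -/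
theorem commute_of_core_of_normalizer {p : ℕ} [Fact p.Prime] (hpi : p ∈ π) (P : Subgroup G)
    (hP : IsPGroup p ↥P) {U : Subgroup G} (hU : U ≠ ⊤) {e : G} (he : e ∈ core π U)
    (hn : e ∈ Subgroup.normalizer (P : Set G)) {s : G} (hs : s ∈ P) : e * s = s * e :=
  (Subgroup.mem_centralizer_iff.1 (hc.mem_centralizer_of_primeTo (piNum_of_isPGroup hpi hP) hn
    ((hc.mem_core hU).1 he).2) s hs).symm

end Crit

end CfsgLib.PiHom
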