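import Cfsg.Agent.Lib.PiHom.Count
import Cfsg.Agent.S0217
import Cfsg.Agent.Lib.InvChar.SylowThree
import Cfsg.Agent.Lib.InvChar.HermNoSymThree
import Mathlib.FieldTheory.Finite.GaloisField
import Mathlib.GroupTheory.SpecificGroups.KleinFour

/-!
# A minimal counterexample has 2-rank two

The signalizer functor `a ↦ core π (C(a))` disposes of 2-rank at least three.
-/

set_option autoImplicit false
set_option linter.style.haveILetI false

namespace CfsgLib.PiHom

universe u

variable {π : Set ℕ} {G : Type u} [Group G] [Finite G]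

omit [Finite G] in
theorem mem_normalizer_of_conjBy_le [Finite G] {g : G} {T : Subgroup G} (h : conjBy g T ≤ T) :
    g ∈ Subgroup.normalizer (T : Set G) :=
  conjBy_eq_iff.1 (Subgroup.eq_of_le_of_card_ge h (card_conjBy g T).ge)

omit [Finite G] in
theorem conj_mem_centralizer {g a x : G} (hx : x ∈ Subgroup.centralizer ({a} : Set G)) :
    g * x * g⁻¹ ∈ Subgroup.centralizer ({g * a * g⁻¹} : Set G) := by
  rw [Subgroup.mem_centralizer_singleton_iff] at hx ⊢
  calc g * x * g⁻¹ * (g * a * g⁻¹) = g * (x * a) * g⁻¹ := by group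
    _ = g * (a * x) * g⁻¹ := by rw [hx]
    _ = g * a * g⁻¹ * (g * x * g⁻¹) := by group

namespace Crit

variable (hc : Crit π G)
include hc

theorem conj_core_centralizer {a g x : G} (ha : a ≠ 1)
    (hx : x ∈ core π (Subgroup.centralizer ({a} : Set G))) :
    g * x * g⁻¹ ∈ core π (Subgroup.centralizer ({g * a * g⁻¹} : Set G)) := by
  obtain ⟨h1, h2⟩ := (hc.mem_core (hc.centralizer_ne_top ha)).1 hx
  exact mem_core_of (conj_mem_centralizer h1) (primeTo_orderOf_conj g h2)

/-- The centralisers of central involutions are inside the normaliser of `zInv S` unless a core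
moves it. -/
theorem exists_core_not_le (S : Sylow 2 G) :
    ∃ a ∈ zInv (S : Subgroup G), a ≠ 1 ∧
      ¬ core π (Subgroup.centralizer ({a} : Set G)) ≤
        Subgroup.normalizer (zInv (S : Subgroup G) : Set G) := by
  haveI : Fact (Nat.Prime 2) := ⟨Nat.prime_two⟩
  obtain ⟨x, -, hx, -, hx1, -, -⟩ := hc.exists_zInv_pair S
  by_contra hcon
  push Not at hcon
  refine hc.no_over S (normalizer_le_normalizer_zInv _) (fun a ha ha1 g hg => ?_)
    (hc.normalizer_ne_top (fun h => hx1 (Subgroup.mem_bot.1 (h ▸ hx)))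
      (hc.ne_top_of_isPGroup (S.isPGroup'.to_le (zInv_le _))))
  obtain ⟨k, hk, n, hn, rfl⟩ := hc.centralizer_decomp S ha ha1 hg
  exact mul_mem (hcon a ha ha1 hk) (normalizer_le_normalizer_zInv _ hn)

/-- 2-rank at most two. -/
theorem card_le_four (S : Sylow 2 G) (B : Subgroup G) (hB : zInv (S : Subgroup G) ≤ B)
    (hcomm : ∀ a ∈ B, ∀ b ∈ B, a * b = b * a) (hexp : ∀ a ∈ B, a ^ 2 = 1) :
    Nat.card ↥B ≤ 4 := by
  haveI : Fact (Nat.Prime 2) := ⟨Nat.prime_two⟩
  by_contra hcard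
  have hBp : IsPGroup 2 ↥B := fun x => ⟨1, Subtype.ext (by simpa using hexp x x.2)⟩
  have h8 : 2 ^ 3 ≤ Nat.card ↥B := by
    obtain ⟨k, hk⟩ := IsPGroup.iff_card.1 hBp
    rw [hk] at hcard ⊢
    by_contra hlt
    have hk3 : k < 3 := by
      by_contra h
      exact hlt (Nat.pow_le_pow_right two_pos (not_lt.1 h))
    interval_cases k <;> simp at hcard
  set θ : G → Subgroup G := fun a => core π (Subgroup.centralizer ({a} : Set G)) with hθ
  have hodd : ∀ a : G, a ≠ 1 → Odd (Nat.card ↥(θ a)) := fun a ha =>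
    hc.odd_core (hc.centralizer_ne_top ha)
  obtain ⟨hW2, hWC⟩ := Cfsg.Agent.S0217.result (p := 2) B hcomm hexp h8 θ
    (fun a _ _ => core_le _) (fun a _ ha h => Nat.not_even_iff_odd.2 (hodd a ha) (even_iff_two_dvd.2 h))
    (fun a ha ha1 b hb y hy => by
      have h1 := hc.conj_core_centralizer (g := b) ha1 hy
      rwa [hcomm b hb a ha, mul_inv_cancel_right] at h1)
    (fun a _ ha => hc.isSolvable_core (hc.centralizer_ne_top ha))
    (fun a _ ha b _ _ y hy =>
      mem_core_of hy.2 ((hc.mem_core (hc.centralizer_ne_top ha)).1 hy.1).2)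
  set W := ⨆ a : {a : G // a ∈ B ∧ a ≠ 1}, θ a
  -- the subgroup generated by the cores at the central involutions
  set W₀ := ⨆ a : {a : G // a ∈ zInv (S : Subgroup G) ∧ a ≠ 1}, θ a with hW₀
  have hW₀W : W₀ ≤ W := iSup_le fun a =>
    le_iSup (fun b : {b : G // b ∈ B ∧ b ≠ 1} => θ b) ⟨a.1, hB a.2.1, a.2.2⟩
  have hW₀top : W₀ ≠ ⊤ := fun h => hW2 (by
    rw [h, top_le_iff] at hW₀W; rw [hW₀W, Subgroup.card_top]; exact hc.two_dvd)
  obtain ⟨a₀, ha₀, ha₀1, hnle⟩ := hc.exists_core_not_le S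
  have hW₀ne : W₀ ≠ ⊥ := fun h => hnle (by
    have h1 : θ a₀ ≤ W₀ :=
      le_iSup (fun b : {b : G // b ∈ zInv (S : Subgroup G) ∧ b ≠ 1} => θ b) ⟨a₀, ha₀, ha₀1⟩
    exact (h ▸ h1).trans bot_le)
  have hS : Subgroup.normalizer ((S : Subgroup G) : Set G) ≤ Subgroup.normalizer (W₀ : Set G) := by
    intro n hn
    refine mem_normalizer_of_conjBy_le ?_
    rw [conjBy, Subgroup.map_le_iff_le_comap]
    refine iSup_le fun a => fun y hy => ?_
    rw [Subgroup.mem_comap]
    exact le_iSup (fun b : {b : G // b ∈ zInv (S : Subgroup G) ∧ b ≠ 1} => θ b)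
      ⟨n * a.1 * n⁻¹, conj_mem_zInv hn a.2.1, fun h => a.2.2 (conj_eq_one_iff.1 h)⟩
      (hc.conj_core_centralizer a.2.2 hy)
  refine hc.no_over S hS (fun a ha ha1 g hg => ?_) (hc.normalizer_ne_top hW₀ne hW₀top)
  obtain ⟨k, hk, n, hn, rfl⟩ := hc.centralizer_decomp S ha ha1 hg
  exact mul_mem (Subgroup.le_normalizer
    (le_iSup (fun b : {b : G // b ∈ zInv (S : Subgroup G) ∧ b ≠ 1} => θ b) ⟨a, ha, ha1⟩ hk)) (hS hn)

theorem card_zInv (S : Sylow 2 G) : Nat.card ↥(zInv (S : Subgroup G)) = 4 := by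
  haveI : Fact (Nat.Prime 2) := ⟨Nat.prime_two⟩
  obtain ⟨x, y, hx, hy, hx1, hy1, hxy⟩ := hc.exists_zInv_pair S
  have h1 := hc.card_le_four S (zInv (S : Subgroup G)) le_rfl (fun a ha b hb => zInv_comm ha hb)
    (fun a ha => by rw [pow_two]; exact ha.2.1)
  have h2 : 3 ≤ Nat.card ↥(zInv (S : Subgroup G)) := by
    rw [← SetLike.coe_sort_coe, Nat.card_coe_set_eq]
    have hsub : ({1, x, y} : Set G) ⊆ (zInv (S : Subgroup G) : Set G) := by
      rintro w (rfl | rfl | rfl)
      exacts [one_mem _, hx, hy]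
    have h3 : ({1, x, y} : Set G).ncard = 3 := by
      rw [Set.ncard_eq_three]; exact ⟨1, x, y, Ne.symm hx1, Ne.symm hy1, hxy, rfl⟩
    rw [← h3]
    exact Set.ncard_le_ncard hsub (Set.toFinite _)
  obtain ⟨k, hk⟩ := IsPGroup.iff_card.1 (S.isPGroup'.to_le (zInv_le (S : Subgroup G)))
  have : k ≤ 2 := by
    by_contra hcon
    have h8 : 2 ^ 3 ≤ 2 ^ k := Nat.pow_le_pow_right two_pos (by omega)
    omega
  interval_cases k <;> simp_all

/-- every involution of `S` is central -/
theorem mem_zInv_of_sq (S : Sylow 2 G) {t : G} (ht : t ∈ (S : Subgroup G)) (ht2 : t * t = 1) :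
    t ∈ zInv (S : Subgroup G) := by
  by_contra hcon
  set A := zInv (S : Subgroup G) with hA
  set B := A ⊔ Subgroup.zpowers t with hB
  have hcomm : ∀ a ∈ B, ∀ b ∈ B, a * b = b * a := by
    have hle : B ≤ Subgroup.closure ((A : Set G) ∪ {t}) := sup_le
      (fun a ha => Subgroup.subset_closure (Or.inl ha))
      (Subgroup.zpowers_le.2 (Subgroup.subset_closure (Or.inr rfl)))
    have hpair : ∀ a ∈ (A : Set G) ∪ {t}, ∀ b ∈ (A : Set G) ∪ {t}, a * b = b * a := by
      rintro a (ha | rfl) b (hb | rfl)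
      exacts [zInv_comm ha hb, (ha.2.2 b ht).symm, hb.2.2 a ht, rfl]
    intro a ha b hb
    exact Subgroup.closure_induction₂ (p := fun a b _ _ => a * b = b * a)
      (fun a b ha hb => hpair a ha b hb) (fun _ _ => by simp) (fun _ _ => by simp)
      (fun a b c _ _ _ h1 h2 => by rw [mul_assoc, h2, ← mul_assoc, h1, mul_assoc])
      (fun a b c _ _ _ h1 h2 => by rw [← mul_assoc, h1, mul_assoc, h2, mul_assoc])
      (fun a b _ _ h1 => (Commute.inv_left h1).eq)
      (fun a b _ _ h1 => (Commute.inv_right h1).eq) (hle ha) (hle hb)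
  have hexp : ∀ a ∈ B, a ^ 2 = 1 := by
    intro a ha
    rw [hB, Subgroup.sup_eq_closure] at ha
    induction ha using Subgroup.closure_induction with
    | mem w hw =>
      rcases hw with hw | hw
      · rw [pow_two]; exact hw.2.1
      · obtain ⟨i, rfl⟩ := Subgroup.mem_zpowers_iff.1 hw
        rw [← zpow_natCast, ← zpow_mul, mul_comm, zpow_mul, zpow_natCast, pow_two, ht2, one_zpow]
    | one => exact one_pow 2
    | mul p q hp hq h1 h2 =>
      rw [← Subgroup.sup_eq_closure] at hp hq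
      rw [(show Commute p q from hcomm p hp q hq).mul_pow, h1, h2, one_mul]
    | inv p _ h1 => rw [inv_pow, h1, inv_one]
  have h1 := hc.card_le_four S B le_sup_left hcomm hexp
  rw [← hc.card_zInv S] at h1
  exact hcon (Subgroup.eq_of_le_of_card_ge (le_sup_left : A ≤ B) h1 ▸
    (le_sup_right : Subgroup.zpowers t ≤ B) (Subgroup.mem_zpowers t))

theorem pRankLE_two : Cfsg.PRankLE 2 2 G := by
  haveI : Fact (Nat.Prime 2) := ⟨Nat.prime_two⟩
  intro B _ hexp
  have hBp : IsPGroup 2 ↥B := fun x => ⟨1, Subtype.ext (by simpa using hexp x x.2)⟩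
  obtain ⟨S, hS⟩ := hBp.exists_le_sylow
  refine (Subgroup.card_le_of_le (K := zInv (S : Subgroup G)) fun b hb => ?_).trans_eq
    (by rw [hc.card_zInv S]; rfl)
  exact hc.mem_zInv_of_sq S (hS hb) (by rw [← pow_two]; exact hexp b hb)

/-- The two possible Sylow 2-subgroups. -/
theorem sylow_cases (S : Sylow 2 G) :
    IsKleinFour ↥(S : Subgroup G) ∨ InvCharSixtyFour.HermLike ↥(S : Subgroup G) 4 := by
  haveI := hc.simple
  haveI : Fact (Nat.Prime 2) := ⟨Nat.prime_two⟩
  haveI : Fintype (GaloisField 2 4) := Fintype.ofFinite _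
  have hF : Fintype.card (GaloisField 2 4) = 16 := by
    rw [← Nat.card_eq_fintype_card, GaloisField.card 2 4 (by norm_num)]; rfl
  obtain ⟨P⟩ : Nonempty (Sylow 2 (Cfsg.PSU 3 (GaloisField 2 4) 4)) := inferInstance
  have hinv : ∀ t : ↥(S : Subgroup G), orderOf t = 2 → ∀ s, s * t = t * s := by
    intro t ht s
    have h2 : t * t = 1 := by simpa [ht, pow_two] using pow_orderOf_eq_one t
    exact Subtype.ext ((hc.mem_zInv_of_sq S t.2 (congrArg Subtype.val h2)).2.2 s s.2)
  rcases RankTwoTypes.sylow_types_of_even hc.nonab hc.two_dvd hc.pRankLE_two S hF P with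
    ⟨n, hn, ⟨e⟩⟩ | hqd | hwr | ⟨⟨e⟩⟩
  · left
    haveI : NeZero n := ⟨by omega⟩
    have hcentral : DihedralGroup.r (1 : ZMod n) * DihedralGroup.sr 0 =
        DihedralGroup.sr 0 * DihedralGroup.r 1 := by
      have h1 := hinv (e.symm (DihedralGroup.sr 0))
        (by rw [MulEquiv.orderOf_eq]; exact DihedralGroup.orderOf_sr 0) (e.symm (DihedralGroup.r 1))
      rw [← map_mul, ← map_mul] at h1
      exact e.symm.injective h1
    rw [DihedralGroup.r_mul_sr, DihedralGroup.sr_mul_r, DihedralGroup.sr.injEq] at hcentral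
    have h2 : (2 : ZMod n) = 0 := by linear_combination -hcentral
    have hn2 : n ∣ 2 := (ZMod.natCast_eq_zero_iff 2 n).1 (by exact_mod_cast h2)
    obtain rfl : n = 2 := le_antisymm (Nat.le_of_dvd two_pos hn2) hn
    have hcard : Nat.card ↥(S : Subgroup G) = 4 := by
      rw [Nat.card_congr e.toEquiv, DihedralGroup.nat_card]
    refine ⟨hcard, ?_⟩
    refine (Nat.dvd_prime Nat.prime_two).1 (Monoid.exponent_dvd.2 fun g => ?_) |>.resolve_left ?_
    · have h3 : ∀ a : DihedralGroup 2, a * a = 1 := by decide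
      refine orderOf_dvd_of_pow_eq_one (e.injective ?_)
      rw [map_pow, map_one, pow_two]
      exact h3 _
    · intro h1
      haveI := Monoid.exp_eq_one_iff.1 h1
      rw [Nat.card_unique] at hcard
      omega
  · exfalso
    obtain ⟨n, hn, -, x, y, hx, hy, hrel⟩ := hqd
    rw [← hinv y hy x, mul_inv_cancel_right] at hrel
    have h3 : 2 ≤ 2 ^ (n - 1) :=
      le_trans (by norm_num) (Nat.pow_le_pow_right two_pos (show 1 ≤ n - 1 by omega))
    have h4 : 2 ^ (n - 1) * 2 = 2 ^ n := by rw [← pow_succ]; congr 1; omega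
    have h5 : x ^ (2 ^ (n - 1) - 1) = x ^ 1 := by rw [pow_one]; exact hrel.symm
    rw [pow_eq_pow_iff_modEq, hx] at h5
    have h6 : 2 ^ (n - 1) - 1 = 1 :=
      Nat.ModEq.eq_of_lt_of_lt h5 (by omega) (by omega)
    have h7 : 4 ≤ 2 ^ (n - 1) :=
      le_trans (by norm_num) (Nat.pow_le_pow_right two_pos (show 2 ≤ n - 1 by omega))
    omega
  · exfalso
    obtain ⟨n, hn, -, x, y, w, hx, -, hinf, hw, hrel⟩ := hwr
    rw [← hinv w hw x, mul_inv_cancel_right] at hrel
    subst hrel
    rw [inf_idem, Subgroup.zpowers_eq_bot] at hinf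
    rw [hinf, orderOf_one] at hx
    have : 2 ^ 2 ≤ 2 ^ n := Nat.pow_le_pow_right two_pos hn
    omega
  · right
    have hF' : Fintype.card (GaloisField 2 4) = 4 ^ 2 := by rw [hF]; norm_num
    let _ := InvCharThree.hermGroup hF' (show Even 4 by decide)
    obtain ⟨g⟩ := InvCharThree.herm_equiv_sylow_psu hF' (show Even 4 by decide) (n := 2) rfl P
    exact InvCharSixtyFour.hermLike_of_equiv (g.trans e.symm)
      (InvCharSixtyFour.hermLike_herm hF' (show Even 4 by decide))

end Crit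

end CfsgLib.PiHom
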