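import Cfsg.Agent.Lib.Blocks.PrincipalColumn
import Cfsg.Agent.Lib.Blocks.SectionNorm
import Cfsg.Agent.Lib.Blocks.ClassCount

/-!
# The indicator of a 2-section with a normal 2-complement

If `C(s)` has a normal odd subgroup of index `m = 2^k`, the coefficient of the indicator of the
section of `s` at `χ` is `conj (χ s) / m` in the principal block and zero outside.
-/

set_option autoImplicit false
set_option linter.style.haveILetI false

namespace CfsgLib.PiHom

open Cfsg CfsgLib.Characters CfsgLib.Blocks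
open scoped ComplexConjugate

universe u

variable {G : Type u} [Group G] [Fintype G]

open scoped Classical in
/-- the elements whose 2-part is conjugate to `s` -/
noncomputable def sect (s : G) : Finset G :=
  Finset.univ.filter fun g => ∃ x, IsPPart 2 g x ∧ IsConj s x

open scoped Classical in
/-- the indicator function -/
noncomputable def sectInd (s : G) : G → ℂ := fun g => if g ∈ sect s then 1 else 0

theorem mem_sect {s g : G} : g ∈ sect s ↔ ∃ x, IsPPart 2 g x ∧ IsConj s x := by
  classical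
  simp [sect]

theorem isClassFunction_sectInd (s : G) : IsClassFunction G (sectInd s) := by
  intro g h
  have key : ∀ a b : G, a ∈ sect s → b * a * b⁻¹ ∈ sect s := by
    intro a b ha
    obtain ⟨x, hx, hsx⟩ := mem_sect.1 ha
    exact mem_sect.2 ⟨_, IsPPart.conj hx b, hsx.trans (isConj_iff.2 ⟨b, rfl⟩)⟩
  classical
  simp only [sectInd]
  refine if_congr ⟨fun hh => ?_, key g h⟩ rfl rfl
  have h1 := key _ h⁻¹ hh
  rwa [show h⁻¹ * (h * g * h⁻¹) * h⁻¹⁻¹ = g by group] at h1

/-- A normal odd subgroup of 2-power index. -/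
structure TwoCompl (s : G) (O : Subgroup G) (k : ℕ) : Prop where
  le : O ≤ Subgroup.centralizer ({s} : Set G)
  norm : Subgroup.centralizer ({s} : Set G) ≤ Subgroup.normalizer (O : Set G)
  odd : Odd (Nat.card ↥O)
  index : O.relIndex (Subgroup.centralizer ({s} : Set G)) = 2 ^ k

variable {s : G} {O : Subgroup G} {k : ℕ} (hO : TwoCompl s O k)
include hO

omit [Fintype G] in
theorem TwoCompl.mem [Finite G] {y : G} (hy : Commute s y) (hodd : ¬ 2 ∣ orderOf y) : y ∈ O := by
  haveI : (O.subgroupOf (Subgroup.centralizer ({s} : Set G))).Normal :=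
    Subgroup.normal_subgroupOf_of_le_normalizer hO.norm
  have h1 := Subgroup.pow_index_mem (O.subgroupOf (Subgroup.centralizer ({s} : Set G)))
    (⟨y, Subgroup.mem_centralizer_singleton_iff.2 hy.eq.symm⟩ : ↥(Subgroup.centralizer ({s} : Set G)))
  rw [Subgroup.mem_subgroupOf, Subgroup.coe_pow] at h1
  rw [show (O.subgroupOf (Subgroup.centralizer ({s} : Set G))).index = 2 ^ k from hO.index] at h1
  obtain ⟨m, hm⟩ := exists_pow_eq_self_of_coprime
    (Nat.Coprime.pow_left k (Nat.prime_two.coprime_iff_not_dvd.2 hodd))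
  rw [← hm]
  exact pow_mem h1 m

omit [Fintype G] in
theorem TwoCompl.not_dvd [Finite G] {y : G} (hy : y ∈ O) : ¬ 2 ∣ orderOf y := fun h => by
  have h1 := orderOf_dvd_natCard (⟨y, hy⟩ : ↥O)
  rw [Subgroup.orderOf_mk] at h1
  exact Nat.not_even_iff_odd.2 (hO.odd.of_dvd_nat h1) (even_iff_two_dvd.2 h)

theorem TwoCompl.card_sect (hs : ∃ j : ℕ, orderOf s = 2 ^ j) :
    (sect s).card * 2 ^ k = Nat.card G := by
  classical
  haveI : Fact (Nat.Prime 2) := ⟨Nat.prime_two⟩
  have hfib : ∀ x ∈ ClassCount.cls s,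
      ((sect s).filter fun g => IsPPart 2 g x).card = Nat.card ↥O := by
    intro x hx
    obtain ⟨d, hd⟩ := isConj_iff.1 (ClassCount.mem_cls.1 hx)
    haveI := Fintype.ofFinite ↥O
    rw [Nat.card_eq_fintype_card, ← Finset.card_univ]
    symm
    have hpp : ∀ o : ↥O, IsPPart 2 (d * (s * (o : G)) * d⁻¹) x := fun o => by
      rw [← hd]
      exact IsPPart.conj (isPPart_mul (Subgroup.mem_centralizer_singleton_iff.1 (hO.le o.2)).symm hs
        (hO.not_dvd o.2)) d
    refine Finset.card_bij (fun o _ => d * (s * (o : G)) * d⁻¹) (fun o _ => ?_) (fun a _ b _ h => ?_)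
      (fun g hg => ?_)
    · exact Finset.mem_filter.2 ⟨mem_sect.2 ⟨x, hpp o, ClassCount.mem_cls.1 hx⟩, hpp o⟩
    · exact Subtype.ext (mul_left_cancel (mul_left_cancel (mul_right_cancel h)))
    · have h1 := IsPPart.conj (Finset.mem_filter.1 hg).2 d⁻¹
      rw [← hd, show d⁻¹ * (d * s * d⁻¹) * d⁻¹⁻¹ = s by group, inv_inv] at h1
      obtain ⟨y, hy, hc, -, hy2⟩ := h1
      exact ⟨⟨y, hO.mem hc hy2⟩, Finset.mem_univ _, by
        show d * (s * y) * d⁻¹ = g
        rw [hy]; group⟩
  have hsum : (sect s).card = ∑ x ∈ ClassCount.cls s,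
      ((sect s).filter fun g => IsPPart 2 g x).card := by
    rw [← Finset.card_biUnion]
    · congr 1
      ext g
      simp only [Finset.mem_biUnion, Finset.mem_filter]
      refine ⟨fun hg => ?_, fun ⟨_, _, hg, _⟩ => hg⟩
      obtain ⟨x, hx, hsx⟩ := mem_sect.1 hg
      exact ⟨x, ClassCount.mem_cls.2 hsx, hg, hx⟩
    · intro x _ y _ hxy
      simp only [Function.onFun, Finset.disjoint_left, Finset.mem_filter]
      exact fun g h1 h2 => hxy (IsPPart.unique Nat.prime_two h1.2 h2.2)
  rw [hsum, Finset.sum_congr rfl hfib, Finset.sum_const, smul_eq_mul, mul_assoc, ← hO.index]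
  have h2 := Subgroup.relIndex_mul_relIndex ⊥ O _ bot_le hO.le
  rw [Subgroup.relIndex_bot_left, Subgroup.relIndex_bot_left] at h2
  rw [h2, ClassCount.card_cls_mul_centralizer]

omit hO in
theorem sum_sect (f : G → ℂ) : ∑ g, sectInd s g * f g = ∑ g ∈ sect s, f g := by
  classical
  simp [sectInd]

variable {M : Ideal AlgInt}

theorem TwoCompl.principal_norm (hM : IsPModular 2 M) (hs : ∃ j : ℕ, orderOf s = 2 ^ j) :
    ∑ ζ : IrrCharacter G, (Set.indicator (principalBlock M G)
      (fun ζ => (ζ : G → ℂ) s * conj ((ζ : G → ℂ) s)) ζ) = ((2 ^ k : ℕ) : ℂ) := by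
  classical
  haveI : Fact (Nat.Prime 2) := ⟨Nat.prime_two⟩
  set C := Subgroup.centralizer ({s} : Set G) with hC
  letI := Fintype.ofFinite ↥C
  have h1 : ¬ 2 ∣ orderOf (1 : ↥C) := by rw [orderOf_one]; norm_num
  have hn : (O.subgroupOf C).Normal := Subgroup.normal_subgroupOf_of_le_normalizer hO.norm
  have hle : O.subgroupOf C ≤ pPrimeCore 2 ↥C := PCore.le_pPrimeCore hn (by
    rw [Nat.card_congr (Subgroup.subgroupOfEquivOfLe hO.le).toEquiv]
    exact Nat.coprime_two_right.2 hO.odd)
  have heq : pPrimeCore 2 ↥C = O.subgroupOf C := by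
    refine le_antisymm ?_ hle
    rw [← Subgroup.relIndex_eq_one]
    obtain ⟨j, -, hj⟩ := (Nat.dvd_prime_pow Nat.prime_two).1
      (show (O.subgroupOf C).relIndex (pPrimeCore 2 ↥C) ∣ 2 ^ k by
        rw [← hO.index]; exact Subgroup.relIndex_dvd_index_of_le hle)
    refine Nat.eq_one_of_dvd_coprimes ?_ (dvd_refl _) (Subgroup.relIndex_dvd_card _ _)
    rw [hj]
    exact Nat.Coprime.pow_left j (PCore.pPrimeCore_coprime).symm
  have h2 := principal_section_norm hM hs h1
  have h3 := principal_norm_of_complement hM (H := ↥C) ⟨k, by rw [heq]; exact hO.index⟩ h1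
  have hk : (Nat.card ↥C).factorization 2 = k := by
    have h4 := (O.subgroupOf C).card_mul_index
    rw [show (O.subgroupOf C).index = 2 ^ k from hO.index] at h4
    rw [← h4, Nat.factorization_mul Nat.card_pos.ne' (pow_ne_zero _ two_ne_zero), Finsupp.add_apply,
      Nat.Prime.factorization_pow Nat.prime_two, Finsupp.single_eq_same,
      Nat.factorization_eq_zero_of_not_dvd, zero_add]
    rw [Nat.card_congr (Subgroup.subgroupOfEquivOfLe hO.le).toEquiv]
    exact fun h => Nat.not_even_iff_odd.2 hO.odd (even_iff_two_dvd.2 h)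
  rw [hk] at h3
  rw [h3] at h2
  simp only [Subgroup.coe_one, mul_one] at h2
  simp only [Set.indicator_apply, ← Finset.sum_filter]
  simp only [Complex.mul_conj']
  exact_mod_cast h2

/-- The coefficients of the indicator. -/
theorem TwoCompl.coeff (hM : IsPModular 2 M) (hs : ∃ j : ℕ, orderOf s = 2 ^ j)
    (ζ : IrrCharacter G) :
    classInner (sectInd s) (ζ : G → ℂ) =
      Set.indicator (principalBlock M G) (fun ζ => conj ((ζ : G → ℂ) s) / ((2 ^ k : ℕ) : ℂ)) ζ := by
  classical
  haveI : Fact (Nat.Prime 2) := ⟨Nat.prime_two⟩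
  set m : ℂ := ((2 ^ k : ℕ) : ℂ) with hm
  have hm0 : m ≠ 0 := by rw [hm]; exact_mod_cast pow_ne_zero k two_ne_zero
  have hmreal : conj m = m := by rw [hm, Complex.conj_natCast]
  set a : IrrCharacter G → ℂ := fun ζ => classInner (sectInd s) (ζ : G → ℂ) with ha
  -- the linear relation on the section, inside the principal block
  have hrel : ∑ ζ : IrrCharacter G,
      Set.indicator (principalBlock M G) (fun ζ => a ζ * (ζ : G → ℂ) s) ζ = 1 := by
    let c : IrrCharacter G → ℂ := fun ζ => a ζ - if ζ = principalIrr G then 1 else 0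
    have h := sum_principal_eq_zero_of_section hM hs c fun y hy hodd => by
      have h1 : s * y ∈ sect s :=
        mem_sect.2 ⟨s, isPPart_mul hy.symm hs hodd, IsConj.refl s⟩
      have h2 := congrFun (classFunction_eq_sum (isClassFunction_sectInd s)) (s * y)
      simp only [Finset.sum_apply, Pi.smul_apply, smul_eq_mul, sectInd, if_pos h1] at h2
      simp only [c, sub_mul, Finset.sum_sub_distrib, ite_mul, zero_mul, one_mul,
        Finset.sum_ite_eq', Finset.mem_univ, if_true]
      rw [← h2]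
      exact sub_eq_zero.2 rfl
    simp only [c, sub_mul, Finset.sum_sub_distrib, ite_mul, zero_mul, one_mul,
      Finset.sum_ite_eq'] at h
    have hp : principalIrr G ∈ principalBlock M G := mem_blockOf_self hM (principalIrr G)
    simp only [Finset.mem_filter, Finset.mem_univ, true_and, hp, if_true] at h
    simp only [Set.indicator_apply, ← Finset.sum_filter]
    exact sub_eq_zero.1 h
  -- Parseval
  have hpar : ∑ ζ : IrrCharacter G, a ζ * conj (a ζ) = m⁻¹ := by
    rw [← classInner_eq_sum_mul (isClassFunction_sectInd s), classInner]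
    have h1 : ∑ g, sectInd s g * conj (sectInd s g) = ((sect s).card : ℂ) := by
      simp [sectInd, apply_ite (conj : ℂ → ℂ)]
    rw [h1, ← hO.card_sect hs, Nat.cast_mul, mul_inv, ← hm, mul_right_comm,
      inv_mul_cancel₀, one_mul]
    intro h0
    have h2 := hO.card_sect hs
    rw [Nat.cast_eq_zero.1 h0, zero_mul] at h2
    exact Nat.card_pos.ne' h2.symm
  set e : IrrCharacter G → ℂ := fun ζ => a ζ -
    Set.indicator (principalBlock M G) (fun ζ => conj ((ζ : G → ℂ) s) / m) ζ with he
  have hexp : ∀ ζ, e ζ * conj (e ζ) = a ζ * conj (a ζ) -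
      m⁻¹ * Set.indicator (principalBlock M G) (fun ζ => a ζ * (ζ : G → ℂ) s) ζ -
      m⁻¹ * conj (Set.indicator (principalBlock M G) (fun ζ => a ζ * (ζ : G → ℂ) s) ζ) +
      m⁻¹ * m⁻¹ * Set.indicator (principalBlock M G)
        (fun ζ => (ζ : G → ℂ) s * conj ((ζ : G → ℂ) s)) ζ := fun ζ => by
    by_cases hζ : ζ ∈ principalBlock M G
    · simp only [he, Set.indicator_of_mem hζ, map_sub, map_inv₀, map_mul, Complex.conj_conj, hmreal,
        div_eq_mul_inv]
      ring
    · simp [he, Set.indicator_of_notMem hζ]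
  have hzero : ∑ ζ, e ζ * conj (e ζ) = 0 := by
    simp only [hexp, Finset.sum_add_distrib, Finset.sum_sub_distrib, ← Finset.mul_sum, ← map_sum,
      hrel, hpar, hO.principal_norm hM hs, map_one, ← hm]
    field_simp
    ring
  simp only [Complex.mul_conj] at hzero
  rw [← Complex.ofReal_sum, Complex.ofReal_eq_zero] at hzero
  have h0 := (Finset.sum_eq_zero_iff_of_nonneg fun x _ => Complex.normSq_nonneg _).1 hzero ζ
    (Finset.mem_univ _)
  exact sub_eq_zero.1 (Complex.normSq_eq_zero.1 h0)

theorem TwoCompl.sum_sect_apply (hM : IsPModular 2 M) (hs : ∃ j : ℕ, orderOf s = 2 ^ j)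
    (ζ : IrrCharacter G) :
    ∑ t ∈ sect s, (ζ : G → ℂ) t⁻¹ = (Nat.card G : ℂ) *
      Set.indicator (principalBlock M G) (fun ζ => conj ((ζ : G → ℂ) s) / ((2 ^ k : ℕ) : ℂ)) ζ := by
  rw [← hO.coeff hM hs ζ, classInner, ← mul_assoc,
    mul_inv_cancel₀ (Nat.cast_ne_zero.2 Nat.card_pos.ne'), one_mul, sum_sect]
  exact Finset.sum_congr rfl fun t _ => irr_apply_inv ζ t

end CfsgLib.PiHom
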