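import Mathlib.Combinatorics.Pigeonhole
import Mathlib.Data.Fintype.BigOperators
import Mathlib.Algebra.Order.BigOperators.Ring.Finset
import Mathlib.Algebra.Order.BigOperators.Group.Finset
import Mathlib.Data.Rat.Cast.Order
import Mathlib.Tactic

/-!
# The arithmetic contradiction for the unitary-type Sylow subgroup

Five integral vectors of norm three and mutual inner product two form a sunflower; the
congruences and relations then leave no solution.
-/

set_option autoImplicit false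

namespace CfsgLib.PiHom.Arith

variable {ι : Type*} [Fintype ι] [DecidableEq ι]

/-- the support -/
def supp (f : ι → ℤ) : Finset ι := Finset.univ.filter fun x => f x ≠ 0

omit [DecidableEq ι] in
theorem mem_supp {f : ι → ℤ} {x : ι} : x ∈ supp f ↔ f x ≠ 0 := by simp [supp]

theorem abs_one_of_norm {f : ι → ℤ} (h : ∑ x, f x * f x = 3) {x : ι} (hx : x ∈ supp f) :
    f x = 1 ∨ f x = -1 := by
  have h1 : f x * f x ≤ 3 := h ▸ Finset.single_le_sum (fun y _ => mul_self_nonneg (f y)) (Finset.mem_univ x)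
  have h2 : -1 ≤ f x := by nlinarith
  have h3 : f x ≤ 1 := by nlinarith
  have := mem_supp.1 hx
  omega

theorem card_supp {f : ι → ℤ} (h : ∑ x, f x * f x = 3) : (supp f).card = 3 := by
  have h1 : ∑ x ∈ supp f, f x * f x = ∑ x, f x * f x :=
    Finset.sum_subset (Finset.subset_univ _) fun x _ hx => by
      simp [not_not.1 (mt mem_supp.2 hx)]
  rw [h, Finset.sum_congr rfl (fun x hx => show f x * f x = 1 by
    rcases abs_one_of_norm h hx with e | e <;> rw [e] <;> norm_num)] at h1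
  simp only [Finset.sum_const, nsmul_eq_mul, mul_one] at h1
  exact_mod_cast h1

theorem inter_two {f g : ι → ℤ} (hf : ∑ x, f x * f x = 3) (hg : ∑ x, g x * g x = 3)
    (hfg : ∑ x, f x * g x = 2) :
    (supp f ∩ supp g).card = 2 ∧ ∀ x ∈ supp f ∩ supp g, f x = g x := by
  have h1 : ∑ x ∈ supp f ∩ supp g, f x * g x = ∑ x, f x * g x :=
    Finset.sum_subset (Finset.subset_univ _) fun x _ hx => by
      simp only [Finset.mem_inter, mem_supp, not_and_or, not_not] at hx
      rcases hx with e | e <;> simp [e]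
  rw [hfg] at h1
  have hpm : ∀ x ∈ supp f ∩ supp g, f x * g x = 1 ∨ f x * g x = -1 := fun x hx => by
    obtain ⟨h2, h3⟩ := Finset.mem_inter.1 hx
    rcases abs_one_of_norm hf h2 with e | e <;> rcases abs_one_of_norm hg h3 with e' | e' <;>
      simp [e, e']
  -- the defect is twice the number of disagreements
  have h4 : ∑ x ∈ supp f ∩ supp g, (1 - f x * g x) = ((supp f ∩ supp g).card : ℤ) - 2 := by
    rw [Finset.sum_sub_distrib, h1]; simp
  have h5 : (2 : ℤ) ∣ ∑ x ∈ supp f ∩ supp g, (1 - f x * g x) := Finset.dvd_sum fun x hx => by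
    rcases hpm x hx with e | e <;> rw [e] <;> norm_num
  have hle : (supp f ∩ supp g).card ≤ 3 :=
    (Finset.card_le_card Finset.inter_subset_left).trans_eq (card_supp hf)
  have h0 : 0 ≤ ∑ x ∈ supp f ∩ supp g, (1 - f x * g x) := Finset.sum_nonneg fun x hx => by
    rcases hpm x hx with e | e <;> rw [e] <;> norm_num
  rw [h4] at h5 h0
  have hc : (supp f ∩ supp g).card = 2 := by omega
  refine ⟨hc, fun x hx => ?_⟩
  have h6 := (Finset.sum_eq_zero_iff_of_nonneg fun y hy => by
    rcases hpm y hy with e | e <;> rw [e] <;> norm_num).1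
    (show ∑ y ∈ supp f ∩ supp g, (1 - f y * g y) = 0 by rw [h4]; omega) x hx
  obtain ⟨h2, h3⟩ := Finset.mem_inter.1 hx
  rcases abs_one_of_norm hf h2 with e | e <;> rcases abs_one_of_norm hg h3 with e' | e' <;>
    simp [e, e'] at h6 ⊢

omit [Fintype ι] in
/-- five triples meeting pairwise in pairs form a sunflower -/
theorem sunflower {T : Fin 5 → Finset ι} (h3 : ∀ i, (T i).card = 3)
    (h2 : ∀ i j, i ≠ j → (T i ∩ T j).card = 2) : ∀ i, T 0 ∩ T 1 ⊆ T i := by
  by_contra hcon
  push Not at hcon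
  obtain ⟨k, hk⟩ := hcon
  set C := T 0 ∩ T 1 with hC
  set U := T 0 ∪ T 1 with hU
  have hCc : C.card = 2 := h2 0 1 (by decide)
  have hUc : U.card = 4 := by
    have h4 := Finset.card_union_add_card_inter (T 0) (T 1)
    rw [← hU, ← hC, hCc, h3, h3] at h4
    omega
  have hlack : ∀ l, ¬ C ⊆ T l → T l ⊆ U := by
    intro l hl
    have hl0 : l ≠ 0 := fun e => hl (e ▸ Finset.inter_subset_left)
    have hl1 : l ≠ 1 := fun e => hl (e ▸ Finset.inter_subset_right)
    have h4 := Finset.card_union_add_card_inter (T l ∩ T 0) (T l ∩ T 1)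
    rw [← Finset.inter_union_distrib_left, ← hU, ← Finset.inter_inter_distrib_left, ← hC,
      h2 l 0 hl0, h2 l 1 hl1] at h4
    have h5 : (T l ∩ C).card < 2 := by
      rw [← hCc]
      exact Finset.card_lt_card ⟨Finset.inter_subset_right, fun h => hl (h.trans Finset.inter_subset_left)⟩
    have h6 : T l ∩ U = T l :=
      Finset.eq_of_subset_of_card_le Finset.inter_subset_left (by rw [h3]; omega)
    exact h6 ▸ Finset.inter_subset_right
  have hall : ∀ l, T l ⊆ U := by
    intro l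
    by_cases hl : C ⊆ T l
    swap
    · exact hlack l hl
    have hkl : l ≠ k := fun e => hk (e ▸ hl)
    have h5 : (T k ∩ C).card < 2 := by
      rw [← hCc]
      exact Finset.card_lt_card ⟨Finset.inter_subset_right, fun h => hk (h.trans Finset.inter_subset_left)⟩
    obtain ⟨y, hy, hyC⟩ : ∃ y ∈ T l ∩ T k, y ∉ C := by
      by_contra h6
      push Not at h6
      have h7 := Finset.card_le_card (show T l ∩ T k ⊆ T k ∩ C from fun y hy =>
        Finset.mem_inter.2 ⟨(Finset.mem_inter.1 hy).2, h6 y hy⟩)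
      rw [h2 l k hkl] at h7
      omega
    have h8 : insert y C = T l := Finset.eq_of_subset_of_card_le
      (Finset.insert_subset (Finset.mem_inter.1 hy).1 hl)
      (by rw [Finset.card_insert_of_notMem hyC, hCc, h3])
    rw [← h8]
    exact Finset.insert_subset (hlack k hk (Finset.mem_inter.1 hy).2)
      (Finset.inter_subset_left.trans Finset.subset_union_left)
  -- five triples inside four points
  have hmiss : ∀ l, ∃ y ∈ U, y ∉ T l := fun l => Finset.not_subset.1 fun h => by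
    have := Finset.card_le_card h
    rw [hUc, h3] at this
    omega
  choose f hf hf' using hmiss
  obtain ⟨i, -, j, -, hij, he⟩ := Finset.exists_ne_map_eq_of_card_lt_of_maps_to
    (s := (Finset.univ : Finset (Fin 5))) (t := U) (by rw [hUc]; simp) (f := f) (fun l _ => hf l)
  have heq : ∀ l, T l = U.erase (f l) := fun l => Finset.eq_of_subset_of_card_le
    (fun y hy => Finset.mem_erase.2 ⟨fun e => hf' l (e ▸ hy), hall l hy⟩)
    (by rw [Finset.card_erase_of_mem (hf l), hUc, h3])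
  have := h2 i j hij
  rw [heq i, heq j, he, Finset.inter_self, Finset.card_erase_of_mem (hf j), hUc] at this
  omega

theorem final_absurd {a b A v₁ v₂ w : ℤ} (ha1 : a ≠ 1)
    (hb1 : b ≠ 1) (hca : (64 : ℤ) ∣ a + 3 * v₁ + 60) (hcb : (64 : ℤ) ∣ b + 3 * v₂ + 60)
    (hcA : (64 : ℤ) ∣ A + 3 * w + 12) (hv₁ : (16 : ℤ) ∣ a - v₁) (hv₂ : (16 : ℤ) ∣ b - v₂)
    (hw : (16 : ℤ) ∣ A - w) (hsum : v₁ + v₂ + w = -1)
    (hsq : v₁ * v₁ + v₂ * v₂ + 5 * (w * w) ≤ 63)
    (hrec : 1 + (v₁ * v₁ : ℚ) / a + (v₂ * v₂ : ℚ) / b + (w * w : ℚ) / A = 0) : False := by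
  have b1 : -7 ≤ v₁ ∧ v₁ ≤ 7 := ⟨by nlinarith, by nlinarith⟩
  have b2 : -3 ≤ w ∧ w ≤ 3 := ⟨by nlinarith, by nlinarith⟩
  have hv2 : v₂ = -1 - v₁ - w := by omega
  have hcases : (v₁ = 1 ∧ v₂ = 1 ∧ w = -3) ∨ (v₁ = -3 ∧ v₂ = 1 ∧ w = 1) ∨
      (v₁ = 1 ∧ v₂ = -3 ∧ w = 1) := by
    obtain ⟨l1, u1⟩ := b1
    obtain ⟨l2, u2⟩ := b2
    subst hv2
    interval_cases v₁ <;> interval_cases w <;> omega
  -- reciprocals of integers of large absolute value are small
  have hrec' : ∀ {n : ℤ} (N : ℕ), 0 < N → (N : ℤ) ≤ |n| →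
      -(1 / (N : ℚ)) ≤ 1 / (n : ℚ) ∧ 1 / (n : ℚ) ≤ 1 / (N : ℚ) := by
    intro n N hN hn
    have h1 : |1 / (n : ℚ)| ≤ 1 / (N : ℚ) := by
      rw [abs_div, abs_one]
      refine one_div_le_one_div_of_le (by exact_mod_cast hN) ?_
      rw [← Int.cast_abs]
      exact_mod_cast hn
    exact abs_le.1 h1
  have big : ∀ n : ℤ, n ≠ 1 → (64 : ℤ) ∣ n - 1 → (63 : ℕ) ≤ |n| := fun n h1 h2 => by
    rcases abs_cases n with h | h <;> omega
  rcases hcases with ⟨rfl, rfl, rfl⟩ | ⟨rfl, rfl, rfl⟩ | ⟨rfl, rfl, rfl⟩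
  · obtain ⟨p1, p2⟩ := hrec' 63 (by norm_num) (big a ha1 (by omega))
    obtain ⟨q1, q2⟩ := hrec' 63 (by norm_num) (big b hb1 (by omega))
    by_cases hA3 : A = -3
    · subst hA3; norm_num at hrec p1 p2 q1 q2; linarith
    obtain ⟨r1, r2⟩ := hrec' (n := A) 61 (by norm_num) (by rcases abs_cases A with h | h <;> omega)
    push_cast at hrec p1 p2 q1 q2 r1 r2
    simp only [neg_mul_neg, div_eq_mul_inv, one_mul] at hrec p1 p2 q1 q2 r1 r2
    linarith
  · obtain ⟨q1, q2⟩ := hrec' 63 (by norm_num) (big b hb1 (by omega))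
    obtain ⟨p1, p2⟩ := hrec' (n := a) 13 (by norm_num) (by rcases abs_cases a with h | h <;> omega)
    obtain ⟨r1, r2⟩ := hrec' (n := A) 15 (by norm_num) (by rcases abs_cases A with h | h <;> omega)
    push_cast at hrec p1 p2 q1 q2 r1 r2
    simp only [neg_mul_neg, div_eq_mul_inv, one_mul] at hrec p1 p2 q1 q2 r1 r2
    linarith
  · obtain ⟨p1, p2⟩ := hrec' 63 (by norm_num) (big a ha1 (by omega))
    obtain ⟨q1, q2⟩ := hrec' (n := b) 13 (by norm_num) (by rcases abs_cases b with h | h <;> omega)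
    obtain ⟨r1, r2⟩ := hrec' (n := A) 15 (by norm_num) (by rcases abs_cases A with h | h <;> omega)
    push_cast at hrec p1 p2 q1 q2 r1 r2
    simp only [neg_mul_neg, div_eq_mul_inv, one_mul] at hrec p1 p2 q1 q2 r1 r2
    linarith

/-- The system has no solution. -/
theorem system_absurd (e : Fin 5 → ι → ℤ) (d v : ι → ℤ)
    (hee : ∀ i j, ∑ x, e i x * e j x = 2 + if i = j then 1 else 0)
    (hd : ∀ x, 2 ≤ d x) (hev : ∀ i, ∑ x, e i x * v x = -1)
    (hev2 : ∀ i, 1 + ∑ x, (e i x : ℚ) * ((v x * v x : ℚ) / d x) = 0)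
    (hv2 : ∑ x, v x * v x ≤ 63) (h64 : ∀ x, (64 : ℤ) ∣ d x + 3 * v x + 12 * ∑ i, e i x)
    (h16 : ∀ x, (16 : ℤ) ∣ d x - v x) : False := by
  have h3 : ∀ i, ∑ x, e i x * e i x = 3 := fun i => by simp [hee i i]
  have hI : ∀ i j, i ≠ j → (supp (e i) ∩ supp (e j)).card = 2 ∧
      ∀ x ∈ supp (e i) ∩ supp (e j), e i x = e j x :=
    fun i j hij => inter_two (h3 i) (h3 j) (by simp [hee i j, hij])
  have hsun := sunflower (T := fun i => supp (e i)) (fun i => card_supp (h3 i))
    fun i j hij => (hI i j hij).1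
  obtain ⟨a, b, hab, hCab⟩ := Finset.card_eq_two.1 (hI 0 1 (by decide)).1
  have hC : ∀ i, a ∈ supp (e i) ∧ b ∈ supp (e i) := fun i =>
    ⟨hsun i (by rw [hCab]; simp), hsun i (by rw [hCab]; simp)⟩
  have hthird : ∀ i, ∃ t, t ≠ a ∧ t ≠ b ∧ supp (e i) = {a, b, t} := by
    intro i
    have hsub : ({a, b} : Finset ι) ⊆ supp (e i) := by
      intro x hx
      simp only [Finset.mem_insert, Finset.mem_singleton] at hx
      rcases hx with rfl | rfl
      exacts [(hC i).1, (hC i).2]
    obtain ⟨t, ht⟩ := Finset.card_eq_one.1 (show (supp (e i) \ {a, b}).card = 1 by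
      rw [Finset.card_sdiff_of_subset hsub, card_supp (h3 i), Finset.card_pair hab])
    have ht' : t ∈ supp (e i) \ {a, b} := by rw [ht]; simp
    simp only [Finset.mem_sdiff, Finset.mem_insert, Finset.mem_singleton, not_or] at ht'
    refine ⟨t, ht'.2.1, ht'.2.2, ?_⟩
    rw [← Finset.union_sdiff_of_subset hsub, ht]
    ext x
    simp
  choose t hta htb hsupp using hthird
  have htinj : Function.Injective t := by
    intro i j hij
    by_contra hne
    have h4 := (hI i j hne).1
    rw [hsupp i, hsupp j, hij, Finset.inter_self, Finset.card_insert_of_notMem,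
      Finset.card_pair (htb j).symm] at h4
    · omega
    · simp [hab, (hta j).symm]
  have hsame : ∀ i, e i a = e 0 a ∧ e i b = e 0 b := fun i => by
    by_cases h : i = 0
    · subst h; exact ⟨rfl, rfl⟩
    · exact ⟨(hI i 0 h).2 a (Finset.mem_inter.2 ⟨(hC i).1, (hC 0).1⟩),
        (hI i 0 h).2 b (Finset.mem_inter.2 ⟨(hC i).2, (hC 0).2⟩)⟩
  have hcut : ∀ i (f : ι → ℚ), ∑ x, (e i x : ℚ) * f x =
      e 0 a * f a + e 0 b * f b + e i (t i) * f (t i) := by
    intro i f
    rw [← Finset.sum_subset (Finset.subset_univ (supp (e i))) (fun x _ hx => by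
      rw [not_not.1 (mt mem_supp.2 hx)]; simp), hsupp i, Finset.sum_insert, Finset.sum_pair (htb i).symm,
      (hsame i).1, (hsame i).2, add_assoc]
    simp [hab, (hta i).symm]
  have hzero : ∀ i j, i ≠ j → e i (t j) = 0 := by
    intro i j hij
    by_contra h
    have h4 : t j ∈ supp (e i) := mem_supp.2 h
    rw [hsupp i] at h4
    simp only [Finset.mem_insert, Finset.mem_singleton] at h4
    rcases h4 with h4 | h4 | h4
    exacts [hta j h4, htb j h4, hij (htinj h4).symm]
  have hga := abs_one_of_norm (h3 0) (hC 0).1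
  have hgb := abs_one_of_norm (h3 0) (hC 0).2
  have hgt : ∀ i, e i (t i) = 1 ∨ e i (t i) = -1 := fun i =>
    abs_one_of_norm (h3 i) (by rw [hsupp i]; simp)
  have hV : ∀ i, e 0 a * v a + e 0 b * v b + e i (t i) * v (t i) = -1 := fun i => by
    have h4 := hcut i fun x => (v x : ℚ)
    rw [show ∑ x, (e i x : ℚ) * (v x : ℚ) = -1 by exact_mod_cast hev i] at h4
    exact_mod_cast h4.symm
  have hsuma : ∑ i, e i a = 5 * e 0 a := by
    rw [Finset.sum_congr rfl fun i _ => (hsame i).1]; simp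
  have hsumb : ∑ i, e i b = 5 * e 0 b := by
    rw [Finset.sum_congr rfl fun i _ => (hsame i).2]; simp
  have hsumt : ∑ i, e i (t 0) = e 0 (t 0) :=
    Finset.sum_eq_single 0 (fun i _ hi => hzero i 0 hi) (by simp)
  have ca := h64 a
  have cb := h64 b
  have ct := h64 (t 0)
  rw [hsuma] at ca
  rw [hsumb] at cb
  rw [hsumt] at ct
  -- the sum of squares
  have hsq : v a * v a + v b * v b + ∑ i, v (t i) * v (t i) ≤ 63 := by
    refine le_trans ?_ hv2
    have hnot : a ∉ insert b (Finset.univ.image t) ∧ b ∉ Finset.univ.image t := by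
      simp only [Finset.mem_insert, Finset.mem_image, Finset.mem_univ, true_and, not_or, not_exists]
      exact ⟨⟨hab, fun i => hta i⟩, fun i => htb i⟩
    rw [add_assoc, ← Finset.sum_image (f := fun x => v x * v x) (fun i _ j _ h => htinj h),
      ← Finset.sum_insert (f := fun x => v x * v x) hnot.2,
      ← Finset.sum_insert (f := fun x => v x * v x) hnot.1]
    exact Finset.sum_le_sum_of_subset_of_nonneg (Finset.subset_univ _)
      fun x _ _ => mul_self_nonneg _
  have hwsq : ∀ i, v (t i) * v (t i) = v (t 0) * v (t 0) := fun i => by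
    have e1 := hV i
    have e2 := hV 0
    have h4 : e i (t i) * v (t i) = e 0 (t 0) * v (t 0) := by omega
    rcases hgt i with e | e <;> rcases hgt 0 with e' | e' <;> rw [e, e'] at h4
    all_goals first
      | rw [show v (t i) = v (t 0) by omega]
      | rw [show v (t i) = -v (t 0) by omega, neg_mul_neg]
  rw [Finset.sum_congr rfl fun i _ => hwsq i, Finset.sum_const, Finset.card_univ, Fintype.card_fin,
    nsmul_eq_mul] at hsq
  push_cast at hsq
  have hR := hcut 0 fun x => ((v x * v x : ℚ) / d x)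
  have hR' : 1 + ((e 0 a : ℚ) * ((v a * v a : ℚ) / d a) + (e 0 b : ℚ) * ((v b * v b : ℚ) / d b) +
      (e 0 (t 0) : ℚ) * ((v (t 0) * v (t 0) : ℚ) / d (t 0))) = 0 := by
    rw [← hR]; exact hev2 0
  have da := hd a
  have db := hd b
  have dt := hd (t 0)
  have key : ∀ (g : ℤ) (x : ι), g = 1 ∨ g = -1 →
      (g : ℚ) * ((v x * v x : ℚ) / d x) = ((g * v x : ℤ) * (g * v x : ℤ) : ℚ) / ((g * d x : ℤ) : ℚ) ∧
        (g * v x) * (g * v x) = v x * v x := by
    intro g x hg
    rcases hg with rfl | rfl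
    · simp
    · refine ⟨?_, by ring⟩
      push_cast
      field_simp
  obtain ⟨ka, qa⟩ := key _ a hga
  obtain ⟨kb, qb⟩ := key _ b hgb
  obtain ⟨kt, qt⟩ := key _ (t 0) (hgt 0)
  rw [ka, kb, kt] at hR'
  have h16a := h16 a
  have h16b := h16 b
  have h16t := h16 (t 0)
  refine final_absurd (a := e 0 a * d a) (b := e 0 b * d b) (A := e 0 (t 0) * d (t 0))
    (v₁ := e 0 a * v a) (v₂ := e 0 b * v b) (w := e 0 (t 0) * v (t 0))
    ?_ ?_ ?_ ?_ ?_ ?_ ?_ ?_ (hV 0) (by rw [qa, qb, qt]; exact hsq) (by linarith)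
  all_goals
    rcases hga with e | e <;> rcases hgb with e' | e' <;> rcases hgt 0 with e'' | e'' <;>
      simp only [e, e', e''] at * <;> omega

end CfsgLib.PiHom.Arith
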