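import Cfsg.Agent.Lib.PiHom.UnitaryTransfer

/-!
# Centralisers of 2-elements have normal 2-complements

For the Sylow 2-subgroup of type `PSU₃(4)`: the complement has index 64 for an involution and
index 16 for an element of order four.
-/

set_option autoImplicit false
set_option linter.style.haveILetI false

namespace CfsgLib.PiHom

open CfsgLib.InvCharSixtyFour (HermLike cm)
open CfsgLib.OddOrder (SylowOf)

universe u

variable {π : Set ℕ} {G : Type u} [Group G] [Finite G]

omit [Finite G] in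
theorem inf_eq_bot_of_odd [Finite G] {T O : Subgroup G} (hT : IsPGroup 2 ↥T)
    (hO : Odd (Nat.card ↥O)) : O ⊓ T = ⊥ := by
  haveI : Fact (Nat.Prime 2) := ⟨Nat.prime_two⟩
  obtain ⟨k, hk⟩ := IsPGroup.iff_card.1 hT
  refine disjoint_iff.1 (Subgroup.disjoint_of_coprime_natCard ?_)
  rw [hk]
  exact Nat.Coprime.pow_right k (Nat.coprime_two_right.2 hO)

omit [Finite G] in
theorem relIndex_eq_card [Finite G] {T O U : Subgroup G} (hT : IsPGroup 2 ↥T)
    (hO : Odd (Nat.card ↥O)) (hTU : T ≤ U)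
    (hdec : ∀ u ∈ U, ∃ t ∈ T, ∃ o ∈ O, u = t * o) : O.relIndex U = Nat.card ↥T := by
  rw [relIndex_eq_of_mul hTU hdec, ← Subgroup.inf_relIndex_right, inf_eq_bot_of_odd hT hO,
    Subgroup.relIndex_bot_left]

namespace Crit

variable (hc : Crit π G) (S : Sylow 2 G) (h : HermLike ↥(S : Subgroup G) 4)
include hc h

omit hc [Finite G] in
theorem card_sylow : Nat.card ↥(S : Subgroup G) = 64 := by rw [h.card]; norm_num

/-- The normal complement in the fixer. -/
theorem exists_fixer_complement : ∃ D : Subgroup G, D ≤ fixer (S : Subgroup G) ∧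
    Odd (Nat.card ↥D) ∧ (∀ d ∈ D, ∀ s ∈ (S : Subgroup G), d * s = s * d) ∧
    ∀ r ∈ fixer (S : Subgroup G), ∃ s ∈ (S : Subgroup G), ∃ d ∈ D, r = s * d := by
  haveI : Fact (Nat.Prime 2) := ⟨Nat.prime_two⟩
  set R := fixer (S : Subgroup G) with hR
  have hSR : (S : Subgroup G) ≤ R := le_fixer S
  set S' := (S : Subgroup G).subgroupOf R with hS'
  haveI : S'.Normal := Subgroup.normal_subgroupOf_of_le_normalizer inf_le_left
  have hidx : Odd S'.index := Nat.not_even_iff_odd.1 fun he =>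
    S.not_dvd_index (he.two_dvd.trans (Subgroup.relIndex_dvd_index_of_le hSR))
  have hcS : Nat.card ↥S' = 2 ^ 6 := by
    rw [hS', Nat.card_congr (Subgroup.subgroupOfEquivOfLe hSR).toEquiv, card_sylow S h]; rfl
  obtain ⟨D, hD⟩ := Subgroup.exists_right_complement'_of_coprime (N := S')
    (by rw [hcS]; exact Nat.Coprime.pow_left 6 (Nat.coprime_two_left.2 hidx))
  have hDc : Nat.card ↥D = S'.index := by
    have h1 := hD.card_mul_card
    rw [← S'.card_mul_index] at h1
    exact mul_left_cancel₀ Nat.card_pos.ne' h1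
  have hcard : Nat.card ↥(D.map R.subtype) = S'.index := by
    rw [Subgroup.card_map_of_injective R.subtype_injective, hDc]
  have hodd : Odd (Nat.card ↥(D.map R.subtype)) := by rw [hcard]; exact hidx
  refine ⟨D.map R.subtype, Subgroup.map_subtype_le D, hodd, fun d hd s hs => ?_, fun r hr => ?_⟩
  · refine hc.odd_commute S h (Subgroup.map_subtype_le D hd) ?_ hs
    have h1 := orderOf_dvd_natCard (⟨d, hd⟩ : ↥(D.map R.subtype))
    rw [Subgroup.orderOf_mk] at h1
    exact hodd.of_dvd_nat h1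
  · obtain ⟨⟨s, d⟩, hsd, -⟩ := hD.existsUnique ⟨r, hr⟩
    exact ⟨((s : ↥R) : G), s.2, ((d : ↥R) : G), ⟨d, d.2, rfl⟩, (congrArg Subtype.val hsd).symm⟩

/-- The normal 2-complement of the centraliser of an involution of `S`. -/
theorem exists_complement {a : G} (ha : a ∈ zInv (S : Subgroup G)) (ha1 : a ≠ 1) :
    ∃ O : Subgroup G, O ≤ Subgroup.centralizer ({a} : Set G) ∧
      Subgroup.centralizer ({a} : Set G) ≤ Subgroup.normalizer (O : Set G) ∧ Odd (Nat.card ↥O) ∧
      ∀ g ∈ Subgroup.centralizer ({a} : Set G), ∃ t ∈ (S : Subgroup G), ∃ o ∈ O, g = t * o := by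
  haveI : Fact (Nat.Prime 2) := ⟨Nat.prime_two⟩
  obtain ⟨D, hDR, hDodd, hDcomm, hDdec⟩ := hc.exists_fixer_complement S h
  set C := Subgroup.centralizer ({a} : Set G) with hC
  set K := core π C with hK
  have hne := hc.centralizer_ne_top ha1
  have hSC : (S : Subgroup G) ≤ C := le_centralizer_of_mem_zInv ha
  have hDC : D ≤ C := fun d hd => Subgroup.mem_centralizer_singleton_iff.2
    (Subgroup.mem_centralizer_iff.1 (hDR hd).2 a ha).symm
  have hKn : C ≤ Subgroup.normalizer (K : Set G) := Subgroup.le_normalizer.trans (le_normalizer_core C)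
  have hDK : D ≤ Subgroup.normalizer (K : Set G) := hDC.trans hKn
  set O := K ⊔ D with hO
  have hOmem : ∀ o ∈ O, ∃ k ∈ K, ∃ d ∈ D, o = k * d := fun o ho => by
    have h1 : o ∈ ((K ⊔ D : Subgroup G) : Set G) := ho
    rw [Subgroup.coe_mul_of_right_le_normalizer_left K D hDK] at h1
    obtain ⟨k, hk, d, hd, e⟩ := h1
    exact ⟨k, hk, d, hd, e.symm⟩
  have hOodd : Odd (Nat.card ↥O) := by
    have h1 := Subgroup.relIndex_mul_relIndex ⊥ K O bot_le le_sup_left
    rw [Subgroup.relIndex_bot_left, Subgroup.relIndex_bot_left] at h1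
    have h2 : K.relIndex O = K.relIndex D := relIndex_eq_of_mul le_sup_right fun o ho => by
      obtain ⟨k, hk, d, hd, rfl⟩ := hOmem o ho
      exact ⟨d, hd, d⁻¹ * k * d⁻¹⁻¹,
        (Subgroup.mem_normalizer_iff.1 (inv_mem (hDK hd)) k).1 hk, by group⟩
    rw [← h1, h2]
    exact (hc.odd_core hne).mul (hDodd.of_dvd_nat (Subgroup.relIndex_dvd_card _ _))
  have hSO : (S : Subgroup G) ≤ Subgroup.normalizer (O : Set G) := fun s hs => by
    refine mem_normalizer_of_conjBy_le (conjBy_le.2 fun o ho => ?_)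
    obtain ⟨k, hk, d, hd, rfl⟩ := hOmem o ho
    rw [show s * (k * d) * s⁻¹ = (s * k * s⁻¹) * (s * d * s⁻¹) by group, ← hDcomm d hd s hs,
      mul_inv_cancel_right]
    exact mul_mem (le_sup_left (b := D) ((Subgroup.mem_normalizer_iff.1 (hKn (hSC hs)) k).1 hk))
      (le_sup_right (a := K) hd)
  have hdec : ∀ g ∈ C, ∃ k ∈ K, ∃ s ∈ (S : Subgroup G), ∃ d ∈ D, g = k * s * d := by
    intro g hg
    obtain ⟨k, hk, n, hn, rfl⟩ := hc.centralizer_decomp S ha ha1 hg
    have hnC : n ∈ C := by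
      have h2 := mul_mem (inv_mem (core_le C hk)) hg
      rwa [inv_mul_cancel_left] at h2
    obtain ⟨s, hs, d, hd, rfl⟩ := hDdec n (hc.mem_fixer_of_fix S hn ha ha1
      (conj_fix_iff.2 (Subgroup.mem_centralizer_singleton_iff.1 hnC)))
    exact ⟨k, hk, s, hs, d, hd, by group⟩
  refine ⟨O, sup_le (core_le C) hDC, fun g hg => ?_, hOodd, fun g hg => ?_⟩
  · obtain ⟨k, hk, s, hs, d, hd, rfl⟩ := hdec g hg
    exact mul_mem (mul_mem (Subgroup.le_normalizer (le_sup_left (b := D) hk)) (hSO hs))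
      (Subgroup.le_normalizer (le_sup_right (a := K) hd))
  · obtain ⟨k, hk, s, hs, d, hd, rfl⟩ := hdec g hg
    refine ⟨s, hs, s⁻¹ * k * s⁻¹⁻¹ * d, mul_mem (le_sup_left (b := D) ?_) (le_sup_right (a := K) hd),
      by group⟩
    exact (Subgroup.mem_normalizer_iff.1 (inv_mem (hKn (hSC hs))) k).1 hk

omit hc [Finite G] in
/-- An element outside the centre has 16 elements in its centraliser in `S`. -/
theorem card_centralizer_in {s : ↥(S : Subgroup G)}
    (hs : s ∉ Subgroup.center ↥(S : Subgroup G)) :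
    Nat.card ↥(Subgroup.centralizer ({s} : Set ↥(S : Subgroup G))) = 16 := by
  set Z := Subgroup.center ↥(S : Subgroup G) with hZ
  let f : ↥(S : Subgroup G) →* ↥Z := MonoidHom.mk' (fun t => ⟨cm s t, h.cm_mem s t⟩) fun t u => by
    refine Subtype.ext ?_
    show cm s (t * u) = cm s t * cm s u
    have hu := Subgroup.mem_center_iff.1 (h.cm_mem s u) t
    calc cm s (t * u) = cm s t * (t * cm s u * t⁻¹) := by unfold cm; group
      _ = _ := by rw [hu]; group
  have hsurj : Function.Surjective f := fun z => by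
    obtain ⟨t, ht⟩ := h.cm_onto s hs z z.2
    exact ⟨t, Subtype.ext ht⟩
  have hker : f.ker = Subgroup.centralizer ({s} : Set ↥(S : Subgroup G)) := by
    ext t
    rw [MonoidHom.mem_ker, Subgroup.mem_centralizer_singleton_iff]
    constructor
    · intro ht
      have h1 : cm s t = 1 := congrArg Subtype.val ht
      unfold cm at h1
      rw [mul_inv_eq_one, mul_inv_eq_iff_eq_mul] at h1
      exact h1.symm
    · intro ht
      refine Subtype.ext ?_
      show cm s t = 1
      unfold cm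
      rw [← ht]; group
  have h1 := Subgroup.card_mul_index f.ker
  rw [Subgroup.index_ker, MonoidHom.range_eq_top.2 hsurj, Subgroup.card_top, h.card_center,
    card_sylow S h, hker] at h1
  omega

open scoped Classical in
/-- Centralisers of elements of `S` have normal 2-complements. -/
theorem exists_complement_self {s : G} (hs : s ∈ (S : Subgroup G)) (hs1 : s ≠ 1) :
    ∃ O : Subgroup G, O ≤ Subgroup.centralizer ({s} : Set G) ∧
      Subgroup.centralizer ({s} : Set G) ≤ Subgroup.normalizer (O : Set G) ∧ Odd (Nat.card ↥O) ∧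
      O.relIndex (Subgroup.centralizer ({s} : Set G)) =
        if s ∈ zInv (S : Subgroup G) then 64 else 16 := by
  haveI : Fact (Nat.Prime 2) := ⟨Nat.prime_two⟩
  by_cases hsA : s ∈ zInv (S : Subgroup G)
  · obtain ⟨O, hO1, hO2, hO3, hO4⟩ := hc.exists_complement S h hsA hs1
    refine ⟨O, hO1, hO2, hO3, ?_⟩
    rw [if_pos hsA, relIndex_eq_card S.isPGroup' hO3 (le_centralizer_of_mem_zInv hsA) hO4,
      card_sylow S h]
  set z := s * s with hz
  have hzA : z ∈ zInv (S : Subgroup G) :=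
    (mem_center_iff S h _).1 (h.sq_mem (⟨s, hs⟩ : ↥(S : Subgroup G)))
  have hz1 : z ≠ 1 := fun h0 => hsA ((mem_center_iff S h _).1
    (h.sq_one (⟨s, hs⟩ : ↥(S : Subgroup G)) (Subtype.ext h0)))
  obtain ⟨O, hO1, hO2, hO3, hO4⟩ := hc.exists_complement S h hzA hz1
  set Cs := Subgroup.centralizer ({s} : Set G) with hCs
  have hsz : Cs ≤ Subgroup.centralizer ({z} : Set G) := fun g hg => by
    rw [Subgroup.mem_centralizer_singleton_iff] at hg ⊢
    rw [hz, ← mul_assoc, hg, mul_assoc, hg, ← mul_assoc]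
  have hsC : s ∈ Subgroup.centralizer ({z} : Set G) :=
    hsz (Subgroup.mem_centralizer_singleton_iff.2 rfl)
  set T := (S : Subgroup G) ⊓ Cs with hT
  have hT2 : IsPGroup 2 ↥T := S.isPGroup'.to_le inf_le_left
  have hodd : Odd (Nat.card ↥(O ⊓ Cs : Subgroup G)) :=
    hO3.of_dvd_nat (Subgroup.card_dvd_of_le inf_le_left)
  refine ⟨O ⊓ Cs, inf_le_right, fun g hg => ?_, hodd, ?_⟩
  · refine mem_normalizer_of_conjBy_le (conjBy_le.2 fun o ho => ⟨?_, ?_⟩)
    · exact (Subgroup.mem_normalizer_iff.1 (hO2 (hsz hg)) o).1 ho.1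
    · exact Cs.mul_mem (Cs.mul_mem hg ho.2) (Cs.inv_mem hg)
  have hdec : ∀ g ∈ Cs, ∃ t ∈ T, ∃ o ∈ O ⊓ Cs, g = t * o := by
    intro g hg
    obtain ⟨t, ht, o, ho, rfl⟩ := hO4 g (hsz hg)
    have hcom := Subgroup.mem_centralizer_singleton_iff.1 hg
    have h1 : t⁻¹ * s⁻¹ * t * s ∈ O := by
      rw [show t⁻¹ * s⁻¹ * t * s = (t⁻¹ * s⁻¹ * t * s * (s⁻¹ * o * s⁻¹⁻¹)) * (s⁻¹ * o * s⁻¹⁻¹)⁻¹ by group]
      refine mul_mem ?_ (inv_mem ((Subgroup.mem_normalizer_iff.1 (inv_mem (hO2 hsC)) o).1 ho))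
      rw [show t⁻¹ * s⁻¹ * t * s * (s⁻¹ * o * s⁻¹⁻¹) = t⁻¹ * s⁻¹ * (t * o * s) by group, hcom,
        show t⁻¹ * s⁻¹ * (s * (t * o)) = o by group]
      exact ho
    have h2 : t⁻¹ * s⁻¹ * t * s = 1 := by
      rw [← Subgroup.mem_bot, ← inf_eq_bot_of_odd S.isPGroup' hO3]
      exact ⟨h1, (S : Subgroup G).mul_mem ((S : Subgroup G).mul_mem ((S : Subgroup G).mul_mem
        ((S : Subgroup G).inv_mem ht) ((S : Subgroup G).inv_mem hs)) ht) hs⟩
    have htC : t ∈ Cs := Subgroup.mem_centralizer_singleton_iff.2 (by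
      calc t * s = s * t * (t⁻¹ * s⁻¹ * t * s) := by group
        _ = s * t := by rw [h2, mul_one])
    refine ⟨t, ⟨ht, htC⟩, o, ⟨ho, ?_⟩, rfl⟩
    have h3 := mul_mem (inv_mem htC) hg
    rwa [inv_mul_cancel_left] at h3
  rw [if_neg hsA, relIndex_eq_card hT2 hodd inf_le_right hdec]
  rw [← card_centralizer_in S h (s := ⟨s, hs⟩) (fun h0 => hsA ((mem_center_iff S h _).1 h0))]
  exact Nat.card_congr
    { toFun := fun t => ⟨⟨t.1, t.2.1⟩, Subgroup.mem_centralizer_singleton_iff.2
        (Subtype.ext (Subgroup.mem_centralizer_singleton_iff.1 t.2.2))⟩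
      invFun := fun t => ⟨t.1.1, t.1.2, Subgroup.mem_centralizer_singleton_iff.2
        (congrArg Subtype.val (Subgroup.mem_centralizer_singleton_iff.1 t.2))⟩
      left_inv := fun _ => rfl
      right_inv := fun _ => rfl }

end Crit

end CfsgLib.PiHom
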