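import Cfsg.Agent.Lib.PiHom.UnitaryClasses
import Cfsg.Agent.Lib.PiHom.SectionCoeff
import Cfsg.Agent.Lib.PiHom.UnitaryArith
import Cfsg.Agent.Lib.Sporadic.CharTools
import Cfsg.Agent.Lib.BlockCover.Regular
import Cfsg.Agent.Lib.Characters.LinearTwist
import Cfsg.Agent.Lib.Characters.Galois

/-!
# A minimal counterexample has no Sylow 2-subgroup of type `PSU₃(4)`
-/

set_option autoImplicit false
set_option linter.style.haveILetI false

namespace CfsgLib.PiHom

open Cfsg CfsgLib.Characters CfsgLib.LinearTwist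
open CfsgLib.InvCharSixtyFour (HermLike)
open scoped ComplexConjugate

universe u

variable {π : Set ℕ} {G : Type u} [Group G]

theorem isPPart_inv {p : ℕ} {g x : G} (h : IsPPart p g x) : IsPPart p g⁻¹ x⁻¹ := by
  obtain ⟨y, hy, hc, hk, hyp⟩ := h
  refine ⟨y⁻¹, ?_, hc.inv_inv, by simpa using hk, by simpa using hyp⟩
  rw [← hy, mul_inv_rev, hc.inv_inv.eq]

theorem linear_eq_principal [Finite G] [IsSimpleGroup G] (hna : ¬ IsMulCommutative G)
    (χ : IrrCharacter G) (h1 : charDegree (χ : G → ℂ) = 1) : χ = principalIrr G := by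
  obtain ⟨f, hf⟩ := LinearTwist.exists_hom_of_charDegree_one (irr_isCharacter χ) h1
  have hker : f.ker = ⊤ := (inferInstance : f.ker.Normal).eq_bot_or_eq_top.resolve_left fun hb =>
    hna ⟨⟨fun x y => (MonoidHom.ker_eq_bot_iff _).1 hb (by rw [map_mul, map_mul, mul_comm])⟩⟩
  refine Subtype.ext ?_
  rw [hf]
  funext g
  rw [MonoidHom.mem_ker.1 (hker ▸ Subgroup.mem_top g : g ∈ f.ker)]
  rfl

namespace Crit

variable [Finite G] (hc : Crit π G) (S : Sylow 2 G) (h : HermLike ↥(S : Subgroup G) 4)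
include hc h

omit hc [Finite G] in
theorem sq_of_not_center {t : ↥(S : Subgroup G)} (ht : t ∉ Subgroup.center ↥(S : Subgroup G)) :
    orderOf (t : G) = 2 ^ 2 := by
  rw [Subgroup.orderOf_coe]
  haveI : Fact (Nat.Prime 2) := ⟨Nat.prime_two⟩
  refine orderOf_eq_prime_pow (n := 1) ?_ ?_
  · rw [pow_one, pow_two]; exact fun e => ht (h.sq_one t e)
  · rw [show 2 ^ (1 + 1) = 2 + 2 from rfl, pow_add, pow_two]; exact h.center_sq _ (h.sq_mem t)

/-- No product of two involutions has a 2-part of order four. -/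
theorem pairs_empty [Fintype G] {z : G} (hz : z ∈ zInv (S : Subgroup G))
    {t : ↥(S : Subgroup G)} (ht : t ∉ Subgroup.center ↥(S : Subgroup G)) :
    ClassCount.pairs z z (sect (t : G)) = ∅ := by
  haveI : Fact (Nat.Prime 2) := ⟨Nat.prime_two⟩
  rw [Finset.eq_empty_iff_forall_notMem]
  rintro ⟨a, b⟩ hp
  simp only [ClassCount.pairs, Finset.mem_filter, Finset.mem_product, ClassCount.mem_cls] at hp
  obtain ⟨⟨ha, hb⟩, hab⟩ := hp
  obtain ⟨p, hp, hpt⟩ := mem_sect.1 hab
  obtain ⟨d, hd⟩ := isConj_iff.1 hpt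
  have hsq : ∀ y, IsConj z y → y * y = 1 := fun y hy => by
    obtain ⟨e, rfl⟩ := isConj_iff.1 hy
    rw [show e * z * e⁻¹ * (e * z * e⁻¹) = e * (z * z) * e⁻¹ by group, hz.2.1]; group
  have hai := inv_eq_of_mul_eq_one_right (hsq a ha)
  have hbi := inv_eq_of_mul_eq_one_right (hsq b hb)
  have hinv : a * p * a⁻¹ = p⁻¹ := by
    refine Blocks.IsPPart.unique Nat.prime_two (Blocks.IsPPart.conj hp a) ?_
    rw [show a * (a * b) * a⁻¹ = (a * b)⁻¹ by
      rw [mul_inv_rev, hai, hbi, ← mul_assoc, hsq a ha, one_mul]]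
    exact isPPart_inv hp
  set u := d⁻¹ * a * d with hu
  have hu1 : u * u = 1 := by
    rw [hu, show d⁻¹ * a * d * (d⁻¹ * a * d) = d⁻¹ * (a * a) * d by group, hsq a ha]; group
  have hut : u * (t : G) * u⁻¹ = (t : G)⁻¹ := by
    calc u * (t : G) * u⁻¹ = d⁻¹ * (a * (d * (t : G) * d⁻¹) * a⁻¹) * d := by rw [hu]; group
      _ = d⁻¹ * p⁻¹ * d := by rw [hd, hinv]
      _ = (t : G)⁻¹ := by rw [← hd]; group
  set T := Subgroup.zpowers u ⊔ Subgroup.zpowers (t : G) with hT
  have hT2 : IsPGroup 2 ↥T := by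
    refine IsPGroup.to_sup_of_normal_right' ?_ ?_ ?_
    · exact fun y => ⟨1, by
        obtain ⟨i, hi⟩ := Subgroup.mem_zpowers_iff.1 y.2
        refine Subtype.ext ?_
        rw [pow_one, Subgroup.coe_pow, Subgroup.coe_one, ← hi, pow_two,
          ← (Commute.refl u).mul_zpow, hu1, one_zpow]⟩
    · exact IsPGroup.of_card (n := 2) (by rw [Nat.card_zpowers, sq_of_not_center S h ht])
    · rw [Subgroup.zpowers_le, ← conjBy_eq_iff, conjBy, MonoidHom.map_zpowers]
      simp only [MulEquiv.coe_toMonoidHom, MulAut.conj_apply, hut, Subgroup.zpowers_inv]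
  obtain ⟨g, hg⟩ := exists_le_conjBy hT2 S
  have hg' := conjBy_inv_le hg
  have huS := conjBy_le.1 hg' u (le_sup_left (b := Subgroup.zpowers (t : G)) (Subgroup.mem_zpowers u))
  have htS := conjBy_le.1 hg' (t : G) (le_sup_right (a := Subgroup.zpowers u) (Subgroup.mem_zpowers _))
  have hcen := hc.mem_zInv_of_sq S huS (by
    rw [show g⁻¹ * u * g⁻¹⁻¹ * (g⁻¹ * u * g⁻¹⁻¹) = g⁻¹ * (u * u) * g⁻¹⁻¹ by group, hu1]; group)
  have hcom := hcen.2.2 _ htS
  have hcom' : (t : G) * u = u * (t : G) := by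
    have h1 := congrArg (fun y => g * y * g⁻¹) hcom
    simpa [mul_assoc] using h1
  rw [← hcom', mul_inv_cancel_right] at hut
  have h4 := sq_of_not_center S h ht
  have h2 : orderOf (t : G) ∣ 2 := orderOf_dvd_of_pow_eq_one (by
    rw [pow_two]; nth_rw 1 [hut]; exact inv_mul_cancel _)
  rw [h4] at h2
  norm_num at h2

open scoped Classical in
/-- The unitary type does not occur. -/
theorem no_hermLike : False := by
  haveI : Fact (Nat.Prime 2) := ⟨Nat.prime_two⟩
  haveI := hc.simple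
  letI := Fintype.ofFinite G
  letI := Fintype.ofFinite ↥(S : Subgroup G)
  letI := Fintype.ofFinite (↥(S : Subgroup G) ⧸ Subgroup.center ↥(S : Subgroup G))
  obtain ⟨x, z, w, hy⟩ := hc.exists_cycle_data S h
  obtain ⟨M, hM⟩ := BlockCover.exists_isPModular (p := 2) Nat.prime_two
  -- representatives
  let t : Fin 5 → ↥(S : Subgroup G) := fun i => Quotient.out (w i)
  have htw : ∀ i, (t i : _ ⧸ (Subgroup.center ↥(S : Subgroup G))) = w i := fun i => QuotientGroup.out_eq' _
  have htZ : ∀ i, t i ∉ (Subgroup.center ↥(S : Subgroup G)) := fun i hi => hy.orbits.ne_one i (by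
    rw [← htw]; exact (QuotientGroup.eq_one_iff _).2 hi)
  -- values are integers
  have hzord : orderOf z = 2 ^ 1 := by rw [pow_one]; exact orderOf_of_mem_zInv hy.hz hy.hz1
  have hint : ∀ (χ : IrrCharacter G) (i : Fin 5), ∃ c : ℤ, (χ : G → ℂ) (t i : G) = c := by
    intro χ i
    obtain ⟨q, hq⟩ := CharGalois.exists_rat_char (irr_isCharacter χ) (t i : G) fun m hm => by
      have hodd : Odd m := Nat.coprime_two_right.1 (hm.coprime_dvd_right hc.two_dvd)
      obtain ⟨k, rfl⟩ := hodd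
      refine (classFunction_eq_of_isConj (irr_isClassFunction χ) ?_).symm
      rw [show (t i : G) ^ (2 * k + 1) = ((t i * (t i * t i) ^ k : ↥(S : Subgroup G)) : G) by
        rw [Subgroup.coe_mul, Subgroup.coe_pow, Subgroup.coe_mul, ← pow_two, ← pow_mul, ← pow_succ']]
      exact isConj_mul_center S h (htZ i) (pow_mem (h.sq_mem (t i)) k)
    obtain ⟨c, hc'⟩ := exists_int_of_isIntegral_rat (hq ▸ isIntegral_of_isCharacter (irr_isCharacter χ) _)
    exact ⟨c, by rw [hq, ← hc', Rat.cast_intCast]⟩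
  choose c hcval using hint
  have hvint : ∀ χ : IrrCharacter G, ∃ v : ℤ, (χ : G → ℂ) z = v := fun χ => by
    obtain ⟨v, hv, -⟩ := Sporadic.CharTools.exists_int_of_sq_eq_one (irr_isCharacter χ)
      (apply_one_eq_charDegree (irr_isCharacter χ)) (t := z) (by rw [pow_two]; exact hy.hz.2.1)
    exact ⟨v, hv⟩
  choose v hvval using hvint
  let d : IrrCharacter G → ℤ := fun χ => (charDegree (χ : G → ℂ) : ℤ)
  have hdval : ∀ χ : IrrCharacter G, (χ : G → ℂ) 1 = d χ := fun χ => by
    rw [apply_one_eq_charDegree (irr_isCharacter χ)]; simp [d]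
  have hdpos : ∀ χ, 0 < d χ := fun χ => by
    have := PrincipalSq.charDegree_pos χ
    simp only [d]; omega
  -- the values of a character on `S`
  have hA : ∀ (χ : IrrCharacter G) (s : ↥(S : Subgroup G)), s ∈ (Subgroup.center ↥(S : Subgroup G)) → s ≠ 1 →
      (χ : G → ℂ) (s : G) = v χ := fun χ s hs hs1 => by
    rw [← hvval]
    exact (classFunction_eq_of_isConj (irr_isClassFunction χ) (hc.isConj_invol S hy
      ((mem_center_iff S h s).1 hs) fun e => hs1 (Subtype.ext e))).symm
  have horb : ∀ (χ : IrrCharacter G) (s : ↥(S : Subgroup G)) (i : Fin 5),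
      ((s : _ ⧸ (Subgroup.center ↥(S : Subgroup G))) = w i ∨ (s : _ ⧸ (Subgroup.center ↥(S : Subgroup G))) = psi (S : Subgroup G) x (w i) ∨
        (s : _ ⧸ (Subgroup.center ↥(S : Subgroup G))) = psi (S : Subgroup G) x (psi (S : Subgroup G) x (w i))) →
      (χ : G → ℂ) (s : G) = c χ i := fun χ s i hs => by
    rw [← hcval]
    refine (classFunction_eq_of_isConj (irr_isClassFunction χ) (isConj_shift S h (x := x) (htZ i) ?_)).symm
    rw [htw]; exact hs
  -- the sums over the cosets
  let F : IrrCharacter G → (↥(S : Subgroup G) ⧸ (Subgroup.center ↥(S : Subgroup G))) → ℤ := fun χ u =>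
    if hu : u = 1 then d χ + 3 * v χ else 4 * c χ (hy.orbits.index u hu)
  have hFinv : ∀ χ u, F χ (psi (S : Subgroup G) x u) = F χ u := fun χ u => by
    by_cases hu : u = 1
    · subst hu; rw [map_one]
    · have hu' := hy.orbits.sigma_ne_one hu
      simp only [F, dif_neg hu, dif_neg hu']
      congr 2
      refine hy.orbits.orbit_eq (hy.orbits.index_spec hu') ?_
      rcases hy.orbits.index_spec hu with e | e | e
      · exact Or.inr (Or.inl (congrArg _ e))
      · exact Or.inr (Or.inr (congrArg _ e))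
      · exact Or.inl ((congrArg _ e).trans (hy.orbits.three _))
  have hFw : ∀ χ i, F χ (w i) = 4 * c χ i := fun χ i => by
    simp only [F, dif_neg (hy.orbits.ne_one i)]
    congr 2
    exact hy.orbits.orbit_eq (hy.orbits.index_spec (hy.orbits.ne_one i)) (Or.inl rfl)
  have hfib : ∀ (χ : IrrCharacter G) (u : ↥(S : Subgroup G) ⧸ (Subgroup.center ↥(S : Subgroup G))),
      ∑ s ∈ Finset.univ.filter (fun s : ↥(S : Subgroup G) => (s : _ ⧸ (Subgroup.center ↥(S : Subgroup G))) = u),
        (χ : G → ℂ) (s : G) = F χ u := by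
    intro χ u
    have hcard : (Finset.univ.filter (fun s : ↥(S : Subgroup G) => (s : _ ⧸ (Subgroup.center ↥(S : Subgroup G))) = u)).card = 4 := by
      induction u using QuotientGroup.induction_on with
      | _ s₀ =>
        rw [← h.card_center, Nat.card_eq_fintype_card, Fintype.card_subtype]
        refine Finset.card_bij (fun s _ => s₀⁻¹ * s) (fun s hs => ?_) (fun a _ b _ e => mul_left_cancel e)
          (fun a ha => ⟨s₀ * a, Finset.mem_filter.2 ⟨Finset.mem_univ _, ?_⟩, inv_mul_cancel_left _ _⟩)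
        · exact Finset.mem_filter.2 ⟨Finset.mem_univ _, QuotientGroup.eq.1 (Finset.mem_filter.1 hs).2.symm⟩
        · exact (QuotientGroup.eq.2 (by rw [inv_mul_cancel_left]; exact (Finset.mem_filter.1 ha).2)).symm
    by_cases hu : u = 1
    · have h1 : (1 : ↥(S : Subgroup G)) ∈
          Finset.univ.filter (fun s : ↥(S : Subgroup G) => (s : _ ⧸ (Subgroup.center ↥(S : Subgroup G))) = u) :=
        Finset.mem_filter.2 ⟨Finset.mem_univ _, hu ▸ rfl⟩
      rw [← Finset.add_sum_erase _ _ h1, Finset.sum_congr rfl (g := fun _ => (v χ : ℂ)) (fun s hs => by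
        obtain ⟨hs1, hs2⟩ := Finset.mem_erase.1 hs
        exact hA χ s ((QuotientGroup.eq_one_iff s).1 ((Finset.mem_filter.1 hs2).2.trans hu)) hs1),
        Finset.sum_const, Finset.card_erase_of_mem h1, hcard, Subgroup.coe_one, hdval]
      simp [F, hu]
    · rw [Finset.sum_congr rfl (g := fun _ => (c χ (hy.orbits.index u hu) : ℂ)) (fun s hs => by
        refine horb χ s _ ?_
        rw [(Finset.mem_filter.1 hs).2]
        exact hy.orbits.index_spec hu), Finset.sum_const, hcard]
      simp [F, hu]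
  have hsub : ∀ (χ : IrrCharacter G) (N : Subgroup (↥(S : Subgroup G) ⧸ (Subgroup.center ↥(S : Subgroup G)))),
      ((4 * Nat.card ↥N : ℕ) : ℤ) ∣ ∑ u ∈ Finset.univ.filter (· ∈ N), F χ u := by
    intro χ N
    set H := N.comap (QuotientGroup.mk' (Subgroup.center ↥(S : Subgroup G))) with hH
    letI := Fintype.ofFinite ↥H
    obtain ⟨m, hm⟩ := Sporadic.CharTools.exists_nat_sum (irr_isCharacter χ) ((S : Subgroup G).subtype.comp H.subtype)
    have hcH : Nat.card ↥H = 4 * Nat.card ↥N := by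
      rw [hH, card_comap_mk' (Subgroup.center ↥(S : Subgroup G)) N, h.card_center]
    refine ⟨m, ?_⟩
    have e : ((∑ u ∈ Finset.univ.filter (· ∈ N), F χ u : ℤ) : ℂ) =
        ((((4 * Nat.card ↥N : ℕ) : ℤ) * (m : ℤ) : ℤ) : ℂ) := by
      push_cast
      rw [← Finset.sum_congr rfl (fun u _ => hfib χ u),
        ← Finset.sum_biUnion (fun a _ b _ hab => Finset.disjoint_left.2 fun s h1 h2 =>
          hab ((Finset.mem_filter.1 h1).2.symm.trans (Finset.mem_filter.1 h2).2))]
      rw [hcH] at hm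
      push_cast at hm
      rw [← hm]
      refine (Finset.sum_bij (fun (s : ↥H) _ => (s : ↥(S : Subgroup G))) (fun s _ => ?_)
        (fun a _ b _ e => Subtype.ext e) (fun s hs => ?_) (fun s _ => rfl)).symm
      · exact Finset.mem_biUnion.2 ⟨_, Finset.mem_filter.2 ⟨Finset.mem_univ _, s.2⟩,
          Finset.mem_filter.2 ⟨Finset.mem_univ _, rfl⟩⟩
      · obtain ⟨u, hu, hs⟩ := Finset.mem_biUnion.1 hs
        exact ⟨⟨s, show (s : _ ⧸ (Subgroup.center ↥(S : Subgroup G))) ∈ N from
          (Finset.mem_filter.1 hs).2 ▸ (Finset.mem_filter.1 hu).2⟩, Finset.mem_univ _, rfl⟩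
    exact_mod_cast e
  -- the congruences
  have hcong : ∀ χ, (64 : ℤ) ∣ d χ + 3 * v χ + 12 * ∑ i, c χ i := fun χ => by
    have h1 := hsub χ ⊤
    rw [Subgroup.card_top, card_quot h] at h1
    simp only [Subgroup.mem_top, Finset.filter_true_of_mem, implies_true] at h1
    rw [hy.orbits.sum_univ (F χ) (hFinv χ)] at h1
    simp only [hFw] at h1
    rw [← Finset.mul_sum] at h1
    simp only [F, dif_pos] at h1
    omega
  have hdiv : ∀ χ i, (4 : ℤ) ∣ (∑ j, c χ j) - c χ i := fun χ i => by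
    obtain ⟨N, hN, hsum⟩ := hy.orbits.exists_hyperplane i
    have h1 := hsub χ N
    rw [hN, hsum (F χ) (hFinv χ)] at h1
    simp only [hFw] at h1
    rw [← Finset.mul_sum] at h1
    simp only [F, dif_pos] at h1
    have := hcong χ
    omega
  have h16 : ∀ χ, (16 : ℤ) ∣ d χ - v χ := by
    intro χ
    set ρ := (S : Subgroup G).normalizerMonoidHom x with hρ
    have hρ3 : ∀ s, ρ (ρ (ρ s)) = s := fun s => Subtype.ext (by
      simp only [hρ, normalizerMonoidHom_coe]; exact hy.three s s.2)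
    have hρfp : ∀ s, ρ s = s → s = 1 := fun s hs => by
      have h1 : ∀ a ∈ (Subgroup.center ↥(S : Subgroup G)), ρ a = a → a = 1 := fun a ha e => by
        by_contra ha1
        exact hy.cyc a ((mem_center_iff S h a).1 ha) (fun e' => ha1 (Subtype.ext e'))
          (congrArg Subtype.val e)
      exact h1 s (h.sq_one s (h1 _ (h.sq_mem s) (by rw [map_mul, hs]))) hs
    set T := t 0 with hTdef
    set U := ρ T with hUdef
    have hTU : Commute T U := (InvCharSixtyFour.fpf_three ρ hρ3 hρfp T).2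
    have hT4 : T ^ 4 = 1 := by
      rw [show (4 : ℕ) = 2 + 2 from rfl, pow_add, pow_two]; exact h.center_sq _ (h.sq_mem T)
    have hU4 : U ^ 4 = 1 := by rw [hUdef, ← map_pow, hT4, map_one]
    -- an abelian group `ℤ/4 × ℤ/4` mapping onto the plane
    let φ : Multiplicative (ZMod 4 × ZMod 4) →* ↥(S : Subgroup G) :=
      MonoidHom.mk' (fun p => T ^ (p.toAdd.1.val) * U ^ (p.toAdd.2.val)) fun p q => by
        simp only [toAdd_mul, Prod.fst_add, Prod.snd_add, ZMod.val_add]
        rw [← pow_eq_pow_mod _ hT4, ← pow_eq_pow_mod _ hU4, pow_add, pow_add]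
        have hc2 : U ^ p.toAdd.2.val * T ^ q.toAdd.1.val = T ^ q.toAdd.1.val * U ^ p.toAdd.2.val :=
          ((hTU.pow_pow _ _).eq).symm
        calc T ^ p.toAdd.1.val * T ^ q.toAdd.1.val * (U ^ p.toAdd.2.val * U ^ q.toAdd.2.val)
            = T ^ p.toAdd.1.val * (T ^ q.toAdd.1.val * U ^ p.toAdd.2.val) * U ^ q.toAdd.2.val := by group
          _ = _ := by rw [← hc2]; group
    let ψ : Multiplicative (ZMod 4 × ZMod 4) →* ℂˣ := MonoidHom.mk'
      (fun p => (Units.mk0 Complex.I Complex.I_ne_zero) ^ (p.toAdd.2.val)) fun p q => by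
        simp only [toAdd_mul, Prod.snd_add, ZMod.val_add]
        rw [← pow_add, ← pow_eq_pow_mod]
        refine Units.ext ?_
        simp [Complex.I_pow_four]
    letI := Fintype.ofFinite (Multiplicative (ZMod 4 × ZMod 4))
    obtain ⟨m, hm⟩ := classInner_char_nat
      (CharGalois.isCharacter_comp (irr_isCharacter χ) ((S : Subgroup G).subtype.comp φ))
      (isCharacter_of_irr (isIrrCharacter_of_hom ψ))
    have hZT : ∀ a b : ℕ, ((T ^ a * U ^ b : ↥(S : Subgroup G)) : _ ⧸ (Subgroup.center ↥(S : Subgroup G))) =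
        w 0 ^ a * (psi (S : Subgroup G) x (w 0)) ^ b := fun a b => by
      rw [QuotientGroup.mk_mul, QuotientGroup.mk_pow, QuotientGroup.mk_pow, ← htw 0, hUdef, hρ, psi,
        MonoidHom.comp_apply, toV_mk]
    have hw2 : ∀ n : ℕ, ∀ u : ↥(S : Subgroup G) ⧸ (Subgroup.center ↥(S : Subgroup G)), u ^ n = u ^ (n % 2) := fun n u =>
      pow_eq_pow_mod n (by rw [pow_two]; exact hy.orbits.sq u)
    -- the values on the sixteen elements
    have hval : ∀ p : Multiplicative (ZMod 4 × ZMod 4),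
        (χ : G → ℂ) ((φ p : ↥(S : Subgroup G)) : G) =
          if p.toAdd.1.val % 2 = 0 ∧ p.toAdd.2.val % 2 = 0 then
            (if p.toAdd.1.val = 0 ∧ p.toAdd.2.val = 0 then (d χ : ℂ) else (v χ : ℂ))
          else (c χ 0 : ℂ) := by
      intro p
      have hmk := hZT p.toAdd.1.val p.toAdd.2.val
      rw [hw2 p.toAdd.1.val, hw2 p.toAdd.2.val] at hmk
      have ha2 := Nat.mod_two_eq_zero_or_one p.toAdd.1.val
      have hb2 := Nat.mod_two_eq_zero_or_one p.toAdd.2.val
      have la := ZMod.val_lt p.toAdd.1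
      have lb := ZMod.val_lt p.toAdd.2
      show (χ : G → ℂ) ((T ^ p.toAdd.1.val * U ^ p.toAdd.2.val : ↥(S : Subgroup G)) : G) = _
      rcases ha2 with ha | ha <;> rcases hb2 with hb | hb
      · rw [if_pos ⟨ha, hb⟩]
        rw [ha, hb, pow_zero, pow_zero, one_mul] at hmk
        split_ifs with h0
        · rw [h0.1, h0.2, pow_zero, pow_zero, one_mul, Subgroup.coe_one, hdval]
        · refine hA χ _ ((QuotientGroup.eq_one_iff _).1 hmk) fun e => h0 ?_
          have hzT : (T ^ 2 : ↥(S : Subgroup G)) ≠ 1 := fun e2 => htZ 0 (h.sq_one T (by rwa [← pow_two]))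
          have hzU : (U ^ 2 : ↥(S : Subgroup G)) ≠ 1 := fun e2 => hzT (ρ.injective (by
            rw [map_pow, map_one]; exact e2))
          have hzne : (U ^ 2 : ↥(S : Subgroup G)) ≠ (T ^ 2)⁻¹ := fun e2 => hzT (hρfp _ (by
            rw [map_pow, ← hUdef, e2, inv_eq_of_mul_eq_one_right (show T ^ 2 * T ^ 2 = 1 by rw [← pow_add]; exact hT4)]))
          have ca : p.toAdd.1.val = 0 ∨ p.toAdd.1.val = 2 := by omega
          have cb : p.toAdd.2.val = 0 ∨ p.toAdd.2.val = 2 := by omega
          rcases ca with ea | ea <;> rcases cb with eb | eb <;> rw [ea, eb] at e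
          · exact ⟨ea, eb⟩
          · exact absurd (by simpa using e) hzU
          · exact absurd (by simpa using e) hzT
          · exact absurd (eq_inv_of_mul_eq_one_right e) hzne
      · rw [if_neg (by omega)]
        rw [ha, hb, pow_zero, pow_one, one_mul] at hmk
        exact horb χ _ 0 (Or.inr (Or.inl hmk))
      · rw [if_neg (by omega)]
        rw [ha, hb, pow_zero, pow_one, mul_one] at hmk
        exact horb χ _ 0 (Or.inl hmk)
      · rw [if_neg (by omega)]
        rw [ha, hb, pow_one, pow_one, hy.orbits.plane_mul] at hmk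
        exact horb χ _ 0 (Or.inr (Or.inr hmk))
    have hcard : Nat.card (Multiplicative (ZMod 4 × ZMod 4)) = 16 := by
      rw [Nat.card_congr Multiplicative.toAdd, Nat.card_prod, Nat.card_zmod]
    simp only [classInner, hcard, MonoidHom.coe_comp, Function.comp_apply, Subgroup.coe_subtype, hval] at hm
    rw [← Equiv.sum_comp (Multiplicative.ofAdd : ZMod 4 × ZMod 4 ≃ _), Fintype.sum_prod_type] at hm
    simp only [ψ, MonoidHom.mk'_apply, toAdd_ofAdd] at hm
    have hs4 : ∀ g : ZMod 4 → ℂ, ∑ a, g a = g 0 + g 1 + g 2 + g 3 := fun g => Fin.sum_univ_four g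
    simp only [hs4, show (0 : ZMod 4).val = 0 from rfl, show (1 : ZMod 4).val = 1 from rfl,
      show (2 : ZMod 4).val = 2 from rfl, show (3 : ZMod 4).val = 3 from rfl] at hm
    simp [pow_succ] at hm
    have h1 : ((d χ - v χ : ℤ) : ℂ) = ((16 * (m : ℤ) : ℤ) : ℂ) := by
      push_cast
      linear_combination 16 * hm
    exact ⟨m, by exact_mod_cast h1⟩
  -- sections
  have hO : ∀ s : ↥(S : Subgroup G), s ≠ 1 → ∃ O : Subgroup G,
      TwoCompl (s : G) O (if s ∈ (Subgroup.center ↥(S : Subgroup G)) then 6 else 4) := fun s hs => by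
    obtain ⟨O, h1, h2, h3, h4⟩ := hc.exists_complement_self S h s.2 fun e => hs (Subtype.ext e)
    refine ⟨O, h1, h2, h3, ?_⟩
    rw [h4]
    by_cases hsZ : s ∈ (Subgroup.center ↥(S : Subgroup G))
    · rw [if_pos hsZ, if_pos ((mem_center_iff S h s).1 hsZ)]; rfl
    · rw [if_neg hsZ, if_neg fun e => hsZ ((mem_center_iff S h s).2 e)]; rfl
  have htne : ∀ i, t i ≠ 1 := fun i e => htZ i (e ▸ (Subgroup.center ↥(S : Subgroup G)).one_mem)
  have htord : ∀ i, ∃ j : ℕ, orderOf (t i : G) = 2 ^ j := fun i => ⟨2, sq_of_not_center S h (htZ i)⟩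
  obtain ⟨Oz, hOz⟩ := hO ⟨z, hy.hz.1⟩ fun e => hy.hz1 (congrArg Subtype.val e)
  rw [if_pos ((mem_center_iff S h _).2 hy.hz)] at hOz
  have hOt : ∀ i, ∃ O, TwoCompl (t i : G) O 4 := fun i => by
    obtain ⟨O, hO'⟩ := hO (t i) (htne i)
    rw [if_neg (htZ i)] at hO'
    exact ⟨O, hO'⟩
  set B := Finset.univ.filter (· ∈ principalBlock M G) with hB
  have hnormT : ∀ i, ∑ χ ∈ B, c χ i * c χ i = 16 := fun i => by
    obtain ⟨O, hO'⟩ := hOt i
    have h1 := hO'.principal_norm hM (htord i)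
    simp only [Set.indicator_apply, ← Finset.sum_filter, hcval, map_intCast] at h1
    exact_mod_cast h1
  have hnormz : ∑ χ ∈ B, v χ * v χ = 64 := by
    have h1 := hOz.principal_norm hM ⟨1, hzord⟩
    simp only [Set.indicator_apply, ← Finset.sum_filter, hvval, map_intCast] at h1
    exact_mod_cast h1
  have hpp : ∀ g : G, (∃ j : ℕ, orderOf g = 2 ^ j) → IsPPart 2 g g := fun g hg => by
    have := Blocks.isPPart_mul (p := 2) (Commute.one_right g) hg (by rw [orderOf_one]; norm_num)
    rwa [mul_one] at this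
  have horth : ∀ i j, i ≠ j → ∑ χ ∈ B, c χ i * c χ j = 0 := fun i j hij => by
    have h1 := Blocks.sum_block_eq_zero_of_not_isConj hM (Blocks.isPBlock_principalBlock M)
      (hpp _ (htord i)) (hpp _ (htord j)) fun e => hij ?_
    · simp only [irr_apply_inv, hcval, map_intCast] at h1
      exact_mod_cast h1
    · refine hy.orbits.orbit_eq (v := w j) ?_ (Or.inl rfl)
      rw [← htw i, ← htw j]
      exact hc.orbit_of_isConj S h hy (htne i) e
  have horthz : ∀ i, ∑ χ ∈ B, c χ i * v χ = 0 := fun i => by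
    have h1 := Blocks.sum_block_eq_zero_of_not_isConj hM (Blocks.isPBlock_principalBlock M)
      (hpp _ (htord i)) (hpp z ⟨1, hzord⟩) fun e => ?_
    · simp only [irr_apply_inv, hcval, hvval, map_intCast] at h1
      exact_mod_cast h1
    · obtain ⟨g, hg⟩ := isConj_iff.1 e
      have h2 : orderOf (g * (t i : G) * g⁻¹) = orderOf (t i : G) :=
        orderOf_injective (MulAut.conj g).toMonoidHom (MulAut.conj g).injective _
      rw [hg, hzord, sq_of_not_center S h (htZ i)] at h2
      norm_num at h2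
  have hpair : ∀ i, ∑ χ ∈ B, (c χ i : ℚ) * ((v χ * v χ : ℚ) / d χ) = 0 := fun i => by
    obtain ⟨O, hO'⟩ := hOt i
    have h1 := ClassCount.card_pairs_mul_centralizers z z (sect (t i : G))
    rw [hc.pairs_empty S h hy.hz (htZ i), Finset.card_empty, Nat.cast_zero, zero_mul,
      zero_mul] at h1
    simp only [hO'.sum_sect_apply hM (htord i)] at h1
    have hterm : ∀ χ : IrrCharacter G, (ClassCount.cofDegree χ : ℂ) *
        ((χ : G → ℂ) z * (χ : G → ℂ) z * ((Nat.card G : ℂ) *
          Set.indicator (principalBlock M G) (fun ζ => conj ((ζ : G → ℂ) (t i : G)) /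
            ((2 ^ 4 : ℕ) : ℂ)) χ)) =
        ((Nat.card G : ℂ) * (Nat.card G : ℂ) / 16) *
          (if χ ∈ principalBlock M G then (c χ i : ℂ) * ((v χ * v χ : ℂ) / d χ) else 0) := fun χ => by
      rw [Set.indicator_apply]
      split_ifs
      · rw [hvval, hcval, map_intCast, ← ClassCount.card_div_degree, hdval]
        push_cast
        ring
      · ring
    rw [Finset.sum_congr rfl fun χ _ => hterm χ, ← Finset.mul_sum, ← Finset.sum_filter, eq_comm,
      mul_eq_zero] at h1
    have hne : ((Nat.card G : ℂ) * (Nat.card G : ℂ) / 16) ≠ 0 := by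
      simp
    have h2 := h1.resolve_left hne
    have h3 : ((∑ χ ∈ B, (c χ i : ℚ) * ((v χ * v χ : ℚ) / d χ) : ℚ) : ℂ) = 0 := by
      rw [← h2]
      push_cast
      rfl
    exact_mod_cast h3
  -- the vectors
  let P := principalIrr G
  have hP : P ∈ B := Finset.mem_filter.2 ⟨Finset.mem_univ _, Blocks.mem_blockOf_self hM P⟩
  have hPd : d P = 1 := by
    have h1 := hdval P
    have h2 : (P : G → ℂ) 1 = ((1 : ℤ) : ℂ) := by simp [P, principalIrr]
    exact_mod_cast h1.symm.trans h2
  have hPv : v P = 1 := by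
    have h1 := hvval P
    have h2 : (P : G → ℂ) z = ((1 : ℤ) : ℂ) := by simp [P, principalIrr]
    exact_mod_cast h1.symm.trans h2
  have hPc : ∀ i, c P i = 1 := fun i => by
    have h1 := hcval P i
    have h2 : (P : G → ℂ) (t i : G) = ((1 : ℤ) : ℂ) := by simp [P, principalIrr]
    exact_mod_cast h1.symm.trans h2
  let E : IrrCharacter G → Fin 5 → ℤ := fun χ i => ((∑ j, c χ j) - c χ i) / 4
  have hE : ∀ χ i, 4 * E χ i = (∑ j, c χ j) - c χ i := fun χ i => Int.mul_ediv_cancel' (hdiv χ i)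
  have hEP : ∀ i, E P i = 1 := fun i => by
    have h1 := hE P i
    simp only [hPc] at h1
    simp at h1
    omega
  have hEsum : ∀ χ, ∑ i, E χ i = ∑ j, c χ j := fun χ => by
    have h1 : 4 * ∑ i, E χ i = 5 * (∑ j, c χ j) - ∑ j, c χ j := by
      rw [Finset.mul_sum, Finset.sum_congr rfl fun i _ => hE χ i, Finset.sum_sub_distrib]
      simp
    omega
  let ι := {χ : IrrCharacter G // χ ∈ B.erase P}
  have hι : ∀ {R : Type} [AddCommGroup R] (f : IrrCharacter G → R),
      ∑ χ : ι, f χ.1 = ∑ χ ∈ B, f χ - f P := by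
    intro R _ f
    rw [Finset.sum_coe_sort (B.erase P) f, Finset.sum_erase_eq_sub hP]
  refine Arith.system_absurd (ι := ι) (fun i χ => E χ.1 i) (fun χ => d χ.1) (fun χ => v χ.1)
    (fun i j => ?_) (fun χ => ?_) (fun i => ?_) (fun i => ?_) ?_ (fun χ => ?_) (fun χ => h16 χ.1)
  · rw [hι (fun χ => E χ i * E χ j), hEP, hEP]
    have h1 : 16 * ∑ χ ∈ B, E χ i * E χ j = ∑ χ ∈ B, (∑ k, c χ k) * (∑ k, c χ k) -
        ∑ χ ∈ B, (∑ k, c χ k) * c χ i - ∑ χ ∈ B, (∑ k, c χ k) * c χ j + ∑ χ ∈ B, c χ i * c χ j := by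
      rw [Finset.mul_sum, ← Finset.sum_sub_distrib, ← Finset.sum_sub_distrib, ← Finset.sum_add_distrib]
      refine Finset.sum_congr rfl fun χ _ => ?_
      rw [show 16 * (E χ i * E χ j) = (4 * E χ i) * (4 * E χ j) by ring, hE, hE]
      ring
    have hCc : ∀ k, ∑ χ ∈ B, (∑ l, c χ l) * c χ k = 16 := fun k => by
      simp only [Finset.sum_mul]
      rw [Finset.sum_comm, Finset.sum_eq_single k (fun l _ hl => horth l k hl) (by simp)]
      exact hnormT k
    have hCC : ∑ χ ∈ B, (∑ k, c χ k) * (∑ k, c χ k) = 80 := by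
      simp only [Finset.mul_sum]
      rw [Finset.sum_comm, Finset.sum_congr rfl fun k _ => hCc k]
      simp
    have hij : ∑ χ ∈ B, c χ i * c χ j = if i = j then 16 else 0 := by
      split_ifs with e
      · rw [e]; exact hnormT j
      · exact horth i j e
    rw [hCC, hCc, hCc, hij] at h1
    split_ifs at h1 ⊢ <;> omega
  · have h1 : charDegree (χ.1 : G → ℂ) ≠ 1 := fun e =>
      (Finset.mem_erase.1 χ.2).1 (linear_eq_principal hc.nonab _ e)
    have := hdpos χ.1
    simp only [d] at this ⊢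
    omega
  · rw [hι (fun χ => E χ i * v χ), hEP, hPv]
    have h1 : 4 * ∑ χ ∈ B, E χ i * v χ = 0 := by
      rw [Finset.mul_sum, Finset.sum_congr rfl fun χ _ => show 4 * (E χ i * v χ) =
        (∑ k, c χ k * v χ) - c χ i * v χ by rw [← mul_assoc, hE, sub_mul, Finset.sum_mul],
        Finset.sum_sub_distrib, Finset.sum_comm, horthz,
        Finset.sum_eq_zero fun k _ => horthz k, sub_zero]
    omega
  · rw [hι (fun χ => (E χ i : ℚ) * ((v χ * v χ : ℚ) / d χ)), hEP, hPv, hPd]
    have h1 : (4 : ℚ) * ∑ χ ∈ B, (E χ i : ℚ) * ((v χ * v χ : ℚ) / d χ) = 0 := by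
      rw [Finset.mul_sum, Finset.sum_congr rfl fun χ _ => show (4 : ℚ) * ((E χ i : ℚ) * ((v χ * v χ : ℚ) / d χ)) =
        (∑ k, (c χ k : ℚ) * ((v χ * v χ : ℚ) / d χ)) - (c χ i : ℚ) * ((v χ * v χ : ℚ) / d χ) by
          rw [← Finset.sum_mul, ← sub_mul, ← mul_assoc]
          congr 1
          exact_mod_cast hE χ i,
        Finset.sum_sub_distrib, Finset.sum_comm, hpair, Finset.sum_eq_zero fun k _ => hpair k,
        sub_zero]
    push_cast
    linarith
  · rw [hι (fun χ => v χ * v χ), hnormz, hPv]; norm_num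
  · rw [hEsum]; exact hcong χ.1

end Crit

end CfsgLib.PiHom
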