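import Cfsg.Agent.Lib.PiHom.UnitaryCentral

/-!
# Fusion classes of the unitary-type Sylow 2-subgroup

The classes meeting `S` are `1`, the involutions, and five classes of elements of order four, each
given by an orbit of a cycle on the non-trivial elements of `S/Z(S)`.
-/

set_option autoImplicit false
set_option linter.style.haveILetI false

namespace CfsgLib.PiHom

open CfsgLib.InvCharSixtyFour (HermLike cm)

universe u

/-! ### Orbit sums in the quotient -/

section Quot

variable {V : Type*} [Group V]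

/-- A fixed-point-free automorphism of order three with five orbits, one element of a chosen colour
in each. -/
structure Orbits (σ : MulAut V) (w : Fin 5 → V) : Prop where
  card : Nat.card V = 16
  sq : ∀ v : V, v * v = 1
  comm : ∀ a b : V, a * b = b * a
  three : ∀ v, σ (σ (σ v)) = v
  fpf : ∀ v, σ v = v → v = 1
  ne_one : ∀ i, w i ≠ 1
  cover : ∀ v, v ≠ 1 → ∃ i, v = w i ∨ v = σ (w i) ∨ v = σ (σ (w i))
  sep : ∀ i j, (w i = w j ∨ w i = σ (w j) ∨ w i = σ (σ (w j))) → i = j

namespace Orbits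

variable [Fintype V] {σ : MulAut V} {w : Fin 5 → V} (hO : Orbits σ w)
include hO

theorem plane_mul (v : V) : v * σ v = σ (σ v) := by
  have h := (InvCharSixtyFour.fpf_three σ hO.three hO.fpf v).1
  rw [← inv_eq_of_mul_eq_one_right h, inv_eq_of_mul_eq_one_right (hO.sq _)]

/-- the plane spanned by an orbit -/
def plane (i : Fin 5) : Subgroup V :=
  Subgroup.closure {w i, σ (w i)}

theorem mem_plane {i : Fin 5} {v : V} :
    v ∈ plane (σ := σ) (w := w) i ↔ v = 1 ∨ v = w i ∨ v = σ (w i) ∨ v = σ (σ (w i)) := by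
  set a := w i
  have h1 : a * σ a = σ (σ a) := hO.plane_mul a
  have h2 : σ a * σ (σ a) = a := by rw [hO.plane_mul (σ a), hO.three]
  have h3 : σ (σ a) * a = σ a := by
    have := hO.plane_mul (σ (σ a))
    rwa [hO.three] at this
  constructor
  · intro hv
    induction hv using Subgroup.closure_induction with
    | mem y hy =>
      rcases hy with rfl | rfl
      exacts [Or.inr (Or.inl rfl), Or.inr (Or.inr (Or.inl rfl))]
    | one => exact Or.inl rfl
    | mul x y _ _ hx hy =>
      rcases hx with rfl | rfl | rfl | rfl <;> rcases hy with rfl | rfl | rfl | rfl <;>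
        simp [hO.sq, h1, h2, h3, hO.comm (σ a) a, hO.comm (σ (σ a)) (σ a), hO.comm a (σ (σ a))]
    | inv x _ hx =>
      rwa [inv_eq_of_mul_eq_one_right (hO.sq x)]
  · have ha : a ∈ plane (σ := σ) (w := w) i := Subgroup.subset_closure (Set.mem_insert _ _)
    have hb : σ a ∈ plane (σ := σ) (w := w) i :=
      Subgroup.subset_closure (Set.mem_insert_of_mem _ rfl)
    rintro (rfl | rfl | rfl | rfl)
    exacts [one_mem _, ha, hb, h1 ▸ mul_mem ha hb]

omit [Fintype V] in
theorem orbit_eq {i j : Fin 5} {v : V} (hi : v = w i ∨ v = σ (w i) ∨ v = σ (σ (w i)))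
    (hj : v = w j ∨ v = σ (w j) ∨ v = σ (σ (w j))) : i = j := by
  have h3 := hO.three
  rcases hi with rfl | rfl | rfl <;> rcases hj with h | h | h
  · exact hO.sep i j (Or.inl h)
  · exact hO.sep i j (Or.inr (Or.inl h))
  · exact hO.sep i j (Or.inr (Or.inr h))
  · exact hO.sep i j (Or.inr (Or.inr (by rw [← h, h3])))
  · exact hO.sep i j (Or.inl (σ.injective h))
  · exact hO.sep i j (Or.inr (Or.inl (σ.injective h)))
  · exact hO.sep i j (Or.inr (Or.inl (by rw [← h, h3])))
  · exact hO.sep i j (Or.inr (Or.inr (by rw [← σ.injective h, h3])))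
  · exact hO.sep i j (Or.inl (σ.injective (σ.injective h)))

/-- the orbit of a non-trivial element -/
noncomputable def index (v : V) (hv : v ≠ 1) : Fin 5 := (hO.cover v hv).choose

omit [Fintype V] in
theorem index_spec {v : V} (hv : v ≠ 1) :
    v = w (hO.index v hv) ∨ v = σ (w (hO.index v hv)) ∨ v = σ (σ (w (hO.index v hv))) :=
  (hO.cover v hv).choose_spec

omit [Fintype V] in
theorem sigma_ne_one {v : V} (hv : v ≠ 1) : σ v ≠ 1 := fun h => hv (σ.injective (h.trans (map_one σ).symm))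

theorem plane_card_sum [DecidableEq V] (i : Fin 5) (f : V → ℤ) (hf : ∀ v, f (σ v) = f v) :
    ∑ v ∈ Finset.univ.filter (fun v => v ∈ ({1, w i, σ (w i), σ (σ (w i))} : Finset V)), f v =
      f 1 + 3 * f (w i) := by
  have h1 := hO.ne_one i
  have h2 := hO.sigma_ne_one h1
  have h3 := hO.sigma_ne_one h2
  have h12 : σ (w i) ≠ w i := fun h => h1 (hO.fpf _ h)
  have h23 : σ (σ (w i)) ≠ σ (w i) := fun h => h12 (σ.injective h)
  have h13 : σ (σ (w i)) ≠ w i := fun h => h12 (by
    have h' := congrArg σ h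
    rw [hO.three] at h'
    exact h'.symm)
  rw [Finset.filter_mem_eq_inter, Finset.univ_inter, Finset.sum_insert, Finset.sum_insert,
    Finset.sum_pair h23.symm, hf, hf, hf]
  · ring
  · simp [h12.symm, h13.symm]
  · simp [h1.symm, h2.symm, h3.symm]

open scoped Classical in
/-- The sum over everything. -/
theorem sum_univ (f : V → ℤ) (hf : ∀ v, f (σ v) = f v) :
    ∑ v, f v = f 1 + 3 * ∑ i, f (w i) := by
  have hcov : (Finset.univ : Finset V).erase 1 =
      (Finset.univ : Finset (Fin 5)).biUnion fun i => {w i, σ (w i), σ (σ (w i))} := by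
    ext v
    simp only [Finset.mem_erase, Finset.mem_univ, and_true, Finset.mem_biUnion, true_and,
      Finset.mem_insert, Finset.mem_singleton]
    refine ⟨fun hv => ⟨_, hO.index_spec hv⟩, ?_⟩
    rintro ⟨i, rfl | rfl | rfl⟩
    exacts [hO.ne_one i, hO.sigma_ne_one (hO.ne_one i),
      hO.sigma_ne_one (hO.sigma_ne_one (hO.ne_one i))]
  rw [← Finset.add_sum_erase _ _ (Finset.mem_univ (1 : V)), hcov, Finset.sum_biUnion, Finset.mul_sum]
  · congr 1
    refine Finset.sum_congr rfl fun i _ => ?_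
    have h1 := hO.ne_one i
    have h12 : σ (w i) ≠ w i := fun h => h1 (hO.fpf _ h)
    have h23 : σ (σ (w i)) ≠ σ (w i) := fun h => h12 (σ.injective h)
    have h13 : σ (σ (w i)) ≠ w i := fun h => h12 (by
      have h' := congrArg σ h
      rw [hO.three] at h'
      exact h'.symm)
    rw [Finset.sum_insert (by simp [h12.symm, h13.symm]), Finset.sum_pair h23.symm, hf, hf, hf]
    ring
  · intro i _ j _ hij
    simp only [Function.onFun, Finset.disjoint_left, Finset.mem_insert, Finset.mem_singleton]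
    exact fun v hi hj => hij (hO.orbit_eq hi hj)

open scoped Classical in
/-- A hyperplane through a plane meets each other orbit once. -/
theorem exists_hyperplane (i : Fin 5) : ∃ M : Subgroup V, Nat.card ↥M = 8 ∧
    ∀ f : V → ℤ, (∀ v, f (σ v) = f v) →
      ∑ v ∈ Finset.univ.filter (· ∈ M), f v = f 1 + 2 * f (w i) + ∑ j, f (w j) := by
  obtain ⟨j₀, hj₀⟩ : ∃ j, j ≠ i := exists_ne i
  set u := w j₀ with hu
  have hout : ∀ v ∈ plane (σ := σ) (w := w) i, v ≠ 1 →
      v = w i ∨ v = σ (w i) ∨ v = σ (σ (w i)) :=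
    fun v hv hv1 => ((hO.mem_plane).1 hv).resolve_left hv1
  have huP : u ∉ plane (σ := σ) (w := w) i := fun h =>
    hj₀ (hO.orbit_eq (Or.inl rfl) (hout u h (hO.ne_one j₀)))
  let M : Subgroup V :=
    { carrier := {v | v ∈ plane (σ := σ) (w := w) i ∨ u * v ∈ plane (σ := σ) (w := w) i}
      one_mem' := Or.inl (one_mem _)
      mul_mem' := by
        rintro a b (ha | ha) (hb | hb)
        · exact Or.inl (mul_mem ha hb)
        · right
          rw [show u * (a * b) = a * (u * b) by rw [← mul_assoc, hO.comm u a, mul_assoc]]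
          exact mul_mem ha hb
        · right
          rw [← mul_assoc]
          exact mul_mem ha hb
        · left
          rw [show a * b = (u * a) * (u * b) by
            rw [hO.comm u a, mul_assoc a u, ← mul_assoc u u b, hO.sq, one_mul]]
          exact mul_mem ha hb
      inv_mem' := by
        intro a ha
        rwa [inv_eq_of_mul_eq_one_right (hO.sq a)] }
  set P : Finset V := {1, w i, σ (w i), σ (σ (w i))} with hP
  have hPm : ∀ v, v ∈ P ↔ v ∈ plane (σ := σ) (w := w) i := fun v => by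
    rw [hO.mem_plane]; simp [hP]
  have hPc : P.card = 4 := by
    have h1 := hO.ne_one i
    have h2 := hO.sigma_ne_one h1
    have h3 := hO.sigma_ne_one h2
    have h12 : σ (w i) ≠ w i := fun h => h1 (hO.fpf _ h)
    have h23 : σ (σ (w i)) ≠ σ (w i) := fun h => h12 (σ.injective h)
    have h13 : σ (σ (w i)) ≠ w i := fun h => h12 (by
      have h' := congrArg σ h
      rw [hO.three] at h'
      exact h'.symm)
    rw [hP, Finset.card_insert_of_notMem (by simp [h1.symm, h2.symm, h3.symm]),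
      Finset.card_insert_of_notMem (by simp [h12.symm, h13.symm]), Finset.card_pair h23.symm]
  have hM : Finset.univ.filter (· ∈ M) = P ∪ P.image (u * ·) := by
    ext v
    simp only [Finset.mem_filter, Finset.mem_univ, true_and, Finset.mem_union, Finset.mem_image, hPm]
    refine ⟨fun h => h.imp id fun h => ⟨_, h, by rw [← mul_assoc, hO.sq, one_mul]⟩, ?_⟩
    rintro (h | ⟨a, ha, rfl⟩)
    exacts [Or.inl h, Or.inr (by rw [← mul_assoc, hO.sq, one_mul]; exact ha)]
  have hdisj : Disjoint P (P.image (u * ·)) := by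
    rw [Finset.disjoint_left]
    intro v hv h
    obtain ⟨a, ha, rfl⟩ := Finset.mem_image.1 h
    refine huP ?_
    have h1 := mul_mem ((hPm _).1 hv) ((hPm _).1 ha)
    rwa [mul_assoc, hO.sq, mul_one] at h1
  refine ⟨M, ?_, fun f hf => ?_⟩
  · rw [Nat.card_eq_fintype_card, Fintype.card_subtype, hM, Finset.card_union_of_disjoint hdisj,
      Finset.card_image_of_injective _ (mul_right_injective u), hPc]
  rw [hM, Finset.sum_union hdisj]
  have hPsum := hO.plane_card_sum i f hf
  rw [Finset.filter_mem_eq_inter, Finset.univ_inter, ← hP] at hPsum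
  rw [hPsum, Finset.sum_image fun a _ b _ h => mul_left_cancel h]
  -- the translated plane meets each other orbit once
  have hne : ∀ a ∈ P, u * a ≠ 1 := fun a ha h => huP (by
    rw [eq_inv_of_mul_eq_one_left h]
    exact inv_mem ((hPm a).1 ha))
  have hmaps : ∀ a : {a // a ∈ P}, hO.index (u * a.1) (hne a.1 a.2) ≠ i := fun a h => by
    have h1 := hO.index_spec (hne a.1 a.2)
    rw [h] at h1
    refine huP ?_
    have h2 : u * a.1 ∈ plane (σ := σ) (w := w) i := (hO.mem_plane).2 (Or.inr h1)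
    have h3 := mul_mem h2 ((hPm a.1).1 a.2)
    rwa [mul_assoc, hO.sq, mul_one] at h3
  let g : {a // a ∈ P} → {j : Fin 5 // j ≠ i} := fun a => ⟨_, hmaps a⟩
  have hg : Function.Injective g := by
    intro a b h
    have h' : hO.index (u * a.1) (hne a.1 a.2) = hO.index (u * b.1) (hne b.1 b.2) :=
      congrArg Subtype.val h
    set j := hO.index (u * b.1) (hne b.1 b.2) with hj
    have ha := hO.index_spec (hne a.1 a.2)
    rw [h'] at ha
    have hb := hO.index_spec (hne b.1 b.2)
    rw [← hj] at hb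
    have h1 : (u * a.1) * (u * b.1) ∈ plane (σ := σ) (w := w) j :=
      mul_mem ((hO.mem_plane).2 (Or.inr ha)) ((hO.mem_plane).2 (Or.inr hb))
    rw [show u * a.1 * (u * b.1) = a.1 * b.1 by
      rw [hO.comm u a.1, mul_assoc a.1 u, ← mul_assoc u u b.1, hO.sq, one_mul]] at h1
    have h2 : a.1 * b.1 ∈ plane (σ := σ) (w := w) i := mul_mem ((hPm _).1 a.2) ((hPm _).1 b.2)
    by_cases h0 : a.1 * b.1 = 1
    · exact Subtype.ext ((eq_inv_of_mul_eq_one_left h0).trans (inv_eq_of_mul_eq_one_right (hO.sq _)))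
    · exact absurd (hO.orbit_eq (hout _ h2 h0) (((hO.mem_plane).1 h1).resolve_left h0))
        (hmaps b).symm
  have hbij : Function.Bijective g := (Fintype.bijective_iff_injective_and_card g).2 ⟨hg, by
    rw [Fintype.card_coe, hPc, Fintype.card_subtype_compl, Fintype.card_subtype_eq]; rfl⟩
  have hval : ∀ a : {a // a ∈ P}, f (u * a.1) = f (w (g a).1) := fun a => by
    rcases hO.index_spec (hne a.1 a.2) with h | h | h
    · exact congrArg f h
    · exact (congrArg f h).trans (hf _)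
    · exact ((congrArg f h).trans (hf _)).trans (hf _)
  have hsum : ∑ a ∈ P, f (u * a) = ∑ j ∈ (Finset.univ : Finset (Fin 5)).erase i, f (w j) := by
    rw [← Finset.sum_coe_sort P, Finset.sum_congr rfl fun a _ => hval a,
      hbij.sum_comp fun j : {j : Fin 5 // j ≠ i} => f (w j.1)]
    exact (Finset.sum_subtype _ (by simp) fun j => f (w j)).symm
  rw [hsum, ← Finset.add_sum_erase _ _ (Finset.mem_univ i)]
  ring

end Orbits

end Quot

/-! ### The cycle and its classes -/

variable {π : Set ℕ} {G : Type u} [Group G] [Finite G]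

/-- A cycle of odd order in `N(S)` with the five orbits. -/
structure Cycle (S : Sylow 2 G)
    (x : ↥(Subgroup.normalizer ((S : Subgroup G) : Set G))) (z : G)
    (w : Fin 5 → ↥(S : Subgroup G) ⧸ Subgroup.center ↥(S : Subgroup G)) : Prop where
  hz : z ∈ zInv (S : Subgroup G)
  hz1 : z ≠ 1
  cyc : ∀ a ∈ zInv (S : Subgroup G), a ≠ 1 → (x : G) * a * (x : G)⁻¹ ≠ a
  three : ∀ s ∈ (S : Subgroup G), (x : G) * ((x : G) * ((x : G) * s * (x : G)⁻¹) * (x : G)⁻¹) *
    (x : G)⁻¹ = s
  colour : ∀ i, ((sqCol (w i) : ↥(S : Subgroup G)) : G) = z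
  orbits : Orbits (psi (S : Subgroup G) x) w

namespace Crit

variable (hc : Crit π G) (S : Sylow 2 G) (h : HermLike ↥(S : Subgroup G) 4)
include hc h

theorem exists_cycle_data :
    ∃ (x : ↥(Subgroup.normalizer ((S : Subgroup G) : Set G))) (z : G)
      (w : Fin 5 → ↥(S : Subgroup G) ⧸ Subgroup.center ↥(S : Subgroup G)), Cycle S x z w := by
  haveI : Fact (Nat.Prime 2) := ⟨Nat.prime_two⟩
  classical
  letI := Fintype.ofFinite (↥(S : Subgroup G) ⧸ Subgroup.center ↥(S : Subgroup G))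
  obtain ⟨x₀, hx₀, hcyc₀⟩ := hc.exists_cycle S
  obtain ⟨z, -, hz, -, hz1, -, -⟩ := hc.exists_zInv_pair S
  obtain ⟨e, m, hm, hem⟩ :=
    Nat.exists_eq_pow_mul_and_not_dvd (orderOf_pos x₀).ne' 2 (by norm_num)
  set x := x₀ ^ 2 ^ e with hxdef
  have hxN : x ∈ Subgroup.normalizer ((S : Subgroup G) : Set G) := pow_mem hx₀ _
  have hxodd : Odd (orderOf x) := by
    have h1 : orderOf x ∣ m := orderOf_dvd_of_pow_eq_one (by
      rw [hxdef, ← pow_mul, ← hem, pow_orderOf_eq_one])
    exact (Nat.odd_iff.2 (Nat.two_dvd_ne_zero.1 hm)).of_dvd_nat h1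
  have hfix2 : ∀ a ∈ zInv (S : Subgroup G), a ≠ 1 → x * a * x⁻¹ ≠ a := by
    intro a ha ha1 hfix
    have h1 : x₀ ^ 2 ^ e ∈ fixer (S : Subgroup G) := hc.mem_fixer_of_fix S hxN ha ha1 hfix
    have h3 := hc.cube_mem_fixer S hx₀
    have hcop : Nat.Coprime (2 ^ e) 3 := Nat.Coprime.pow_left e (by norm_num)
    obtain ⟨k, -, hk⟩ := Nat.exists_mul_mod_eq_one_of_coprime hcop (by norm_num)
    have h4 : x₀ ∈ fixer (S : Subgroup G) := by
      have h5 : x₀ ^ (2 ^ e * k) ∈ fixer (S : Subgroup G) := by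
        rw [pow_mul]; exact pow_mem h1 k
      rw [← Nat.div_add_mod (2 ^ e * k) 3, hk, pow_add, pow_mul, pow_one] at h5
      have h6 := mul_mem (inv_mem (pow_mem h3 (2 ^ e * k / 3))) h5
      rwa [inv_mul_cancel_left] at h6
    exact hcyc₀ a ha ha1 (fixer_fix S h4 ha)
  have hx3 : ∀ s ∈ (S : Subgroup G), x * (x * (x * s * x⁻¹) * x⁻¹) * x⁻¹ = s := by
    intro s hs
    have h1 := hc.odd_commute S h (hc.cube_mem_fixer S hxN)
      (hxodd.of_dvd_nat (orderOf_pow_dvd 3)) hs
    calc x * (x * (x * s * x⁻¹) * x⁻¹) * x⁻¹ = x ^ 3 * s * (x ^ 3)⁻¹ := by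
          rw [pow_succ, pow_two]; group
      _ = s := conj_fix_iff.2 h1
  set σ := psi (S : Subgroup G) ⟨x, hxN⟩ with hσ
  have h3V : ∀ v, σ (σ (σ v)) = v := fun v => by
    induction v using QuotientGroup.induction_on with
    | _ t =>
      rw [hσ, psi, MonoidHom.comp_apply, toV_mk, toV_mk, toV_mk]
      congr 1
      apply Subtype.ext
      simp only [normalizerMonoidHom_coe]
      exact hx3 t t.2
  have hcolσ : ∀ v, ((sqCol (σ v) : ↥(S : Subgroup G)) : G) =
      x * ((sqCol v : ↥(S : Subgroup G)) : G) * x⁻¹ := fun v => by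
    rw [hσ, psi, MonoidHom.comp_apply, sqCol_toV h]; rfl
  have hcolA : ∀ v, ((sqCol v : ↥(S : Subgroup G)) : G) ∈ zInv (S : Subgroup G) := fun v =>
    (mem_center_iff S h _).1 (by rw [sqCol]; exact h.sq_mem _)
  have hcol1 : ∀ v, v ≠ 1 → ((sqCol v : ↥(S : Subgroup G)) : G) ≠ 1 := fun v hv h1 =>
    hv ((sqCol_eq_one h).1 (Subtype.ext h1))
  have hfpf : ∀ v, σ v = v → v = 1 := fun v hv => by
    by_contra hv1
    refine hfix2 _ (hcolA v) (hcol1 v hv1) ?_
    rw [← hcolσ, hv]
  obtain ⟨c1, c2⟩ := hc.cycle_apply S hxN hfix2 hz hz1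
  have hV := isColouring h ((S : Subgroup G).normalizerMonoidHom ⟨x, hxN⟩) (z := ⟨z, hz.1⟩)
    ((mem_center_iff S h _).2 hz) (fun e => hz1 (congrArg Subtype.val e))
    (fun e => hfix2 z hz hz1 (congrArg Subtype.val e)) (fun e => by
      have e' := congrArg Subtype.val e
      simp only [normalizerMonoidHom_coe] at e'
      rw [c1] at e'
      exact hz1 (conj_eq_one_iff.1 (mul_eq_left.1 e')))
  have h5 := hV.fibre 0
  rw [Matrix.cons_val_zero, Nat.card_eq_fintype_card] at h5
  let w : Fin 5 → ↥(S : Subgroup G) ⧸ Subgroup.center ↥(S : Subgroup G) :=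
    fun i => ((Fintype.equivFinOfCardEq h5).symm i).1
  have hwcol : ∀ i, ((sqCol (w i) : ↥(S : Subgroup G)) : G) = z := fun i =>
    congrArg Subtype.val ((Fintype.equivFinOfCardEq h5).symm i).2
  have hw1 : ∀ i, w i ≠ 1 := fun i hi => hz1 (by
    rw [← hwcol i, hi, (sqCol_eq_one h).2 rfl]; rfl)
  have hxz : x * z * x⁻¹ ≠ z := hfix2 z hz hz1
  have hxxz : x * (x * z * x⁻¹) * x⁻¹ ≠ z := fun e => by
    rw [c1] at e
    exact hz1 (conj_eq_one_iff.1 (mul_eq_left.1 e))
  refine ⟨⟨x, hxN⟩, z, w, hz, hz1, hfix2, hx3, hwcol,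
    ⟨card_quot h, mul_self_eq_one h, quot_comm h, h3V,
      hfpf, hw1, fun v hv => ?_, fun i j hij => ?_⟩⟩
  · obtain ⟨k, hk⟩ := hV.cover v hv
    have hmk : ∀ v', ((sqCol v' : ↥(S : Subgroup G)) : G) = z → ∃ i, v' = w i := fun v' hv' =>
      ⟨Fintype.equivFinOfCardEq h5 ⟨v', Subtype.ext hv'⟩, by simp [w]⟩
    fin_cases k
    · obtain ⟨i, hi⟩ := hmk v (congrArg Subtype.val hk)
      exact ⟨i, Or.inl hi⟩
    · -- colour `x z x⁻¹`: two more steps return to `z`
      have hk' : ((sqCol v : ↥(S : Subgroup G)) : G) = x * z * x⁻¹ := congrArg Subtype.val hk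
      obtain ⟨i, hi⟩ := hmk (σ (σ v)) (by rw [hcolσ, hcolσ, hk', c1, c2])
      exact ⟨i, Or.inr (Or.inl (by rw [← hi, h3V]))⟩
    · have hk' : ((sqCol v : ↥(S : Subgroup G)) : G) = x * (x * z * x⁻¹) * x⁻¹ :=
        congrArg Subtype.val hk
      obtain ⟨i, hi⟩ := hmk (σ v) (by rw [hcolσ, hk', c1, c2])
      exact ⟨i, Or.inr (Or.inr (by rw [← hi, h3V]))⟩
  · rcases hij with e | e | e
    · exact (Fintype.equivFinOfCardEq h5).symm.injective (Subtype.ext e)
    · exact absurd ((hwcol i).symm.trans (by rw [e, hcolσ, hwcol])) hxz.symm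
    · exact absurd ((hwcol i).symm.trans (by rw [e, hcolσ, hcolσ, hwcol])) hxxz.symm

omit hc [Finite G] in
/-- The class of an element outside the centre contains its coset. -/
theorem isConj_mul_center {s : ↥(S : Subgroup G)} (hs : s ∉ Subgroup.center ↥(S : Subgroup G))
    {a : ↥(S : Subgroup G)} (ha : a ∈ Subgroup.center ↥(S : Subgroup G)) :
    IsConj (s : G) ((s * a : ↥(S : Subgroup G)) : G) := by
  obtain ⟨t, ht⟩ := h.cm_onto s hs a ha
  refine isConj_iff.2 ⟨t, ?_⟩
  have e : t * s * t⁻¹ = s * a := by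
    have h1 : t * s⁻¹ * t⁻¹ = s⁻¹ * a := by rw [← ht]; unfold cm; group
    calc t * s * t⁻¹ = (t * s⁻¹ * t⁻¹)⁻¹ := by group
      _ = a * s := by rw [h1, mul_inv_rev, inv_inv, inv_eq_of_mul_eq_one_right (h.center_sq a ha)]
      _ = s * a := (Subgroup.mem_center_iff.1 ha s).symm
  exact congrArg Subtype.val e

variable {x : ↥(Subgroup.normalizer ((S : Subgroup G) : Set G))} {z : G}
  {w : Fin 5 → ↥(S : Subgroup G) ⧸ Subgroup.center ↥(S : Subgroup G)} (hy : Cycle S x z w)
include hy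

omit h in
theorem isConj_invol {a : G} (ha : a ∈ zInv (S : Subgroup G)) (ha1 : a ≠ 1) : IsConj z a := by
  obtain ⟨c1, c2⟩ := hc.cycle_apply S x.2 hy.cyc hy.hz hy.hz1
  rcases zInv_cases (hc.card_zInv S) hy.hz hy.hz1 (conj_mem_zInv x.2 hy.hz)
      (fun e => hy.hz1 (conj_eq_one_iff.1 e)) (fun e => hy.cyc z hy.hz hy.hz1 e.symm) ha with
    rfl | rfl | rfl | rfl
  · exact absurd rfl ha1
  · exact IsConj.refl _
  · exact isConj_iff.2 ⟨x, rfl⟩
  · exact isConj_iff.2 ⟨x * x, by rw [← c1]; group⟩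

omit hc hy [Finite G] in
theorem isConj_shift {s t : ↥(S : Subgroup G)} (hs : s ∉ Subgroup.center ↥(S : Subgroup G))
    (hst : (t : _ ⧸ Subgroup.center ↥(S : Subgroup G)) = s ∨
      (t : _ ⧸ Subgroup.center ↥(S : Subgroup G)) = psi (S : Subgroup G) x (s : _ ⧸ _) ∨
      (t : _ ⧸ Subgroup.center ↥(S : Subgroup G)) =
        psi (S : Subgroup G) x (psi (S : Subgroup G) x (s : _ ⧸ _))) :
    IsConj (s : G) (t : G) := by
  have key : ∀ s' : ↥(S : Subgroup G), s' ∉ Subgroup.center ↥(S : Subgroup G) →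
      (t : _ ⧸ Subgroup.center ↥(S : Subgroup G)) = s' → IsConj (s' : G) (t : G) := by
    intro s' hs' e
    obtain ⟨a, ha, rfl⟩ := mk_eq_iff_exists.1 e
    exact isConj_mul_center S h hs' ha
  have hne : ∀ n (s' : ↥(S : Subgroup G)), s' ∉ Subgroup.center ↥(S : Subgroup G) →
      (S : Subgroup G).normalizerMonoidHom n s' ∉ Subgroup.center ↥(S : Subgroup G) := by
    intro n s' hs' h'
    refine hs' ?_
    have := map_center_mem (S.1.normalizerMonoidHom n).symm h'
    rwa [MulEquiv.symm_apply_apply] at this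
  rcases hst with e | e | e
  · exact key s hs e
  · exact (isConj_iff.2 ⟨(x : G), rfl⟩).trans (key _ (hne x s hs) e)
  · exact ((isConj_iff.2 ⟨(x : G), rfl⟩).trans (isConj_iff.2 ⟨(x : G), rfl⟩)).trans
      (key _ (hne x _ (hne x s hs)) e)

theorem orbit_of_isConj {s t : ↥(S : Subgroup G)} (hs : s ≠ 1) (hst : IsConj (s : G) (t : G)) :
    (t : _ ⧸ Subgroup.center ↥(S : Subgroup G)) = s ∨
      (t : _ ⧸ Subgroup.center ↥(S : Subgroup G)) = psi (S : Subgroup G) x (s : _ ⧸ _) ∨
      (t : _ ⧸ Subgroup.center ↥(S : Subgroup G)) =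
        psi (S : Subgroup G) x (psi (S : Subgroup G) x (s : _ ⧸ _)) := by
  obtain ⟨g, hg⟩ := isConj_iff.1 hst
  have hne : Subgroup.zpowers (s : G) ≠ ⊥ := fun e =>
    hs (Subtype.ext (Subgroup.zpowers_eq_bot.1 e))
  obtain ⟨n, hn, c, hcc, rfl⟩ := hc.control S hne (Subgroup.zpowers_le.2 s.2) (g := g) (by
    rw [conjBy, MonoidHom.map_zpowers, Subgroup.zpowers_le]
    simp only [MulEquiv.coe_toMonoidHom, MulAut.conj_apply, hg]
    exact t.2)
  have hcs : c * (s : G) * c⁻¹ = s :=
    conj_fix_iff.2 (Subgroup.mem_centralizer_iff.1 hcc _ (Subgroup.mem_zpowers _)).symm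
  have hts : t = (S : Subgroup G).normalizerMonoidHom ⟨n, hn⟩ s := by
    apply Subtype.ext
    rw [normalizerMonoidHom_coe, ← hg]
    calc n * c * (s : G) * (n * c)⁻¹ = n * (c * (s : G) * c⁻¹) * n⁻¹ := by group
      _ = _ := by rw [hcs]
  have hmk : (t : _ ⧸ Subgroup.center ↥(S : Subgroup G)) =
      psi (S : Subgroup G) ⟨n, hn⟩ (s : _ ⧸ _) := by
    rw [hts, psi, MonoidHom.comp_apply, toV_mk]
  obtain ⟨i, hi⟩ := hc.exists_coset S x.2 hy.cyc hn
  have h1 : psi (S : Subgroup G) ((x ^ (i : ℕ))⁻¹ * ⟨n, hn⟩) = 1 := by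
    have h2 : psi (S : Subgroup G) ((x ^ (i : ℕ))⁻¹ * ⟨n, hn⟩) ∈ gamma (S : Subgroup G) :=
      ⟨_, Subgroup.mem_subgroupOf.2 (by simpa using hi), rfl⟩
    rwa [hc.gamma_eq_bot S h, Subgroup.mem_bot] at h2
  rw [map_mul, map_inv, inv_mul_eq_one, map_pow] at h1
  rw [hmk, ← h1]
  fin_cases i
  · exact Or.inl (by simp)
  · exact Or.inr (Or.inl (by simp))
  · exact Or.inr (Or.inr (by simp [pow_two]))

end Crit

end CfsgLib.PiHom
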