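import Cfsg.Agent.Lib.PiHom.RankThree
import Cfsg.Agent.Lib.PiHom.Local
import Cfsg.Agent.Lib.PiHom.Colour

/-!
# Sylow 2-subgroup of type `PSU₃(4)`: the action of `N(S)` on `S/Z(S)`

`N(S)` permutes the three involutions of `S` cyclically.  The part fixing them acts on the five
elements of each colour through a group of order dividing five.
-/

set_option autoImplicit false
set_option linter.style.haveILetI false

namespace CfsgLib.PiHom

open CfsgLib.InvCharSixtyFour (HermLike)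
open CfsgLib.OddOrder (SylowOf)

universe u

variable {π : Set ℕ} {G : Type u} [Group G] [Finite G]

omit [Finite G] in
theorem conj_fix_iff {n a : G} : n * a * n⁻¹ = a ↔ n * a = a * n := mul_inv_eq_iff_eq_mul

theorem zInv_cases {S : Subgroup G} (h4 : Nat.card ↥(zInv S) = 4) {a b x : G} (ha : a ∈ zInv S)
    (ha1 : a ≠ 1) (hb : b ∈ zInv S) (hb1 : b ≠ 1) (hab : a ≠ b) (hx : x ∈ zInv S) :
    x = 1 ∨ x = a ∨ x = b ∨ x = a * b := by
  have hab1 : a * b ≠ 1 := fun h => hab (by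
    rw [← inv_eq_of_mul_eq_one_right h, inv_eq_of_mul_eq_one_right ha.2.1])
  have haab : a ≠ a * b := fun h => hb1 (mul_left_cancel (a := a) (by rw [mul_one]; exact h.symm))
  have hbab : b ≠ a * b := fun h => ha1 (mul_right_cancel (b := b) (by rw [one_mul]; exact h.symm))
  have hset : ({1, a, b, a * b} : Set G) = (zInv S : Set G) := by
    refine Set.eq_of_subset_of_ncard_le ?_ ?_ (Set.toFinite _)
    · rintro w (rfl | rfl | rfl | rfl)
      exacts [one_mem _, ha, hb, mul_mem ha hb]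
    · rw [← Nat.card_coe_set_eq (zInv S : Set G)]
      simp only [SetLike.coe_sort_coe, h4]
      rw [Set.ncard_insert_of_notMem _ (Set.toFinite _),
        Set.ncard_insert_of_notMem _ (Set.toFinite _), Set.ncard_pair hbab]
      · simp [hab, haab]
      · simp [ha1.symm, hb1.symm, hab1.symm]
  have h2 : x ∈ ({1, a, b, a * b} : Set G) := by rw [hset]; exact hx
  simpa using h2

/-- the normaliser part centralising `zInv S` -/
def fixer (S : Subgroup G) : Subgroup G :=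
  Subgroup.normalizer (S : Set G) ⊓ Subgroup.centralizer (zInv S : Set G)

/-- the action of the normaliser on the central quotient -/
noncomputable def psi (S : Subgroup G) :
    ↥(Subgroup.normalizer (S : Set G)) →* MulAut (↥S ⧸ Subgroup.center ↥S) :=
  (toV ↥S).comp S.normalizerMonoidHom

omit [Finite G] in
theorem normalizerMonoidHom_coe (S : Subgroup G) (n : ↥(Subgroup.normalizer (S : Set G)))
    (s : ↥S) : ((S.normalizerMonoidHom n s : ↥S) : G) = (n : G) * (s : G) * (n : G)⁻¹ := rfl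

/-- the image of the fixer -/
noncomputable def gamma (S : Subgroup G) : Subgroup (MulAut (↥S ⧸ Subgroup.center ↥S)) :=
  ((fixer S).subgroupOf (Subgroup.normalizer (S : Set G))).map (psi S)

namespace Crit

variable (hc : Crit π G) (S : Sylow 2 G)
include hc

omit hc [Finite G] in
theorem le_fixer : (S : Subgroup G) ≤ fixer (S : Subgroup G) := fun s hs =>
  ⟨Subgroup.le_normalizer hs, Subgroup.mem_centralizer_iff.2 fun _ ha => (ha.2.2 s hs).symm⟩

omit hc in
theorem pow_mem_sylow {n : G} (hn : n ∈ Subgroup.normalizer ((S : Subgroup G) : Set G)) :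
    ∃ m : ℕ, Odd m ∧ n ^ m ∈ (S : Subgroup G) := by
  haveI : Fact (Nat.Prime 2) := ⟨Nat.prime_two⟩
  set N := Subgroup.normalizer ((S : Subgroup G) : Set G)
  haveI : ((S : Subgroup G).subgroupOf N).Normal :=
    Subgroup.normal_subgroupOf_of_le_normalizer le_rfl
  refine ⟨((S : Subgroup G).subgroupOf N).index, Nat.not_even_iff_odd.1 fun he => ?_, ?_⟩
  · have h1 : ((S : Subgroup G).relIndex N) ∣ (S : Subgroup G).index :=
      Subgroup.relIndex_dvd_index_of_le Subgroup.le_normalizer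
    exact S.not_dvd_index (he.two_dvd.trans h1)
  · have h1 := Subgroup.pow_index_mem ((S : Subgroup G).subgroupOf N) ⟨n, hn⟩
    rwa [Subgroup.mem_subgroupOf, Subgroup.coe_pow] at h1

/-- An element of `N(S)` fixing one involution of `S` fixes all. -/
theorem fix_all {n a b : G} (hn : n ∈ Subgroup.normalizer ((S : Subgroup G) : Set G))
    (ha : a ∈ zInv (S : Subgroup G)) (ha1 : a ≠ 1) (hfix : n * a * n⁻¹ = a)
    (hb : b ∈ zInv (S : Subgroup G)) : n * b * n⁻¹ = b := by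
  by_cases hb1 : b = 1
  · simp [hb1]
  by_cases hab : a = b
  · rw [← hab, hfix]
  obtain ⟨m, ⟨k, hk⟩, hm⟩ := pow_mem_sylow S hn
  have h2 : Commute (n ^ 2) b := by
    have hsq : n ^ 2 * b * (n ^ 2)⁻¹ = n * (n * b * n⁻¹) * n⁻¹ := by rw [pow_two]; group
    refine conj_fix_iff.1 ?_
    rw [hsq]
    rcases zInv_cases (hc.card_zInv S) ha ha1 hb hb1 hab (conj_mem_zInv hn hb) with h | h | h | h
    · exact absurd (conj_eq_one_iff.1 h) hb1
    · refine absurd ?_ hab
      exact mul_left_cancel (a := n) (mul_right_cancel (b := n⁻¹) (hfix.trans h.symm))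
    · rw [h, h]
    · rw [h, show n * (a * b) * n⁻¹ = (n * a * n⁻¹) * (n * b * n⁻¹) by group, hfix, h,
        ← mul_assoc, ha.2.1, one_mul]
  have hmb : Commute (n ^ m) b := hb.2.2 _ hm
  rw [hk, pow_add, pow_mul, pow_one] at hmb
  rw [conj_fix_iff]
  have h3 : Commute (((n ^ 2) ^ k)⁻¹ * ((n ^ 2) ^ k * n)) b :=
    ((h2.pow_left k).inv_left).mul_left hmb
  rwa [inv_mul_cancel_left] at h3

theorem mem_fixer_of_fix {n a : G} (hn : n ∈ Subgroup.normalizer ((S : Subgroup G) : Set G))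
    (ha : a ∈ zInv (S : Subgroup G)) (ha1 : a ≠ 1) (hfix : n * a * n⁻¹ = a) :
    n ∈ fixer (S : Subgroup G) :=
  ⟨hn, Subgroup.mem_centralizer_iff.2 fun _ hb =>
    (conj_fix_iff.1 (hc.fix_all S hn ha ha1 hfix hb)).symm⟩

omit hc [Finite G] in
theorem fixer_fix {n a : G} (hn : n ∈ fixer (S : Subgroup G)) (ha : a ∈ zInv (S : Subgroup G)) :
    n * a * n⁻¹ = a := conj_fix_iff.2 (Subgroup.mem_centralizer_iff.1 hn.2 a ha).symm

/-- `N(S)` contains a cycle on the three involutions. -/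
theorem exists_cycle : ∃ x ∈ Subgroup.normalizer ((S : Subgroup G) : Set G),
    ∀ a ∈ zInv (S : Subgroup G), a ≠ 1 → x * a * x⁻¹ ≠ a := by
  obtain ⟨z, -, hz, -, hz1, -, -⟩ := hc.exists_zInv_pair S
  obtain ⟨x, hx, hxz⟩ := hc.exists_moved S hz hz1
  exact ⟨x, hx, fun a ha ha1 h => hxz (hc.fix_all S hx ha ha1 h hz)⟩

theorem cycle_apply {x a : G} (hx : x ∈ Subgroup.normalizer ((S : Subgroup G) : Set G))
    (hcyc : ∀ a ∈ zInv (S : Subgroup G), a ≠ 1 → x * a * x⁻¹ ≠ a)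
    (ha : a ∈ zInv (S : Subgroup G)) (ha1 : a ≠ 1) :
    x * (x * a * x⁻¹) * x⁻¹ = a * (x * a * x⁻¹) ∧ x * (a * (x * a * x⁻¹)) * x⁻¹ = a := by
  set b := x * a * x⁻¹ with hbdef
  have hb : b ∈ zInv (S : Subgroup G) := conj_mem_zInv hx ha
  have hb1 : b ≠ 1 := fun h => ha1 (conj_eq_one_iff.1 h)
  have hab : a ≠ b := fun h => hcyc a ha ha1 h.symm
  have hstep : x * b * x⁻¹ = a * b := by
    rcases zInv_cases (hc.card_zInv S) ha ha1 hb hb1 hab (conj_mem_zInv hx hb) with h | h | h | h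
    · exact absurd (conj_eq_one_iff.1 h) hb1
    · exfalso
      refine hcyc (a * b) (mul_mem ha hb) (fun h0 => hab ?_) ?_
      · rw [← inv_eq_of_mul_eq_one_right h0, inv_eq_of_mul_eq_one_right ha.2.1]
      · rw [show x * (a * b) * x⁻¹ = (x * a * x⁻¹) * (x * b * x⁻¹) by group, h, ← hbdef,
          zInv_comm hb ha]
    · exact absurd h (hcyc b hb hb1)
    · exact h
  refine ⟨hstep, ?_⟩
  rw [show x * (a * b) * x⁻¹ = (x * a * x⁻¹) * (x * b * x⁻¹) by group, hstep, ← hbdef,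
    zInv_comm ha hb, ← mul_assoc, hb.2.1, one_mul]

theorem cube_mem_fixer {n : G} (hn : n ∈ Subgroup.normalizer ((S : Subgroup G) : Set G)) :
    n ^ 3 ∈ fixer (S : Subgroup G) := by
  obtain ⟨z, -, hz, -, hz1, -, -⟩ := hc.exists_zInv_pair S
  refine hc.mem_fixer_of_fix S (pow_mem hn 3) hz hz1 ?_
  by_cases hf : ∀ a ∈ zInv (S : Subgroup G), a ≠ 1 → n * a * n⁻¹ ≠ a
  · obtain ⟨h1, h2⟩ := hc.cycle_apply S hn hf hz hz1
    calc n ^ 3 * z * (n ^ 3)⁻¹ = n * (n * (n * z * n⁻¹) * n⁻¹) * n⁻¹ := by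
          rw [pow_succ, pow_two]; group
      _ = z := by rw [h1, h2]
  · push Not at hf
    obtain ⟨a, ha, ha1, hfix⟩ := hf
    exact conj_fix_iff.2 (Commute.pow_left (conj_fix_iff.1 (hc.fix_all S hn ha ha1 hfix hz)) 3)

theorem exists_coset {x : G} (hx : x ∈ Subgroup.normalizer ((S : Subgroup G) : Set G))
    (hcyc : ∀ a ∈ zInv (S : Subgroup G), a ≠ 1 → x * a * x⁻¹ ≠ a)
    {m : G} (hm : m ∈ Subgroup.normalizer ((S : Subgroup G) : Set G)) :
    ∃ i : Fin 3, (x ^ (i : ℕ))⁻¹ * m ∈ fixer (S : Subgroup G) := by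
  obtain ⟨a, -, ha, -, ha1, -, -⟩ := hc.exists_zInv_pair S
  obtain ⟨h1, h2⟩ := hc.cycle_apply S hx hcyc ha ha1
  have key : ∀ i : Fin 3, m * a * m⁻¹ = x ^ (i : ℕ) * a * (x ^ (i : ℕ))⁻¹ →
      (x ^ (i : ℕ))⁻¹ * m ∈ fixer (S : Subgroup G) := fun i h => by
    refine hc.mem_fixer_of_fix S (mul_mem (inv_mem (pow_mem hx _)) hm) ha ha1 ?_
    calc (x ^ (i : ℕ))⁻¹ * m * a * ((x ^ (i : ℕ))⁻¹ * m)⁻¹
        = (x ^ (i : ℕ))⁻¹ * (m * a * m⁻¹) * x ^ (i : ℕ) := by group
      _ = a := by rw [h]; group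
  rcases zInv_cases (hc.card_zInv S) ha ha1 (conj_mem_zInv hx ha)
      (fun h => ha1 (conj_eq_one_iff.1 h)) (fun h => hcyc a ha ha1 h.symm) (conj_mem_zInv hm ha)
    with h | h | h | h
  · exact absurd (conj_eq_one_iff.1 h) ha1
  · exact ⟨0, key 0 (by simpa using h)⟩
  · exact ⟨1, key 1 (by simpa using h)⟩
  · refine ⟨2, key 2 ?_⟩
    rw [h, ← h1]
    simp only [Fin.val_two, pow_two]
    group

section Herm

variable (h : HermLike ↥(S : Subgroup G) 4)
include h

omit hc [Finite G] in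
theorem mem_center_iff (s : ↥(S : Subgroup G)) :
    s ∈ Subgroup.center ↥(S : Subgroup G) ↔ (s : G) ∈ zInv (S : Subgroup G) := by
  constructor
  · intro hs
    refine ⟨s.2, congrArg Subtype.val (h.center_sq s hs), fun t ht => ?_⟩
    exact congrArg Subtype.val (Subgroup.mem_center_iff.1 hs ⟨t, ht⟩)
  · intro hs
    exact Subgroup.mem_center_iff.2 fun t => Subtype.ext (hs.2.2 t t.2)

omit hc [Finite G] in
theorem psi_eq_one_of_mem {s : G} (hs : s ∈ (S : Subgroup G)) :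
    psi (S : Subgroup G) ⟨s, Subgroup.le_normalizer hs⟩ = 1 := by
  refine MulEquiv.ext fun v => ?_
  induction v using QuotientGroup.induction_on with
  | _ t =>
    rw [psi, MonoidHom.comp_apply, toV_mk, MulAut.one_apply, mk_eq_iff_exists]
    refine ⟨InvCharSixtyFour.cm t⁻¹ ⟨s, hs⟩, h.cm_mem _ _, Subtype.ext ?_⟩
    simp only [normalizerMonoidHom_coe, InvCharSixtyFour.cm, Subgroup.coe_mul, Subgroup.coe_inv,
      inv_inv]
    group

omit hc [Finite G] in
theorem gamma_col {γ : MulAut (↥(S : Subgroup G) ⧸ Subgroup.center ↥(S : Subgroup G))}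
    (hγ : γ ∈ gamma (S : Subgroup G)) (v) : sqCol (γ v) = sqCol v := by
  obtain ⟨n, hn, rfl⟩ := hγ
  rw [psi, MonoidHom.comp_apply, sqCol_toV h]
  apply Subtype.ext
  rw [normalizerMonoidHom_coe]
  refine fixer_fix S (Subgroup.mem_subgroupOf.1 hn) ((mem_center_iff S h _).1 ?_)
  exact h.sq_mem _

omit hc in
theorem gamma_odd : Odd (Nat.card ↥(gamma (S : Subgroup G))) := by
  haveI : Fact (Nat.Prime 2) := ⟨Nat.prime_two⟩
  refine Nat.not_even_iff_odd.1 fun he => ?_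
  obtain ⟨⟨g, n, hn, rfl⟩, hg⟩ := exists_prime_orderOf_dvd_card' 2 he.two_dvd
  rw [← Subgroup.orderOf_coe] at hg
  obtain ⟨m, hm, hmS⟩ := pow_mem_sylow S n.2
  have h1 : psi (S : Subgroup G) n ^ m = 1 := by
    rw [← map_pow, show n ^ m = ⟨(n : G) ^ m, Subgroup.le_normalizer hmS⟩ from Subtype.ext (by simp)]
    exact psi_eq_one_of_mem S h hmS
  exact Nat.not_even_iff_odd.2 hm (even_iff_two_dvd.2 (hg ▸ orderOf_dvd_of_pow_eq_one h1))

theorem colouring : ∃ c : Fin 3 → ↥(S : Subgroup G),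
    IsColouring (sqCol (T := ↥(S : Subgroup G))) c := by
  obtain ⟨x, hx, hcyc⟩ := hc.exists_cycle S
  obtain ⟨z, -, hz, -, hz1, -, -⟩ := hc.exists_zInv_pair S
  obtain ⟨h1, h2⟩ := hc.cycle_apply S hx hcyc hz hz1
  refine ⟨_, isColouring h ((S : Subgroup G).normalizerMonoidHom ⟨x, hx⟩) (z := ⟨z, hz.1⟩)
    ((mem_center_iff S h _).2 hz) (fun e => hz1 (congrArg Subtype.val e))
    (fun e => hcyc z hz hz1 (congrArg Subtype.val e)) fun e => ?_⟩
  have e' := congrArg Subtype.val e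
  simp only [normalizerMonoidHom_coe] at e'
  rw [h1] at e'
  exact (fun h0 => hz1 (conj_eq_one_iff.1 h0)) (mul_eq_left.1 e')

theorem gamma_card : Nat.card ↥(gamma (S : Subgroup G)) ∣ 5 := by
  obtain ⟨c, hV⟩ := hc.colouring S h
  exact hV.card_dvd_five (gamma_odd S h) fun γ hγ v => gamma_col S h hγ v

/-- `N(S)` centralises the image of the fixer. -/
theorem gamma_central {γ : MulAut (↥(S : Subgroup G) ⧸ Subgroup.center ↥(S : Subgroup G))}
    (hγ : γ ∈ gamma (S : Subgroup G)) (m : ↥(Subgroup.normalizer ((S : Subgroup G) : Set G))) :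
    psi (S : Subgroup G) m * γ = γ * psi (S : Subgroup G) m := by
  haveI : Fact (Nat.Prime 5) := ⟨by norm_num⟩
  have hfix : ∀ (k : ↥(Subgroup.normalizer ((S : Subgroup G) : Set G))), (k : G) ∈ fixer (S : Subgroup G) →
      psi (S : Subgroup G) k ∈ gamma (S : Subgroup G) := fun k hk => ⟨k, Subgroup.mem_subgroupOf.2 hk, rfl⟩
  rcases (Nat.dvd_prime Fact.out).1 (hc.gamma_card S h) with h1 | h5
  · haveI := (Nat.card_eq_one_iff_unique.1 h1).1
    have : γ = 1 := congrArg Subtype.val (Subsingleton.elim (⟨γ, hγ⟩ : ↥(gamma (S : Subgroup G))) 1)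
    simp [this]
  by_cases hγ1 : γ = 1
  · simp [hγ1]
  set μ := psi (S : Subgroup G) m with hμ
  have hgen : ∀ δ ∈ gamma (S : Subgroup G), ∃ j : ℕ, δ = γ ^ j := by
    intro δ hδ
    have hz := mem_zpowers_of_prime_card (G := ↥(gamma (S : Subgroup G))) h5
      (g := ⟨γ, hγ⟩) (g' := ⟨δ, hδ⟩) (fun e => hγ1 (congrArg Subtype.val e))
    obtain ⟨j, hj⟩ := (IsOfFinOrder.mem_powers_iff_mem_zpowers (isOfFinOrder_of_finite _)).2 hz
    exact ⟨j, by have := congrArg Subtype.val hj; simpa using this.symm⟩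
  have hconj : μ * γ * μ⁻¹ ∈ gamma (S : Subgroup G) := by
    obtain ⟨n, hn, rfl⟩ := hγ
    rw [hμ, ← map_inv, ← map_mul, ← map_mul]
    refine hfix _ ?_
    obtain ⟨z, -, hz, -, hz1, -, -⟩ := hc.exists_zInv_pair S
    refine hc.mem_fixer_of_fix S (m * n * m⁻¹).2 hz hz1 ?_
    simp only [Subgroup.coe_mul, Subgroup.coe_inv]
    have h2 := fixer_fix S (Subgroup.mem_subgroupOf.1 hn) (conj_mem_zInv (inv_mem m.2) hz)
    rw [inv_inv] at h2
    calc (m : G) * n * (m : G)⁻¹ * z * ((m : G) * n * (m : G)⁻¹)⁻¹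
        = m * (n * ((m : G)⁻¹ * z * m) * (n : G)⁻¹) * (m : G)⁻¹ := by group
      _ = z := by rw [h2]; group
  obtain ⟨j, hj⟩ := hgen _ hconj
  have hpow : ∀ t : ℕ, μ ^ t * γ * (μ ^ t)⁻¹ = γ ^ j ^ t := by
    intro t
    induction t with
    | zero => simp
    | succ t ih =>
      calc μ ^ (t + 1) * γ * (μ ^ (t + 1))⁻¹ = μ * (μ ^ t * γ * (μ ^ t)⁻¹) * μ⁻¹ := by
            rw [pow_succ']; group
        _ = (μ * γ * μ⁻¹) ^ j ^ t := by rw [ih, conj_pow]
        _ = γ ^ j ^ (t + 1) := by rw [hj, ← pow_mul, pow_succ']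
  have h3 : μ ^ 3 * γ * (μ ^ 3)⁻¹ = γ := by
    obtain ⟨i, hi⟩ := hgen (μ ^ 3) (by
      rw [hμ, ← map_pow]; exact hfix _ (by rw [Subgroup.coe_pow]; exact hc.cube_mem_fixer S m.2))
    rw [hi, ← pow_succ, pow_succ', mul_inv_cancel_right]
  rw [hpow 3] at h3
  have hord : orderOf γ = 5 := by
    have h6 := orderOf_dvd_natCard (⟨γ, hγ⟩ : ↥(gamma (S : Subgroup G)))
    rw [Subgroup.orderOf_mk, h5] at h6
    exact ((Nat.dvd_prime Fact.out).1 h6).resolve_left fun h0 => hγ1 (orderOf_eq_one_iff.1 h0)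
  have hj1 : j % 5 = 1 := by
    have h4 : γ ^ j ^ 3 = γ ^ 1 := by rw [pow_one]; exact h3
    rw [pow_eq_pow_iff_modEq, hord, Nat.ModEq, Nat.pow_mod] at h4
    have hlt : j % 5 < 5 := Nat.mod_lt _ (by norm_num)
    interval_cases h8 : j % 5 <;> omega
  have : μ * γ * μ⁻¹ = γ := by
    rw [hj, ← pow_mod_orderOf, hord, hj1, pow_one]
  exact mul_inv_eq_iff_eq_mul.1 this

end Herm

end Crit

end CfsgLib.PiHom
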