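import Cfsg.Agent.Lib.PiHom.UnitarySylow
import Cfsg.Agent.Lib.TwoGroups.ControlledTransfer
import Mathlib.GroupTheory.Transfer

/-!
# No automorphism of order five

The fixer of the three involutions acts trivially on `S`: otherwise the transfer to the image
gives a non-trivial homomorphism onto a group of order five.
-/

set_option autoImplicit false
set_option linter.style.haveILetI false

namespace CfsgLib.PiHom

open CfsgLib.InvCharSixtyFour (HermLike)
open CfsgLib.OddOrder (SylowOf)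

universe u

variable {π : Set ℕ} {G : Type u} [Group G] [Finite G]

omit [Finite G] in
theorem conj_pow_mem_normalizer {T : Subgroup G} {g : G}
    (hg : g ∈ Subgroup.normalizer (T : Set G)) {a : G} (ha : a ∈ T) : g * a * g⁻¹ ∈ T :=
  (Subgroup.mem_normalizer_iff.1 hg a).1 ha

/-- An element of order prime to six normalising a group of order four centralises it. -/
theorem commute_of_card_four {A : Subgroup G} (h4 : Nat.card ↥A = 4) {g : G}
    (hg : g ∈ Subgroup.normalizer (A : Set G)) (ho : (orderOf g).Coprime 6) {a : G} (ha : a ∈ A) :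
    g * a = a * g := by
  let f : ↥(Subgroup.normalizer (A : Set G)) →* Equiv.Perm ↥A :=
    { toFun := fun n => (A.normalizerMonoidHom n).toEquiv
      map_one' := by rw [map_one]; rfl
      map_mul' := fun m n => by rw [map_mul]; rfl }
  have h1 : orderOf (f ⟨g, hg⟩) ∣ orderOf g := by
    have := orderOf_map_dvd f ⟨g, hg⟩
    rwa [Subgroup.orderOf_mk] at this
  have h2 : orderOf (f ⟨g, hg⟩) ∣ 2 ^ 3 * 3 := by
    have := orderOf_dvd_natCard (f ⟨g, hg⟩)
    rwa [Nat.card_perm, h4] at this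
  have h3 : (orderOf g).Coprime (2 ^ 3 * 3) := by
    rw [Nat.coprime_mul_iff_right] at *
    rw [show (6 : ℕ) = 2 * 3 from rfl, Nat.coprime_mul_iff_right] at ho
    exact ⟨ho.1.pow_right 3, ho.2⟩
  have h5 : f ⟨g, hg⟩ = 1 :=
    orderOf_eq_one_iff.1 (Nat.eq_one_of_dvd_coprimes h3 h1 h2)
  exact mul_inv_eq_iff_eq_mul.1 (congrArg Subtype.val (Equiv.ext_iff.1 h5 ⟨a, ha⟩))

namespace Crit

variable (hc : Crit π G) (S : Sylow 2 G)
include hc

omit hc in
theorem normalizer_zInv_ge : fixer (S : Subgroup G) ≤ Subgroup.normalizer (zInv (S : Subgroup G) : Set G) :=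
  fun _ hx => normalizer_le_normalizer_zInv _ hx.1

theorem zInv_ne_bot : zInv (S : Subgroup G) ≠ ⊥ := fun h0 => by
  have h1 := hc.card_zInv S
  rw [h0, Subgroup.card_bot] at h1
  omega

theorem normalizer_zInv_ne_top : Subgroup.normalizer (zInv (S : Subgroup G) : Set G) ≠ ⊤ := by
  haveI : Fact (Nat.Prime 2) := ⟨Nat.prime_two⟩
  exact hc.normalizer_ne_top (hc.zInv_ne_bot S)
    (hc.ne_top_of_isPGroup (S.isPGroup'.to_le (zInv_le _)))

theorem centralizer_zInv_ne_top : Subgroup.centralizer (zInv (S : Subgroup G) : Set G) ≠ ⊤ :=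
  fun h => hc.normalizer_zInv_ne_top S (top_le_iff.1 (h ▸ Subgroup.centralizer_le_normalizer _))

/-- The decomposition of `C(zInv S)`. -/
theorem centralizer_zInv_decomp {u : G}
    (hu : u ∈ Subgroup.centralizer (zInv (S : Subgroup G) : Set G)) :
    ∃ k ∈ core π (Subgroup.centralizer (zInv (S : Subgroup G) : Set G)),
      ∃ w ∈ fixer (S : Subgroup G), u = k * w := by
  haveI : Fact (Nat.Prime 2) := ⟨Nat.prime_two⟩
  have hSC : (S : Subgroup G) ≤ Subgroup.centralizer (zInv (S : Subgroup G) : Set G) :=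
    fun s hs => (le_fixer S hs).2
  obtain ⟨k, hk, n, hn1, hn2, e⟩ := hc.exists_mul_normalizer (hc.centralizer_zInv_ne_top S)
    (OddOrder.sylowOf_of_sylow S hSC) hu
  exact ⟨k, hk, n, ⟨hn2, hn1⟩, e⟩

variable {P : Subgroup G} (h5π : 5 ∈ π) (hP : SylowOf 5 P (fixer (S : Subgroup G)))
include h5π hP

/-- 5-subgroups normalising a part of `P` are moved into `P`. -/
theorem five_step {Y : Subgroup G} (hY : Y ≠ ⊥) (hYP : Y ≤ P) {Z : Subgroup G}
    (hZU : Z ≤ Subgroup.normalizer (Y : Set G)) (hZ : IsPGroup 5 ↥Z) :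
    ∃ n ∈ Subgroup.normalizer (zInv (S : Subgroup G) : Set G),
      ∃ c ∈ Subgroup.centralizer (Y : Set G), conjBy (n * c) Z ≤ P := by
  haveI : Fact (Nat.Prime 2) := ⟨Nat.prime_two⟩
  haveI : Fact (Nat.Prime 5) := ⟨by norm_num⟩
  set A := zInv (S : Subgroup G) with hAdef
  set U := Subgroup.normalizer (Y : Set G) with hUdef
  have hY5 : IsPGroup 5 ↥Y := hP.2.1.to_le hYP
  have hU : U ≠ ⊤ := hc.normalizer_ne_top hY (hc.ne_top_of_isPGroup hY5)
  have hAU : A ≤ U := fun a ha => by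
    refine Subgroup.centralizer_le_normalizer _ (Subgroup.mem_centralizer_iff.2 fun y hy => ?_)
    exact (Subgroup.mem_centralizer_iff.1 (hP.1 (hYP hy)).2 a ha).symm
  obtain ⟨T, hT, hAT⟩ := OddOrder.exists_sylowOf_ge hAU (S.isPGroup'.to_le (zInv_le _))
  obtain ⟨g, hg⟩ := exists_le_conjBy hT.2.1 S
  -- the involutions of `T` are those of `A`
  have hinvol : ∀ t ∈ T, t * t = 1 → t ∈ conjBy g A := fun t ht ht2 => by
    have h1 := conjBy_le.1 (conjBy_inv_le hg) t ht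
    rw [inv_inv] at h1
    refine mem_conjBy.2 ⟨g⁻¹ * t * g, hc.mem_zInv_of_sq S h1 ?_, by group⟩
    calc g⁻¹ * t * g * (g⁻¹ * t * g) = g⁻¹ * (t * t) * g := by group
      _ = 1 := by rw [ht2]; group
  have hgA : conjBy g A = A := by
    refine (Subgroup.eq_of_le_of_card_ge (fun a ha => hinvol a (hAT ha) ha.2.1) ?_).symm
    rw [card_conjBy]
  have hNT : ∀ n ∈ Subgroup.normalizer (T : Set G), n ∈ Subgroup.normalizer (A : Set G) := by
    intro n hn
    refine mem_normalizer_of_conjBy_le (conjBy_le.2 fun a ha => ?_)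
    rw [← hgA]
    refine hinvol _ (conj_pow_mem_normalizer hn (hAT ha)) ?_
    calc n * a * n⁻¹ * (n * a * n⁻¹) = n * (a * a) * n⁻¹ := by group
      _ = 1 := by rw [ha.2.1]; group
  set W := U ⊓ Subgroup.normalizer (A : Set G) with hWdef
  have hdec : ∀ u ∈ U, ∃ k ∈ core π U, ∃ w ∈ W, u = k * w := fun u hu => by
    obtain ⟨k, hk, n, hn1, hn2, e⟩ := hc.exists_mul_normalizer hU hT hu
    exact ⟨k, hk, n, ⟨hn1, hNT n hn2⟩, e⟩
  obtain ⟨Q, hQ, -⟩ := OddOrder.exists_sylowOf_ge (Q := (⊥ : Subgroup G)) (M := W) bot_le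
    (IsPGroup.of_bot : IsPGroup 5 _)
  obtain ⟨k, hk, w, hw, hkw⟩ := hc.exists_core_conj h5π hU inf_le_left hdec hQ hZU hZ
  -- now inside the normaliser of `A`
  set Z' := conjBy k Z with hZ'
  have hZ'N : Z' ≤ Subgroup.normalizer (A : Set G) := fun y hy => by
    have h1 : w * y * w⁻¹ ∈ W := by
      refine hQ.1 (hkw ?_)
      rw [conjBy_mul]
      exact conj_mem_conjBy hy
    have h2 := (mul_mem (mul_mem (inv_mem hw) h1) hw).2
    rwa [show w⁻¹ * (w * y * w⁻¹) * w = y by group] at h2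
  have hZ'C : Z' ≤ Subgroup.centralizer (A : Set G) := fun y hy => by
    refine Subgroup.mem_centralizer_iff.2 fun a ha =>
      (commute_of_card_four (hc.card_zInv S) (hZ'N hy) ?_ ha).symm
    obtain ⟨j, hj⟩ := IsPGroup.iff_orderOf.1 (isPGroup_conjBy k hZ) ⟨y, hy⟩
    rw [Subgroup.orderOf_mk] at hj
    rw [hj]
    exact Nat.Coprime.pow_left j (by norm_num)
  obtain ⟨k', hk', w', hw', hle⟩ := hc.exists_core_conj h5π (hc.centralizer_zInv_ne_top S)
    (inf_le_right : fixer (S : Subgroup G) ≤ _)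
    (fun u hu => hc.centralizer_zInv_decomp S hu) hP hZ'C (isPGroup_conjBy k hZ)
  refine ⟨w' * k', mul_mem (normalizer_zInv_ge S hw')
    (Subgroup.centralizer_le_normalizer _ (core_le _ hk')), k,
    hc.core_le_centralizer hU (piNum_of_isPGroup h5π hY5) le_rfl hk, ?_⟩
  rw [conjBy_mul]
  exact hle

/-- Fusion in `P` is controlled by `N(zInv S)`. -/
theorem five_control (hne : P ≠ ⊥) {Y : Subgroup G} (hY : Y ≠ ⊥) (hYP : Y ≤ P) {g : G}
    (hg : conjBy g Y ≤ P) :
    ∃ n ∈ Subgroup.normalizer (zInv (S : Subgroup G) : Set G),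
      ∃ c ∈ Subgroup.centralizer (Y : Set G), g = n * c := by
  haveI : Fact (Nat.Prime 5) := ⟨by norm_num⟩
  refine control_induction hP.2.1 (fun g hg => ?_)
    (fun Y hY hlt _ Z hZ hZ5 => hc.five_step S h5π hP hY hlt.le hZ hZ5) hY hYP hg
  have hgN : g ∈ Subgroup.normalizer (P : Set G) := mem_normalizer_of_conjBy_le hg
  haveI : Fact (Nat.Prime 2) := ⟨Nat.prime_two⟩
  set A := zInv (S : Subgroup G)
  set U := Subgroup.normalizer (P : Set G) with hUdef
  have hU : U ≠ ⊤ := hc.normalizer_ne_top hne (hc.ne_top_of_isPGroup hP.2.1)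
  have hAU : A ≤ U := fun a ha => by
    refine Subgroup.centralizer_le_normalizer _ (Subgroup.mem_centralizer_iff.2 fun y hy => ?_)
    exact (Subgroup.mem_centralizer_iff.1 (hP.1 hy).2 a ha).symm
  obtain ⟨T, hT, hAT⟩ := OddOrder.exists_sylowOf_ge hAU (S.isPGroup'.to_le (zInv_le _))
  obtain ⟨k, hk, n, hn1, hn2, rfl⟩ := hc.exists_mul_normalizer hU hT hgN
  obtain ⟨h, hh⟩ := exists_le_conjBy hT.2.1 S
  have hinvol : ∀ t ∈ T, t * t = 1 → t ∈ conjBy h A := fun t ht ht2 => by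
    have h1 := conjBy_le.1 (conjBy_inv_le hh) t ht
    rw [inv_inv] at h1
    refine mem_conjBy.2 ⟨h⁻¹ * t * h, hc.mem_zInv_of_sq S h1 ?_, by group⟩
    calc h⁻¹ * t * h * (h⁻¹ * t * h) = h⁻¹ * (t * t) * h := by group
      _ = 1 := by rw [ht2]; group
  have hhA : A = conjBy h A :=
    Subgroup.eq_of_le_of_card_ge (fun a ha => hinvol a (hAT ha) ha.2.1) (card_conjBy _ _).le
  refine ⟨n, mem_normalizer_of_conjBy_le (conjBy_le.2 fun a ha => ?_), n⁻¹ * k * n,
    hc.core_le_centralizer hU (piNum_of_isPGroup h5π hP.2.1) le_rfl (conj_mem_core' hn1 hk), by group⟩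
  rw [hhA]
  refine hinvol _ (conj_pow_mem_normalizer hn2 (hAT ha)) ?_
  calc n * a * n⁻¹ * (n * a * n⁻¹) = n * (a * a) * n⁻¹ := by group
    _ = 1 := by rw [ha.2.1]; group

theorem five_index : ¬ 5 ∣ P.index ∨ P = ⊥ := by
  haveI : Fact (Nat.Prime 5) := ⟨by norm_num⟩
  by_cases hne : P = ⊥
  · exact Or.inr hne
  refine Or.inl ?_
  obtain ⟨Q, hQ⟩ := hP.2.1.exists_le_sylow
  rcases hQ.eq_or_lt with heq | hlt
  · rw [heq]; exact Q.not_dvd_index
  exfalso
  have hgrow := CfsgLib.OddOrder.Transitivity.normalizer_grows Q.isPGroup' hlt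
  obtain ⟨n, -, c, -, hle⟩ := hc.five_step S h5π hP hne le_rfl
    (Z := Subgroup.normalizer (P : Set G) ⊓ (Q : Subgroup G)) inf_le_left
    (Q.isPGroup'.to_le inf_le_right)
  have h1 := Subgroup.card_le_of_le hle
  rw [card_conjBy] at h1
  omega

omit h5π hP in
theorem gamma_eq_bot (h : HermLike ↥(S : Subgroup G) 4) : gamma (S : Subgroup G) = ⊥ := by
  haveI := hc.simple
  haveI h5 : Fact (Nat.Prime 5) := ⟨by norm_num⟩
  haveI : Fact (Nat.Prime 2) := ⟨Nat.prime_two⟩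
  rw [← Subgroup.card_eq_one]
  refine ((Nat.dvd_prime h5.out).1 (hc.gamma_card S h)).resolve_right fun hcard => ?_
  set N := Subgroup.normalizer ((S : Subgroup G) : Set G) with hN
  -- an element of 5-power order with non-trivial image
  obtain ⟨γ, hγ⟩ := exists_prime_orderOf_dvd_card' 5 (dvd_of_eq hcard.symm)
  obtain ⟨n, hn, hnγ⟩ := γ.2
  obtain ⟨e, m, hm, hem⟩ := Nat.exists_eq_pow_mul_and_not_dvd (orderOf_pos n).ne' 5 (by norm_num)
  set n₀ := n ^ m with hn₀
  have hn₀5 : ∃ j, orderOf (n₀ : G) = 5 ^ j := by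
    obtain ⟨j, -, hj⟩ := (Nat.dvd_prime_pow h5.out).1 (orderOf_dvd_of_pow_eq_one (x := n₀) (n := 5 ^ e)
      (by rw [hn₀, ← pow_mul, mul_comm, ← hem, pow_orderOf_eq_one]))
    exact ⟨j, by rw [Subgroup.orderOf_coe, hj]⟩
  have hn₀F : (n₀ : G) ∈ fixer (S : Subgroup G) := by
    rw [hn₀, Subgroup.coe_pow]; exact pow_mem (Subgroup.mem_subgroupOf.1 hn) m
  have hψ : psi (S : Subgroup G) n₀ ≠ 1 := by
    rw [hn₀, map_pow, hnγ, ← Subgroup.coe_pow]
    intro h0
    have h1 := orderOf_dvd_of_pow_eq_one (x := γ) (n := m) (Subtype.ext (by rw [h0]; rfl))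
    exact hm (hγ ▸ h1)
  by_cases h5π : 5 ∈ π
  swap
  · -- a π'-element of `N(S)` centralises `S`
    obtain ⟨j, hj⟩ := hn₀5
    have hcen := hc.mem_centralizer_of_primeTo (piNum_of_isPGroup hc.two_mem S.isPGroup') n₀.2
      (fun r hr hd => by
        rw [hj] at hd
        rwa [(Nat.prime_dvd_prime_iff_eq hr h5.out).1 (hr.dvd_of_dvd_pow hd)])
    refine hψ (MulEquiv.ext fun v => ?_)
    induction v using QuotientGroup.induction_on with
    | _ t =>
      rw [psi, MonoidHom.comp_apply, toV_mk, MulAut.one_apply]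
      congr 1
      apply Subtype.ext
      rw [normalizerMonoidHom_coe, ← Subgroup.mem_centralizer_iff.1 hcen t t.2,
        mul_inv_cancel_right]
  obtain ⟨P, hP, hnP⟩ := OddOrder.exists_sylowOf_ge (Subgroup.zpowers_le.2 hn₀F)
    (IsPGroup.of_card (p := 5) (n := hn₀5.choose) (by rw [Nat.card_zpowers]; exact hn₀5.choose_spec))
  have hn₀P : (n₀ : G) ∈ P := hnP (Subgroup.mem_zpowers _)
  have hPne : P ≠ ⊥ := fun h0 => hψ (by
    rw [h0, Subgroup.mem_bot] at hn₀P
    rw [show n₀ = 1 from Subtype.ext hn₀P, map_one])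
  haveI : IsCyclic ↥(gamma (S : Subgroup G)) := isCyclic_of_prime_card hcard
  letI : CommGroup ↥(gamma (S : Subgroup G)) := IsCyclic.commGroup
  have hPN : P ≤ N := hP.1.trans inf_le_left
  let φ : ↥P →* ↥(gamma (S : Subgroup G)) :=
    ((psi (S : Subgroup G)).comp (Subgroup.inclusion hPN)).codRestrict _ fun y =>
      ⟨_, Subgroup.mem_subgroupOf.2 (hP.1 y.2), rfl⟩
  have key : ∀ (k : ℕ) (a : G) (ha : a⁻¹ * (n₀ : G) ^ k * a ∈ P),
      φ ⟨a⁻¹ * (n₀ : G) ^ k * a, ha⟩ = φ ⟨n₀, hn₀P⟩ ^ k := by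
    intro k a ha
    set y := (n₀ : G) ^ k with hy
    have hyP : y ∈ P := pow_mem hn₀P k
    rw [← map_pow]
    by_cases hy1 : y = 1
    · congr 1
      refine Subtype.ext ?_
      show a⁻¹ * y * a = _
      rw [hy1, mul_one, inv_mul_cancel, SubmonoidClass.coe_pow, ← hy1]
    have hYne : Subgroup.zpowers y ≠ ⊥ := fun h0 => hy1 (Subgroup.zpowers_eq_bot.1 h0)
    obtain ⟨g, hg, c, hcc, heq⟩ := hc.five_control S h5π hP hPne hYne (Subgroup.zpowers_le.2 hyP)
      (g := a⁻¹) (by rw [conjBy, MonoidHom.map_zpowers, Subgroup.zpowers_le]; simpa using ha)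
    have hconj : a⁻¹ * y * a = g * y * g⁻¹ := by
      have h1 : c * y * c⁻¹ = y :=
        conj_fix_iff.2 (Subgroup.mem_centralizer_iff.1 hcc y (Subgroup.mem_zpowers y)).symm
      calc a⁻¹ * y * a = a⁻¹ * y * (a⁻¹)⁻¹ := by rw [inv_inv]
        _ = g * (c * y * c⁻¹) * g⁻¹ := by rw [heq]; group
        _ = _ := by rw [h1]
    -- decompose `g` and drop the core part
    have hSN : (S : Subgroup G) ≤ Subgroup.normalizer (zInv (S : Subgroup G) : Set G) :=
      fun s hs => normalizer_zInv_ge S (le_fixer S hs)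
    obtain ⟨l, hl, μ, hμ1, hμ2, rfl⟩ := hc.exists_mul_normalizer (hc.normalizer_zInv_ne_top S)
      (OddOrder.sylowOf_of_sylow S hSN) hg
    have hy'N : μ * y * μ⁻¹ ∈ N := mul_mem (mul_mem hμ2 (hPN hyP)) (inv_mem hμ2)
    set d := l * (μ * y * μ⁻¹) * l⁻¹ * (μ * y * μ⁻¹)⁻¹ with hd
    have hd1 : d ∈ core π (Subgroup.normalizer (zInv (S : Subgroup G) : Set G)) := by
      rw [hd, show l * (μ * y * μ⁻¹) * l⁻¹ * (μ * y * μ⁻¹)⁻¹ =
        l * ((μ * y * μ⁻¹) * l⁻¹ * (μ * y * μ⁻¹)⁻¹) by group]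
      exact mul_mem hl (conj_mem_core (Subgroup.le_normalizer (normalizer_le_normalizer_zInv _ hy'N))
        (inv_mem hl))
    have hgy : l * μ * y * (l * μ)⁻¹ = l * (μ * y * μ⁻¹) * l⁻¹ := by group
    have hd2 : d ∈ N := by
      refine mul_mem ?_ (inv_mem hy'N)
      rw [← hgy, ← hconj]
      exact hPN ha
    have hψd : psi (S : Subgroup G) ⟨d, hd2⟩ = 1 := by
      refine MulEquiv.ext fun v => ?_
      induction v using QuotientGroup.induction_on with
      | _ t =>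
        rw [psi, MonoidHom.comp_apply, toV_mk, MulAut.one_apply]
        congr 1
        apply Subtype.ext
        rw [normalizerMonoidHom_coe]
        exact conj_fix_iff.2 (hc.commute_of_core_of_normalizer hc.two_mem _ S.isPGroup'
          (hc.normalizer_zInv_ne_top S) hd1 hd2 t.2)
    refine Subtype.ext ?_
    show psi (S : Subgroup G) ⟨a⁻¹ * y * a, _⟩ = psi (S : Subgroup G) ⟨_, _⟩
    have e : (⟨a⁻¹ * y * a, hPN ha⟩ : ↥N) =
        ⟨d, hd2⟩ * (⟨μ, hμ2⟩ * ⟨y, hPN hyP⟩ * ⟨μ, hμ2⟩⁻¹) := by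
      apply Subtype.ext
      show a⁻¹ * y * a = d * (μ * y * μ⁻¹)
      rw [hconj, hd, hgy]; group
    have hcomm := hc.gamma_central S h (γ := psi (S : Subgroup G) ⟨y, hPN hyP⟩)
      ⟨_, Subgroup.mem_subgroupOf.2 (hP.1 hyP), rfl⟩ ⟨μ, hμ2⟩
    rw [e, map_mul, hψd, one_mul, map_mul, map_mul, hcomm, map_inv, mul_inv_cancel_right]
    exact congrArg (psi (S : Subgroup G)) (Subtype.ext (by simp [hy]))
  haveI : P.FiniteIndex := inferInstance
  have htr := CfsgLib.TwoGroups.transfer_eq_pow_of_controlled φ (n₀ : G) hn₀P key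
  have hker : (MonoidHom.transfer φ).ker = ⊤ := by
    refine ((inferInstance : (MonoidHom.transfer φ).ker.Normal).eq_bot_or_eq_top).resolve_left
      fun hb => hc.nonab ⟨⟨fun x y => ?_⟩⟩
    exact (MonoidHom.ker_eq_bot_iff _).1 hb (by rw [map_mul, map_mul, mul_comm])
  rw [MonoidHom.mem_ker.1 (hker ▸ Subgroup.mem_top (n₀ : G))] at htr
  have hidx := (hc.five_index S h5π hP).resolve_right hPne
  have hne : φ ⟨n₀, hn₀P⟩ ≠ 1 := fun h0 => hψ (congrArg Subtype.val h0)
  have h6 := orderOf_dvd_of_pow_eq_one htr.symm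
  have h7 : orderOf (φ ⟨n₀, hn₀P⟩) = 5 :=
    ((Nat.dvd_prime h5.out).1 (hcard ▸ orderOf_dvd_natCard _)).resolve_left fun h0 =>
      hne (orderOf_eq_one_iff.1 h0)
  exact hidx (h7 ▸ h6)

omit h5π hP in
/-- Elements of odd order of the fixer centralise `S`. -/
theorem odd_commute (h : HermLike ↥(S : Subgroup G) 4) {n : G} (hn : n ∈ fixer (S : Subgroup G))
    (hodd : Odd (orderOf n)) {s : G} (hs : s ∈ (S : Subgroup G)) : n * s = s * n := by
  set N := Subgroup.normalizer ((S : Subgroup G) : Set G)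
  have hψ : psi (S : Subgroup G) ⟨n, hn.1⟩ = 1 := by
    have h1 : psi (S : Subgroup G) ⟨n, hn.1⟩ ∈ gamma (S : Subgroup G) :=
      ⟨_, Subgroup.mem_subgroupOf.2 hn, rfl⟩
    rwa [hc.gamma_eq_bot S h, Subgroup.mem_bot] at h1
  have h2 := MulEquiv.ext_iff.1 hψ ((⟨s, hs⟩ : ↥(S : Subgroup G)) : _ ⧸ _)
  rw [psi, MonoidHom.comp_apply, toV_mk, MulAut.one_apply, mk_eq_iff_exists] at h2
  obtain ⟨a, ha, e⟩ := h2
  have e' := congrArg Subtype.val e
  simp only [normalizerMonoidHom_coe, Subgroup.coe_mul] at e'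
  have haA := (mem_center_iff S h a).1 ha
  have hsq : n ^ 2 * s * (n ^ 2)⁻¹ = s := by
    calc n ^ 2 * s * (n ^ 2)⁻¹ = n * (n * s * n⁻¹) * n⁻¹ := by rw [pow_two]; group
      _ = n * (s * (a : G)) * n⁻¹ := by rw [e']
      _ = (n * s * n⁻¹) * (n * (a : G) * n⁻¹) := by group
      _ = s := by rw [fixer_fix S hn haA, e', mul_assoc, haA.2.1, mul_one]
  obtain ⟨k, hk⟩ := hodd
  have h3 : (n ^ 2) ^ (k + 1) = n := by
    rw [← pow_mul, show 2 * (k + 1) = orderOf n + 1 by omega, pow_succ, pow_orderOf_eq_one, one_mul]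
  rw [← h3]
  exact ((show Commute (n ^ 2) s from conj_fix_iff.1 hsq).pow_left (k + 1)).eq

end Crit

end CfsgLib.PiHom
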